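import Cfsg.Agent.H55.U6C.Tools
import Cfsg.Agent.H50.U6C.Model
import Cfsg.Agent.H38.U6C.Stmts
import Cfsg.Agent.H99.LargeExtra
import Cfsg.Agent.H6.Basic
import Cfsg.Agent.H1.Cores

/-!
In the natural case the core is the 2-core of the centraliser, and it is large extraspecial.
-/

set_option autoImplicit false
set_option maxRecDepth 100000

namespace H55.U6C

open H38.U6C H50.U6C

theorem exists_nonorth : ∀ v : V, v = 0 ∨ ∃ i : Fin 45, herm (pnt i) v ≠ 0 := by decide +kernel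

theorem pnt_linked : ∀ i j : Fin 45, ∃ k : Fin 45, herm (pnt k) (pnt i) ≠ 0 ∧
    herm (pnt j) (pnt k) ≠ 0 := by decide +kernel

theorem sum_singular : ∀ v : V, qv v = false ∨
    ∃ a : V, qv a = false ∧ qv (vadd v a) = false := by decide +kernel

theorem inverse_four : ∀ c < 4, c ≠ 0 → ∃ d < 4, fmul d c = 1 := by decide +kernel

/-- A 2-subgroup normalised by all transvections is trivial. -/
theorem no_two_normal {N : Subgroup (Equiv.Perm V)} (hN : IsPGroup 2 N) (hle : N ≤ isom)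
    (hnorm : ∀ i, ∀ n ∈ N, tv i * n * tv i ∈ N) : N = ⊥ := by
  classical
  haveI : Fact (Nat.Prime 2) := ⟨Nat.prime_two⟩
  let S : Set V := {v | ∀ n ∈ N, n v = v}
  have h0 : ∀ n ∈ N, n (0 : V) = 0 := fun n hn => by
    have := isom_smul (hle hn) (c := 0) (by norm_num) 0
    rwa [smul4_zero_left, smul4_zero_left] at this
  have hadd : ∀ a ∈ S, ∀ b ∈ S, vadd a b ∈ S := fun a ha b hb n hn => by
    rw [(hle hn).1, ha n hn, hb n hn]
  have hsmul : ∀ c < 4, ∀ a ∈ S, smul4 c a ∈ S := fun c hc a ha n hn => by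
    rw [isom_smul (hle hn) hc, ha n hn]
  have htv : ∀ i, ∀ a ∈ S, tv i a ∈ S := fun i a ha n hn => by
    have h2 := ha _ (hnorm i n hn)
    simp only [Equiv.Perm.mul_apply] at h2
    calc n (tv i a) = tv i (tv i (n (tv i a))) := (tvFun_invol i _).symm
      _ = tv i a := by rw [h2]
  have hstep : ∀ i, ∀ a ∈ S, herm (pnt i) a ≠ 0 → pnt i ∈ S := fun i a ha hne => by
    have h1 := hadd a ha _ (htv i a ha)
    rw [tv_apply, ← H50.U6C.vadd_assoc, H50.U6C.vadd_self, H50.U6C.vadd_comm,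
      H50.U6C.vadd_zero'] at h1
    obtain ⟨d, hd, hdc⟩ := inverse_four _ (herm_lt _ _) hne
    have h2 := hsmul d hd _ h1
    rwa [smul4_smul4 hd (herm_lt _ _), hdc, smul4_one] at h2
  -- a nonzero fixed vector
  obtain ⟨v, hv, hv0⟩ : ∃ v ∈ S, v ≠ 0 := by
    have hfix0 : (0 : V) ∈ MulAction.fixedPoints N V := fun n => h0 n n.2
    have hdvd : 2 ∣ Nat.card V := by rw [Nat.card_eq_fintype_card, Fintype.card_fin]; norm_num
    obtain ⟨v, hv, hne⟩ :=
      hN.exists_fixed_point_of_prime_dvd_card_of_fixed_point V hdvd hfix0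
    exact ⟨v, fun n hn => hv ⟨n, hn⟩, fun e => hne e.symm⟩
  obtain ⟨i, hi⟩ := (exists_nonorth v).resolve_left hv0
  have hall : ∀ j, pnt j ∈ S := fun j => by
    obtain ⟨k, h1, h2⟩ := pnt_linked i j
    exact hstep j _ (hstep k _ (hstep i v hv hi) h1) h2
  have hsing : ∀ a : V, qv a = false → a ∈ S := fun a ha => by
    by_cases e : a = 0
    · exact e ▸ h0
    obtain ⟨j, c, hc, -, rfl⟩ := pnt_complete a ha e
    exact hsmul c hc _ (hall j)
  refine (Subgroup.eq_bot_iff_forall _).2 fun n hn => Equiv.ext fun a => ?_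
  rcases sum_singular a with h | ⟨b, hb, hab⟩
  · exact hsing a h n hn
  · have h3 := hadd _ (hsing _ hab) _ (hsing _ hb) n hn
    rw [H50.U6C.vadd_assoc, H50.U6C.vadd_self, H50.U6C.vadd_zero'] at h3
    exact h3

section

variable {G : Type*} [Group G] {z : G} {J : Subgroup G} {φ : G → V}
  {ρ : ↥(Subgroup.centralizer ({z} : Set G)) →* Equiv.Perm V}

theorem Core.extraspecial [Finite G] (c : Core z J) : Cfsg.IsExtraspecial 2 J := by
  have hJp : IsPGroup 2 J := IsPGroup.of_card (n := 9) c.card_J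
  haveI : Fact (Nat.Prime 2) := ⟨Nat.prime_two⟩
  have hzc : (⟨z, c.z_mem⟩ : J) ∈ Subgroup.center J :=
    Subgroup.mem_center_iff.2 fun a => Subtype.ext (c.comm_z a.2).eq
  have hcen : ∀ a : J, a ∈ Subgroup.center J ↔ (a : G) = 1 ∨ (a : G) = z := by
    intro a
    refine ⟨fun h => c.center a a.2 fun x hx =>
      (congrArg Subtype.val (Subgroup.mem_center_iff.1 h ⟨x, hx⟩)).symm, ?_⟩
    rintro (h | h)
    · rw [show a = 1 from Subtype.ext h]; exact one_mem _
    · rw [show a = ⟨z, c.z_mem⟩ from Subtype.ext h]; exact hzc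
  have hcard : Nat.card (Subgroup.center J) = 2 := by
    rw [Nat.card_eq_two_iff' (1 : Subgroup.center J)]
    refine ⟨⟨_, hzc⟩, fun h => c.ne_one (congrArg (fun x : Subgroup.center J => ((x : J) : G)) h), ?_⟩
    intro y hy
    rcases (hcen y).1 y.2 with h | h
    · exact absurd (Subtype.ext (Subtype.ext h)) hy
    · exact Subtype.ext (Subtype.ext h)
  obtain ⟨x, hx, y, hy, hxy⟩ : ∃ x ∈ J, ∃ y ∈ J, x * y = y * x * z := by
    by_contra hno
    push Not at hno
    have := c.card_le_of_abelian le_rfl fun x hx y hy =>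
      (c.comm_mem x hx y hy).resolve_right (hno x hx y hy)
    rw [c.card_J] at this
    omega
  have hder : commutator J = Subgroup.center J := by
    refine le_antisymm ?_ ?_
    · rw [commutator_def, Subgroup.commutator_le]
      intro p _ q _
      rw [hcen, commutatorElement_def]
      simp only [Subgroup.coe_mul, InvMemClass.coe_inv]
      rcases c.comm_mem _ p.2 _ q.2 with h | h
      · left; rw [h]; group
      · right
        rw [h, mul_assoc ((q : G) * p) z, (c.comm_z (inv_mem p.2)).symm.eq,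
          show (q : G) * p * ((p : G)⁻¹ * z) * (q : G)⁻¹ = q * z * (q : G)⁻¹ by group,
          mul_inv_eq_iff_eq_mul.2 (c.comm_z q.2).eq]
    · intro a ha
      rcases (hcen a).1 ha with h | h
      · rw [show a = 1 from Subtype.ext h]; exact one_mem _
      · have := Subgroup.commutator_mem_commutator (Subgroup.mem_top (⟨x, hx⟩ : J))
          (Subgroup.mem_top (⟨y, hy⟩ : J))
        rw [← commutator_def] at this
        convert this using 1
        refine Subtype.ext ?_
        rw [h, commutatorElement_def]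
        simp only [Subgroup.coe_mul, InvMemClass.coe_inv]
        rw [hxy, mul_assoc (y * x) z, (c.comm_z (inv_mem hx)).symm.eq,
          show y * x * (x⁻¹ * z) * y⁻¹ = y * z * y⁻¹ by group,
          mul_inv_eq_iff_eq_mul.2 (c.comm_z hy).eq]
  refine ⟨⟨hJp, ?_, hder⟩, hcard⟩
  refine le_antisymm ?_ (hder ▸ H6.commutator_le_frattini (p := 2) hJp)
  refine H6.frattini_le_of_quotient (p := 2) _ hder.le fun g => ?_
  rw [hcen, pow_two, Subgroup.coe_mul]
  exact c.sq_mem _ g.2

namespace Nat4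

theorem pol_comm (h : Nat4 z J φ ρ) {a b : G} (ha : a ∈ J) (hb : b ∈ J) :
    pol (φ a) (φ b) = false ↔ Commute a b := by
  have e := h.φ_comm a ha b hb
  constructor
  · intro hp
    rw [hp, if_neg (by simp), mul_one] at e
    exact e
  · intro hc
    by_contra hp
    rw [Bool.not_eq_false] at hp
    rw [hp, if_pos rfl, hc.eq] at e
    exact h.ne_one (mul_left_cancel (e.symm.trans (mul_one _).symm))

theorem φ_one (h : Nat4 z J φ ρ) : φ 1 = 0 := (h.φ_ker 1 (one_mem J)).2 (Or.inl rfl)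

theorem φ_eq (h : Nat4 z J φ ρ) {a b : G} (ha : a ∈ J) (hb : b ∈ J) (e : φ a = φ b) :
    Eqz z a b := by
  have hi : φ b⁻¹ = φ b := by
    have h1 := h.φ_mul _ (inv_mem hb) b hb
    rw [inv_mul_cancel, φ_one h] at h1
    calc φ b⁻¹ = vadd (vadd (φ b⁻¹) (φ b)) (φ b) := by rw [vadd_assoc, vadd_self, vadd_zero']
      _ = φ b := by rw [← h1, vadd_comm, vadd_zero']
  have h0 : φ (b⁻¹ * a) = 0 := by rw [h.φ_mul _ (inv_mem hb) a ha, hi, e, vadd_self]
  rcases (h.φ_ker _ (mul_mem (inv_mem hb) ha)).1 h0 with e' | e'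
  · exact Or.inl (inv_mul_eq_one.1 e').symm
  · exact Or.inr (inv_mul_eq_iff_eq_mul.1 e')

theorem φ_mul_z (h : Nat4 z J φ ρ) {a : G} (ha : a ∈ J) : φ (a * z) = φ a := by
  rw [h.φ_mul a ha z h.z_mem, (h.φ_ker z h.z_mem).2 (Or.inr rfl), vadd_zero']

theorem φ_eqz (h : Nat4 z J φ ρ) {a b : G} (hb : b ∈ J) (e : Eqz z a b) : φ a = φ b := by
  rcases e with rfl | rfl
  · rfl
  · exact φ_mul_z h hb

theorem core (h : Nat4 z J φ ρ) : Core z J where
  sq := h.sq
  ne_one := h.ne_one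
  le_cent := h.le_cent
  z_mem := h.z_mem
  card_J := h.card_J
  conj_mem := fun g hg => h.conj_mem g (mem_cent.2 hg)
  sq_mem := fun a ha => by
    rw [h.φ_sq a ha]
    split_ifs
    · exact Or.inr rfl
    · exact Or.inl rfl
  comm_mem := fun a ha b hb => by
    rw [h.φ_comm a ha b hb]
    split_ifs
    · exact Or.inr rfl
    · exact Or.inl (mul_one _)
  center := fun a ha hc => by
    refine (h.φ_ker a ha).1 ((show ∀ v : V, (∀ k : Fin 8, pol v ⟨2 ^ k.val % 256,
      Nat.mod_lt _ (by norm_num)⟩ = false) → v = 0 by decide +kernel) _ fun k => ?_)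
    obtain ⟨b, hb, hbe⟩ := h.φ_surj ⟨2 ^ k.val % 256, Nat.mod_lt _ (by norm_num)⟩
    rw [← hbe]
    exact (pol_comm h ha hb).2 (hc b hb)
  self_cent := fun g hg hc => by
    refine (h.ρ_ker ⟨g, mem_cent.2 hg⟩).1 (Equiv.ext fun v => ?_)
    obtain ⟨j, hj, rfl⟩ := h.φ_surj v
    rw [← h.ρ_φ ⟨g, mem_cent.2 hg⟩ j hj, mul_inv_eq_iff_eq_mul.2 (hc j hj).eq]
    rfl

theorem ρ_mem_isom (h : Nat4 z J φ ρ) (g : ↥(Subgroup.centralizer ({z} : Set G))) : ρ g ∈ isom :=
  uGroup_le_isom (h.ρ_range ▸ MonoidHom.mem_range.2 ⟨g, rfl⟩)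

theorem isPGroup_J (h : Nat4 z J φ ρ) : IsPGroup 2 J := IsPGroup.of_card (n := 9) h.card_J

/-- The core is the 2-core of the centraliser. -/
theorem pCore_eq [Finite G] (h : Nat4 z J φ ρ) :
    (Cfsg.pCore 2 ↥(Subgroup.centralizer ({z} : Set G))).map
      (Subgroup.centralizer ({z} : Set G)).subtype = J := by
  haveI : Fact (Nat.Prime 2) := ⟨Nat.prime_two⟩
  haveI : (J.subgroupOf (Subgroup.centralizer ({z} : Set G))).Normal :=
    ⟨fun n hn g => h.conj_mem g g.2 n hn⟩
  have h1 : J.subgroupOf (Subgroup.centralizer ({z} : Set G)) ≤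
      Cfsg.pCore 2 (Subgroup.centralizer ({z} : Set G)) :=
    H1.le_pCore ((isPGroup_J h).comap_of_injective
      (Subgroup.centralizer ({z} : Set G)).subtype (Subgroup.subtype_injective _))
  have hbot : (Cfsg.pCore 2 (Subgroup.centralizer ({z} : Set G))).map ρ = ⊥ := by
    refine no_two_normal ((H1.isPGroup_pCore 2 _).map ρ) ?_ ?_
    · rintro _ ⟨g, -, rfl⟩
      exact ρ_mem_isom h g
    · rintro i _ ⟨g, hg, rfl⟩
      obtain ⟨a, ha⟩ : tv i ∈ ρ.range := h.ρ_range.symm ▸ Subgroup.subset_closure ⟨i, rfl⟩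
      refine ⟨a * g * a⁻¹, (H1.pCore_normal' 2 _).conj_mem _ hg a, ?_⟩
      rw [map_mul, map_mul, map_inv, ha, inv_eq_of_mul_eq_one_right (tv_sq i)]
  have h2 : Cfsg.pCore 2 (Subgroup.centralizer ({z} : Set G)) ≤
      J.subgroupOf (Subgroup.centralizer ({z} : Set G)) := fun g hg =>
    (h.ρ_ker g).1 (Subgroup.mem_bot.1 (hbot ▸ ⟨g, hg, rfl⟩))
  rw [le_antisymm h2 h1, Subgroup.subgroupOf_map_subtype, inf_eq_left.2 h.le_cent]

/-- The large extraspecial structure. -/
theorem large [Finite G] (h : Nat4 z J φ ρ) :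
    ∃ Q : G → Subgroup G, H99.LargeExtra Q z ∧ Q z = J := by
  refine ⟨fun x => (Cfsg.pCore 2 ↥(Subgroup.centralizer ({x} : Set G))).map
    (Subgroup.centralizer ({x} : Set G)).subtype,
    ⟨fun x => rfl, orderOf_eq_prime (by rw [pow_two, h.sq]) h.ne_one, ?_, ?_⟩, pCore_eq h⟩
  · show Cfsg.IsExtraspecial 2 _
    rw [pCore_eq h]
    exact (core h).extraspecial
  · show Subgroup.centralizer _ ≤ _
    rw [pCore_eq h]
    intro g hg
    exact (core h).self_cent g (Subgroup.mem_centralizer_iff.1 hg z h.z_mem).symm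
      fun j hj => (Subgroup.mem_centralizer_iff.1 hg j hj).symm

end Nat4

end

end H55.U6C
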