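import Cfsg.Agent.H55.U6C.NatTable
import Cfsg.Agent.H55.U6C.NatCore
import Cfsg.Agent.H99.Singular
import Cfsg.Agent.H6.Basic

/-!
In the natural case the involution is weakly closed in the core.
-/

set_option autoImplicit false
set_option maxRecDepth 100000

namespace H55.U6C

open H38.U6C H50.U6C

/-- The first point. -/
def v0 : V := 80

/-- The word moving `v` to the first point. -/
def wordOf (v : V) : List (Fin 45) := wordList.getD v.val []

/-- Apply a word, first letter first. -/
def runW (ws : List (Fin 45)) (x : V) : V := ws.foldl (fun y i => tvFun i y) x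

/-- One operation. -/
def runOp (u : V) (o : ℕ × List (Fin 45)) : V :=
  if o.1 = 0 then vadd u v0 else if o.1 = 1 then vadd u (runW o.2 u) else runW o.2 u

/-- The chain from `u`. -/
def chainOf (u : V) : List (ℕ × List (Fin 45)) := chainList.getD u.val []

theorem word_ok : ∀ v : V, qv v = true ∨ v = 0 ∨ runW (wordOf v) v = v0 := by decide +kernel

/-- The check of a chain. -/
def chainOK (u : V) : Bool :=
  qv u || pol v0 u || u == 0 || u == v0 ||
    (((chainOf u).foldl runOp u == 160) &&
      (chainOf u).all fun o => o.2.all fun i => tvFun i v0 == v0)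

theorem chain_ok : ∀ u : V, chainOK u = true := by decide +kernel

theorem herm_v0_cases : ∀ u : V, pol v0 u = true ∨ herm v0 u = 0 ∨ herm v0 u = 1 := by decide +kernel

theorem perp_closed : ∀ u : V, herm v0 u = 0 → pol v0 u = false ∧ pol v0 (smul4 2 u) = false := by
  decide +kernel

theorem split_v0 : ∀ u : V, herm v0 (vadd u (smul4 (herm v0 u) 16)) = 0 ∧
    u = vadd (vadd u (smul4 (herm v0 u) 16)) (smul4 (herm v0 u) 16) := by decide +kernel

theorem v0_facts : pol v0 16 = false ∧ qv v0 = false ∧ v0 ≠ 0 ∧ smul4 2 v0 = 160 ∧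
    qv (160 : V) = false ∧ (160 : V) ≠ 0 ∧ (160 : V) ≠ v0 ∧ smul4 2 (vadd v0 160) = v0 ∧
    vadd (160 : V) v0 ≠ 0 := by decide +kernel

theorem runW_eq (ws : List (Fin 45)) (x : V) : runW ws x = (ws.reverse.map tv).prod x := by
  induction ws generalizing x with
  | nil => rfl
  | cons i ws ih =>
    rw [List.reverse_cons, List.map_append, List.prod_append]
    show runW ws (tvFun i x) = _
    rw [ih]
    simp [tv]

section

variable {G : Type*} [Group G] {z : G} {J : Subgroup G} {φ : G → V}
  {ρ : ↥(Subgroup.centralizer ({z} : Set G)) →* Equiv.Perm V}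

namespace Nat4

theorem exists_word_elt (h : Nat4 z J φ ρ) (ws : List (Fin 45)) :
    ∃ g : ↥(Subgroup.centralizer ({z} : Set G)), ∀ x, ρ g x = runW ws x := by
  have hm : (ws.reverse.map tv).prod ∈ ρ.range := h.ρ_range.symm ▸ Subgroup.list_prod_mem _ (fun y hy => by
    obtain ⟨i, -, rfl⟩ := List.mem_map.1 hy
    exact Subgroup.subset_closure ⟨i, rfl⟩)
  obtain ⟨g, hg⟩ := hm
  exact ⟨g, fun x => by rw [hg, runW_eq]⟩

/-- The involution is weakly closed in the core. -/
theorem weakly_closed [Finite G] (h : Nat4 z J φ ρ) : WCJ z J := by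
  classical
  intro s hsJ hzs
  by_contra hsz
  have c := core h
  -- the large extraspecial structure
  obtain ⟨Q, L, hQz⟩ := large h
  -- move `s` to the first point
  obtain ⟨g0, hg0⟩ := isConj_iff.1 hzs
  have hs1 : s ≠ 1 := fun e => h.ne_one (conj_eq_one_iff.1 (hg0.trans e))
  have hsv : φ s ≠ 0 := fun e => ((h.φ_ker s hsJ).1 e).elim hs1 hsz
  have hsq : qv (φ s) = false := by
    have h2 := L.sq_one ⟨g0, hg0⟩
    rw [h.φ_sq s hsJ] at h2
    by_contra hq
    rw [Bool.not_eq_false] at hq
    rw [hq, if_pos rfl] at h2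
    exact h.ne_one h2
  obtain ⟨gm, hgm⟩ := exists_word_elt h (wordOf (φ s))
  set t := (gm : G) * s * (gm : G)⁻¹ with htd
  have htJ : t ∈ J := h.conj_mem _ gm.2 s hsJ
  have hφt : φ t = v0 := by
    rw [htd, h.ρ_φ gm s hsJ, hgm]
    exact ((word_ok (φ s)).resolve_left (by rw [hsq]; simp)).resolve_left hsv
  have ht : H99.LargeExtra.Sing z t := ⟨gm * g0, by rw [htd, ← hg0]; group⟩
  have htz : t ≠ z := fun e => v0_facts.2.2.1 (by rw [← hφt, e]; exact (h.φ_ker z h.z_mem).2 (Or.inr rfl))
  have ht1 : t ≠ 1 := L.ne_one ht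
  have hsing : H99.LargeExtra.Sing z z := ⟨1, by group⟩
  have hzQt : z ∈ Q t := L.orth_symm hsing ht (hQz.symm ▸ htJ)
  set D := J ⊓ Q t with hD
  let InD : V → Prop := fun u => ∃ a ∈ D, φ a = u
  -- an element fixing the point can be taken to fix `t`
  have hfix : ∀ g : G, ∀ hg : Commute g z, ρ ⟨g, mem_cent.2 hg⟩ v0 = v0 →
      ∃ g', ∃ hg' : Commute g' z, Commute g' t ∧
        ρ ⟨g', mem_cent.2 hg'⟩ = ρ ⟨g, mem_cent.2 hg⟩ := by
    intro g hg hgv
    have he : Eqz z (g * t * g⁻¹) t := φ_eq h (c.conj_mem g hg t htJ) htJ (by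
      rw [h.ρ_φ ⟨g, mem_cent.2 hg⟩ t htJ, hφt, hgv])
    rcases he with e | e
    · exact ⟨g, hg, mul_inv_eq_iff_eq_mul.1 e, rfl⟩
    obtain ⟨j, hj, hjt⟩ : ∃ j ∈ J, ¬ Commute t j := by
      by_contra hno
      push Not at hno
      exact (c.center t htJ hno).elim ht1 htz
    have hjz : j * t * j⁻¹ = t * z :=
      (c.conj_eqz hj htJ).resolve_left fun e => hjt (mul_inv_eq_iff_eq_mul.1 e).symm
    refine ⟨g * j, hg.mul_left (c.comm_z hj), mul_inv_eq_iff_eq_mul.1 ?_, ?_⟩
    · rw [show g * j * t * (g * j)⁻¹ = g * (j * t * j⁻¹) * g⁻¹ by group, hjz,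
        show g * (t * z) * g⁻¹ = g * t * g⁻¹ * (g * z * g⁻¹) by group, e,
        mul_inv_eq_iff_eq_mul.2 hg.eq, c.mul_z_z]
    · rw [show (⟨g * j, mem_cent.2 (hg.mul_left (c.comm_z hj))⟩ : ↥(Subgroup.centralizer ({z} : Set G)))
          = ⟨g, mem_cent.2 hg⟩ * ⟨j, h.le_cent hj⟩ from rfl, map_mul,
        (h.ρ_ker ⟨j, h.le_cent hj⟩).2 hj, mul_one]
  -- the kill when `D` is small
  obtain ⟨u, hu, hu0, huv⟩ : ∃ u, InD u ∧ u ≠ 0 ∧ u ≠ v0 := by
    by_contra hno
    push Not at hno
    have hsmall : ∀ a ∈ D, φ a = 0 ∨ φ a = v0 := fun a ha => by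
      by_cases e : φ a = 0
      · exact Or.inl e
      · exact Or.inr (hno _ ⟨a, ha, rfl⟩ e)
    have hD4 : Nat.card D ≤ 4 := by
      have hsub : (D : Set G) ⊆ (({1, z, t, t * z} : Finset G) : Set G) := by
        intro a ha
        rcases hsmall a ha with e | e
        · rcases (h.φ_ker a ha.1).1 e with e' | e' <;> simp [e']
        · rcases φ_eq h ha.1 htJ (e.trans hφt.symm) with e' | e' <;> simp [e']
      have := Set.ncard_le_ncard hsub (Finset.finite_toSet _)
      rw [Set.ncard_coe_finset, ← Nat.card_coe_set_eq] at this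
      exact this.trans Finset.card_le_four
    -- the centraliser of `z` in `Q t`
    obtain ⟨g, hg⟩ := ht
    set K := Q t ⊓ Subgroup.centralizer ({z} : Set G) with hK
    set z' := g⁻¹ * z * g with hz'
    have hz'J : z' ∈ J := by
      have h' := L.mem_Q_conj' g (x := z) (a := z) (by rw [hg]; exact hzQt)
      rwa [hQz] at h'
    have hz'1 : z' ≠ 1 := fun e => h.ne_one (by
      calc z = g * z' * g⁻¹ := by rw [hz']; group
        _ = 1 := by rw [e]; group)
    have hz'z : z' ≠ z := fun e => htz (by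
      calc t = g * z * g⁻¹ := hg.symm
        _ = g * z' * g⁻¹ := by rw [e]
        _ = z := by rw [hz']; group)
    have hKcard : 256 ≤ Nat.card K := by
      have hcard : 256 ≤ Nat.card (J ⊓ Subgroup.centralizer ({z'} : Set G) : Subgroup G) := by
        set P := J ⊓ Subgroup.centralizer ({z'} : Set G)
        obtain ⟨j0, hj0, hj0n⟩ : ∃ j ∈ J, ¬ Commute z' j := by
          by_contra hno'
          push Not at hno'
          exact (c.center z' hz'J hno').elim hz'1 hz'z
        let f : J → P × Bool := fun x =>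
          if hx : Commute z' (x : G) then
            (⟨x, x.2, Subgroup.mem_centralizer_singleton_iff.2 hx.symm.eq⟩, true)
          else (⟨j0⁻¹ * x, J.mul_mem (J.inv_mem hj0) x.2, Subgroup.mem_centralizer_singleton_iff.2 (by
            have : Core.chi z' (j0 * (j0⁻¹ * (x : G))) = -1 := by
              rw [mul_inv_cancel_left]; exact Core.chi_of_not hx
            by_contra hn
            rw [c.chi_mul hz'J hj0 (J.mul_mem (J.inv_mem hj0) x.2), Core.chi_of_not hj0n,
              Core.chi_of_not (fun e : Commute z' (j0⁻¹ * (x : G)) => hn e.symm)] at this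
            norm_num at this)⟩, false)
        have hf : Function.Injective f := by
          intro x y hxy
          simp only [f] at hxy
          by_cases h1 : Commute z' (x : G) <;> by_cases h2 : Commute z' (y : G) <;>
            simp [h1, h2] at hxy
          · exact Subtype.ext (congrArg Subtype.val hxy :)
          · exact Subtype.ext (mul_left_cancel (congrArg Subtype.val hxy :))
        have := Nat.card_le_card_of_injective f hf
        rw [h.card_J, Nat.card_prod, Nat.card_eq_fintype_card (α := Bool), Fintype.card_bool] at this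
        omega
      refine hcard.trans (Nat.card_le_card_of_injective (fun y => (⟨g * y * g⁻¹, ?_, ?_⟩ : K)) ?_)
      · have h' := L.mem_Q_conj g (x := z) (a := (y : G)) (hQz.symm ▸ y.2.1)
        rwa [hg] at h'
      · refine Subgroup.mem_centralizer_singleton_iff.2 ?_
        have := Subgroup.mem_centralizer_singleton_iff.1 y.2.2
        calc g * y * g⁻¹ * z = g * ((y : G) * (g⁻¹ * z * g)) * g⁻¹ := by group
          _ = g * ((y : G) * z') * g⁻¹ := rfl
          _ = g * (z' * y) * g⁻¹ := by rw [this]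
          _ = g * ((g⁻¹ * z * g) * y) * g⁻¹ := rfl
          _ = z * (g * y * g⁻¹) := by group
      · intro a b hab
        exact Subtype.ext (mul_left_cancel (mul_right_cancel (congrArg Subtype.val hab :)))
    -- the action is determined by one image
    let r : K → Equiv.Perm V := fun k => ρ ⟨k, k.2.2⟩
    have hkey : ∀ k : K, ∀ v : V, pol v0 v = false → vadd (r k v) v = 0 ∨ vadd (r k v) v = v0 := by
      intro k v hv
      obtain ⟨a, ha, rfl⟩ := h.φ_surj v
      have hat : Commute a t := ((pol_comm h htJ ha).1 (hφt ▸ hv)).symm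
      have hm : (k : G) * a * (k : G)⁻¹ * a⁻¹ ∈ D := by
        refine ⟨J.mul_mem (h.conj_mem _ k.2.2 a ha) (J.inv_mem ha), ?_⟩
        rw [show (k : G) * a * (k : G)⁻¹ * a⁻¹ = k * (a * (k : G)⁻¹ * a⁻¹) by group]
        exact (Q t).mul_mem k.2.1 (L.conj_mem ((Q t).inv_mem k.2.1) hat)
      have e := hsmall _ hm
      have e2 : φ ((k : G) * a * (k : G)⁻¹ * a⁻¹) = vadd (r k (φ a)) (φ a) := by
        rw [h.φ_mul _ (h.conj_mem _ k.2.2 a ha) _ (inv_mem ha), h.ρ_φ ⟨k, k.2.2⟩ a ha,
          φ_eqz h ha (a := a⁻¹) ?_]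
        rcases c.sq_mem a ha with e' | e'
        · exact Or.inl (inv_eq_of_mul_eq_one_right e')
        · exact Or.inr (inv_eq_of_mul_eq_one_right (by rw [← mul_assoc, e', c.sq]))
      rwa [e2] at e
    have hcancel : ∀ p q : V, vadd (vadd p q) q = p := fun p q => by
      rw [H50.U6C.vadd_assoc, H50.U6C.vadd_self, H50.U6C.vadd_zero']
    have hperp : ∀ k : K, ∀ v : V, herm v0 v = 0 → r k v = v := by
      intro k v hv
      obtain ⟨p1, p2⟩ := perp_closed v hv
      have hi := ρ_mem_isom h ⟨k, k.2.2⟩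
      rcases hkey k v p1 with e | e
      · rw [← hcancel (r k v) v, e, H50.U6C.vadd_comm, H50.U6C.vadd_zero']
      exfalso
      have e2 : vadd (r k (smul4 2 v)) (smul4 2 v) = 160 := by
        show vadd (ρ ⟨k, k.2.2⟩ (smul4 2 v)) (smul4 2 v) = 160
        rw [isom_smul hi (by norm_num), ← smul4_vadd (by norm_num)]
        show smul4 2 (vadd (r k v) v) = 160
        rw [e, v0_facts.2.2.2.1]
      rcases hkey k _ p2 with e' | e' <;> rw [e2] at e'
      · exact v0_facts.2.2.2.2.2.1 e'
      · exact v0_facts.2.2.2.2.2.2.1 e'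
    -- two elements with the same image differ by an element of `D`
    let ev : K → Bool := fun k => decide (vadd (r k 16) 16 = 0)
    have hev : ∀ k k' : K, ev k = ev k' → ((k : G)⁻¹ * k') ∈ J := by
      intro k k' he
      have hr : r k = r k' := by
        refine Equiv.ext fun v => ?_
        obtain ⟨hp, hvs⟩ := split_v0 v
        have hi := ρ_mem_isom h ⟨k, k.2.2⟩
        have hi' := ρ_mem_isom h ⟨k', k'.2.2⟩
        have h16 : r k 16 = r k' 16 := by
          simp only [ev, decide_eq_decide] at he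
          have : vadd (r k 16) 16 = vadd (r k' 16) 16 := by
            rcases hkey k 16 v0_facts.1 with e | e <;> rcases hkey k' 16 v0_facts.1 with e' | e'
            · rw [e, e']
            · exact absurd (he.1 e) (e' ▸ v0_facts.2.2.1)
            · exact absurd (he.2 e') (e ▸ v0_facts.2.2.1)
            · rw [e, e']
          rw [← hcancel (r k 16) 16, this, hcancel]
        rw [hvs]
        show ρ ⟨k, k.2.2⟩ _ = ρ ⟨k', k'.2.2⟩ _
        rw [hi.1, hi'.1]
        show vadd (r k _) (ρ ⟨k, k.2.2⟩ _) = vadd (r k' _) (ρ ⟨k', k'.2.2⟩ _)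
        rw [hperp k _ hp, hperp k' _ hp, isom_smul hi (herm_lt _ _), isom_smul hi' (herm_lt _ _)]
        exact congrArg _ (congrArg (smul4 _) h16)
      refine (h.ρ_ker ((⟨k, k.2.2⟩ : ↥(Subgroup.centralizer ({z} : Set G)))⁻¹ * ⟨k', k'.2.2⟩)).1 ?_
      rw [map_mul, map_inv, inv_mul_eq_one]
      exact hr
    have hbound : Nat.card K ≤ 2 * Nat.card D := by
      haveI : Nonempty K := ⟨1⟩
      let base : Bool → K := fun b => if hb : ∃ k, ev k = b then hb.choose else 1
      have hbase : ∀ k, ev (base (ev k)) = ev k := fun k => by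
        simp only [base]
        rw [dif_pos ⟨k, rfl⟩]
        exact (⟨k, rfl⟩ : ∃ k', ev k' = ev k).choose_spec
      let g' : K → D × Bool := fun k => (⟨((base (ev k) : K) : G)⁻¹ * k, hev _ _ (hbase k),
        (Q t).mul_mem ((Q t).inv_mem (base (ev k)).2.1) k.2.1⟩, ev k)
      have hg' : Function.Injective g' := by
        intro a b hab
        have h2 : ev a = ev b := congrArg Prod.snd hab
        have h1 : ((base (ev a) : K) : G)⁻¹ * (a : G) = ((base (ev b) : K) : G)⁻¹ * (b : G) :=
          congrArg (fun p : D × Bool => (p.1 : G)) hab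
        rw [h2] at h1
        exact Subtype.ext (mul_left_cancel h1)
      have := Nat.card_le_card_of_injective g' hg'
      rw [Nat.card_prod, Nat.card_eq_fintype_card (α := Bool), Fintype.card_bool] at this
      omega
    omega
  -- closure properties
  have hInD_v0 : InD v0 := ⟨t, ⟨htJ, L.self_mem ht⟩, hφt⟩
  have hadd : ∀ p q, InD p → InD q → InD (vadd p q) := by
    rintro _ _ ⟨a, ha, rfl⟩ ⟨b, hb, rfl⟩
    exact ⟨a * b, mul_mem ha hb, h.φ_mul a ha.1 b hb.1⟩
  have hact : ∀ ws : List (Fin 45), runW ws v0 = v0 → ∀ p, InD p → InD (runW ws p) := by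
    intro ws hws p ⟨a, ha, hap⟩
    obtain ⟨g, hg⟩ := exists_word_elt h ws
    obtain ⟨g', hg', hg't, hρ⟩ := hfix (g : G) (mem_cent.1 g.2) ((hg v0).trans hws)
    refine ⟨g' * a * g'⁻¹, ⟨c.conj_mem g' hg' a ha.1, L.conj_mem ha.2 hg't⟩, ?_⟩
    rw [h.ρ_φ ⟨g', mem_cent.2 hg'⟩ a ha.1, hρ, hap]
    exact hg p
  have hu2 : InD (160 : V) := by
    obtain ⟨a, ha, rfl⟩ := hu
    have hok := chain_ok (φ a)
    have hqa : qv (φ a) = false := by
      by_contra hq
      rw [Bool.not_eq_false] at hq
      have h2 := h.φ_sq a ha.1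
      rw [hq, if_pos rfl] at h2
      rcases L.mul_self_cases ht ha.2 with e | e <;> rw [h2] at e
      · exact h.ne_one e
      · exact htz e.symm
    have hpa : pol v0 (φ a) = false := by
      rw [← hφt]
      exact (pol_comm h htJ ha.1).2 (L.commute_of_mem ha.2).symm
    simp only [chainOK, hqa, hpa, Bool.false_or, Bool.or_eq_true, beq_iff_eq, hu0, huv, false_or,
      Bool.and_eq_true, List.all_eq_true] at hok
    obtain ⟨hend, hall⟩ := hok
    rw [← hend]
    have key : ∀ (l : List (ℕ × List (Fin 45))), (∀ o ∈ l, ∀ i ∈ o.2, tvFun i v0 = v0) →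
        ∀ p, InD p → InD (l.foldl runOp p) := by
      intro l
      induction l with
      | nil => exact fun _ p hp => hp
      | cons o l ih =>
        intro hl p hp
        refine ih (fun o' ho' => hl o' (List.mem_cons_of_mem _ ho')) _ ?_
        have hws : runW o.2 v0 = v0 := by
          have : ∀ ws : List (Fin 45), (∀ i ∈ ws, tvFun i v0 = v0) → runW ws v0 = v0 := by
            intro ws
            induction ws with
            | nil => exact fun _ => rfl
            | cons i ws ihw =>
              intro hi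
              show runW ws (tvFun i v0) = v0
              rw [hi i (List.mem_cons_self ..)]
              exact ihw fun j hj => hi j (List.mem_cons_of_mem _ hj)
          exact this _ (hl o (List.mem_cons_self ..))
        unfold runOp
        split_ifs
        · exact hadd _ _ hp hInD_v0
        · exact hadd _ _ hp (hact _ hws _ hp)
        · exact hact _ hws _ hp
    exact key _ hall _ ⟨a, ha, rfl⟩
  -- the final contradiction
  obtain ⟨a, ha, hφa⟩ := hu2
  have ha1 : a ≠ 1 := fun e => v0_facts.2.2.2.2.2.1 (by rw [← hφa, e, φ_one h])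
  have haS : H99.LargeExtra.Sing z a := by
    obtain ⟨g, hg⟩ := exists_word_elt h (wordOf (160 : V))
    have hgv : ρ g 160 = v0 := by
      rw [hg]
      exact ((word_ok 160).resolve_left (by rw [v0_facts.2.2.2.2.1]; simp)).resolve_left
        v0_facts.2.2.2.2.2.1
    have hconj : φ ((g : G)⁻¹ * t * g) = 160 := by
      have h1 := h.ρ_φ g⁻¹ t htJ
      simp only [InvMemClass.coe_inv, inv_inv] at h1
      rw [h1, hφt, map_inv, ← hgv]
      exact Equiv.symm_apply_apply (ρ g) 160
    have hm : (g : G)⁻¹ * t * g ∈ J := by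
      have := c.conj_mem _ (mem_cent.1 g.2).inv_left t htJ
      rwa [inv_inv] at this
    obtain ⟨k, hk⟩ := ht
    rcases φ_eq h ha.1 hm (hφa.trans hconj.symm) with e | e
    · exact ⟨(g : G)⁻¹ * k, by rw [e, ← hk]; group⟩
    · obtain ⟨j, hj, hjn⟩ : ∃ j ∈ J, ¬ Commute ((g : G)⁻¹ * t * g) j := by
        by_contra hno
        push Not at hno
        rcases c.center _ hm hno with e' | e' <;> rw [e'] at hconj
        · rw [φ_one h] at hconj; exact v0_facts.2.2.2.2.2.1 hconj.symm
        · rw [(h.φ_ker z h.z_mem).2 (Or.inr rfl)] at hconj; exact v0_facts.2.2.2.2.2.1 hconj.symm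
      have hjz := (c.conj_eqz hj hm).resolve_left fun e' => hjn (mul_inv_eq_iff_eq_mul.1 e').symm
      exact ⟨j * (g : G)⁻¹ * k, by rw [e, ← hjz, ← hk]; group⟩
  have hzQa : z ∈ Q a := L.orth_symm hsing haS (hQz.symm ▸ ha.1)
  have htQa : t ∈ Q a := L.orth_symm ht haS ha.2
  have haQa : a ∈ Q a := L.self_mem haS
  set H : Subgroup G := Subgroup.closure {z, a} with hH
  have hHQ : H ≤ Q a := (Subgroup.closure_le _).2 (by
    intro x hx
    rcases hx with rfl | rfl
    exacts [hzQa, haQa])
  have htH : t ∉ H := by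
    intro htm
    let S : Subgroup G :=
      { carrier := {x | x ∈ J ∧ (φ x = 0 ∨ φ x = 160)}
        one_mem' := ⟨one_mem _, Or.inl (φ_one h)⟩
        mul_mem' := by
          rintro x y ⟨hx, hx'⟩ ⟨hy, hy'⟩
          refine ⟨mul_mem hx hy, ?_⟩
          rw [h.φ_mul x hx y hy]
          rcases hx' with e | e <;> rcases hy' with e' | e' <;> rw [e, e'] <;> decide +kernel
        inv_mem' := by
          rintro x ⟨hx, hx'⟩
          refine ⟨inv_mem hx, ?_⟩
          rw [φ_eqz h hx (a := x⁻¹) ((c.sq_mem x hx).imp inv_eq_of_mul_eq_one_right fun e =>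
            inv_eq_of_mul_eq_one_right (by rw [← mul_assoc, e, c.sq]))]
          exact hx' }
    have hS : H ≤ S := (Subgroup.closure_le _).2 (by
      intro x hx
      rcases hx with rfl | rfl
      · exact ⟨h.z_mem, Or.inl ((h.φ_ker _ h.z_mem).2 (Or.inr rfl))⟩
      · exact ⟨ha.1, Or.inr hφa⟩)
    rcases (hS htm).2 with e | e <;> rw [hφt] at e
    · exact v0_facts.2.2.1 e
    · exact v0_facts.2.2.2.2.2.2.1 e.symm
  obtain ⟨g, -, hgH, hgt⟩ := L.exists_move haS (H := H) (Subgroup.subset_closure (Or.inr rfl)) hHQ htQa htH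
  have hgz : Commute g z := hgH z (Subgroup.subset_closure (Or.inl rfl))
  have hga : Commute g a := hgH a (Subgroup.subset_closure (Or.inr rfl))
  have hi := ρ_mem_isom h ⟨g, mem_cent.2 hgz⟩
  have e1 : ρ ⟨g, mem_cent.2 hgz⟩ v0 = vadd v0 160 := by
    rw [← hφt, ← h.ρ_φ ⟨g, mem_cent.2 hgz⟩ t htJ, hgt, h.φ_mul t htJ a ha.1, hφa]
  have e2 : ρ ⟨g, mem_cent.2 hgz⟩ 160 = 160 := by
    conv_lhs => rw [← hφa]
    rw [← h.ρ_φ ⟨g, mem_cent.2 hgz⟩ a ha.1, mul_inv_eq_iff_eq_mul.2 hga.eq, hφa]
  have e3 := isom_smul hi (c := 2) (by norm_num) v0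
  rw [v0_facts.2.2.2.1, e1, e2, v0_facts.2.2.2.2.2.2.2.1] at e3
  exact v0_facts.2.2.2.2.2.2.1 e3

end Nat4

end

/-- The statement. -/
theorem wcj.{u} : WCJStmt.{u} := by
  intro G _ _ z J φ ρ h
  exact Nat4.weakly_closed h

end H55.U6C
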