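import Cfsg.Agent.H55.U6C.Rank

/-!
With two fixed dimensions, weak closure in the core gives weak closure in the centraliser.
-/

set_option autoImplicit false

namespace H55.U6C

open H38.U6C H99.LargeExtra

variable {G : Type*} [Group G] {F : Type*} [Field F] [Fintype F] {z : G} {J U : Subgroup G}
  {π : ↥(Subgroup.centralizer ({z} : Set G)) →* Cfsg.PSp 2 F}

namespace Fx

variable (b : Base z J π) (f2 : Fixed2 z J U)
include b f2

/-- A conjugate outside the core centralises what it centralises modulo the centre. -/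
theorem centralise [Finite G] (hw : WCJ z J) {t : G} (htz : Commute t z) (hzt : IsConj z t)
    (htJ : t ∉ J) {m : G} (hm : m ∈ J) (hmt : Eqz z (t * m * t⁻¹) m) : Commute t m := by
  by_contra hcm
  have c := B.core b
  obtain ⟨Q, L, hQz⟩ := B.large b
  obtain ⟨g, hg⟩ := isConj_iff.1 hzt
  have hs : Sing z t := ⟨g, hg⟩
  have ht2 : t * t = 1 := L.sq_one hs
  have hti : t⁻¹ = t := inv_eq_of_mul_eq_one_right ht2
  obtain ⟨M, W, hM, hW, hM128, hW8, hWM, hUM, hWL, hcomm, -⟩ := exists_rank b f2 htz ht2 htJ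
  have hMJ : M ≤ J := fun x hx => ((hM x).1 hx).1
  have hWJ : W ≤ J := fun x hx => ((hW x).1 hx).1
  have hmz : t * m * t⁻¹ = m * z := hmt.resolve_left fun e => hcm (mul_inv_eq_iff_eq_mul.1 e)
  have hwcs : ∀ s, Sing z s → s ∈ Q t → s = t := by
    rintro s ⟨h, rfl⟩ hsQ
    have h1 := L.mem_Q_conj' g (x := z) (a := h * z * h⁻¹) (by rw [hg]; exact hsQ)
    rw [hQz] at h1
    have h2 := hw _ h1 (isConj_iff.2 ⟨g⁻¹ * h, by group⟩)
    calc h * z * h⁻¹ = g * (g⁻¹ * (h * z * h⁻¹) * g) * g⁻¹ := by group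
      _ = t := by rw [h2, hg]
  -- every element of `t W` is conjugate
  have hmt' : m * t * m⁻¹ = t * z := by
    have e : t * m = m * z * t := by rw [← hmz, inv_mul_cancel_right]
    calc m * t * m⁻¹ = m * (z * z) * t * m⁻¹ := by rw [c.sq, mul_one]
      _ = m * z * (t * z) * m⁻¹ := by rw [htz.eq]; group
      _ = m * z * t * (z * m⁻¹) := by group
      _ = t * m * (m⁻¹ * z) := by rw [← e, ← (c.comm_z hm).inv_left.eq]
      _ = t * z := by group
  have htW : ∀ w ∈ W, Sing z (t * w) := by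
    intro w hw'
    obtain ⟨hwJ, k, hk, he⟩ := (hW w).1 hw'
    have e0 : k * t * k⁻¹ = t * (t * k * t⁻¹ * k⁻¹) := by
      calc k * t * k⁻¹ = (t * t) * k * t * k⁻¹ := by rw [ht2, one_mul]
        _ = t * (t * k * t * k⁻¹) := by group
        _ = t * (t * k * t⁻¹ * k⁻¹) := by rw [hti]
    rcases he with e | e
    · exact ⟨k * g, by rw [e, ← e0, ← hg]; group⟩
    · refine ⟨k * m * g, ?_⟩
      rw [e, ← mul_assoc, ← e0,
        show k * m * g * z * (k * m * g)⁻¹ = k * (m * (g * z * g⁻¹) * m⁻¹) * k⁻¹ by group, hg, hmt',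
        show k * (t * z) * k⁻¹ = k * t * (z * k⁻¹) by group, ← (c.comm_z hk).inv_left.eq]
      group
  -- the centraliser
  set K := J ⊓ Subgroup.centralizer ({t} : Set G) with hK
  have hKM : K ≤ M := fun x hx => (hM x).2 ⟨hx.1, Or.inl (mul_inv_eq_iff_eq_mul.2
    (Subgroup.mem_centralizer_singleton_iff.1 hx.2).symm)⟩
  have hK64 : 64 ≤ Nat.card K := by
    classical
    have hmul : ∀ x ∈ M, ¬ Commute t x → m⁻¹ * x ∈ K := by
      intro x hx hxt
      refine ⟨J.mul_mem (J.inv_mem hm) (hMJ hx), Subgroup.mem_centralizer_singleton_iff.2 ?_⟩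
      have hxz : t * x * t⁻¹ = x * z :=
        ((hM x).1 hx).2.resolve_left fun e => hxt (mul_inv_eq_iff_eq_mul.1 e)
      refine (mul_inv_eq_iff_eq_mul.1 ?_ : t * (m⁻¹ * x) = _).symm
      rw [show t * (m⁻¹ * x) * t⁻¹ = (t * m * t⁻¹)⁻¹ * (t * x * t⁻¹) by group, hmz, hxz,
        mul_inv_rev, c.inv_z, mul_assoc z m⁻¹ (x * z), ← mul_assoc m⁻¹ x z,
        ← mul_assoc z (m⁻¹ * x) z, ← (c.comm_z (mul_mem (inv_mem hm) (hMJ hx))).eq, c.mul_z_z]
    let f : M → K × Bool := fun x =>
      if hx : Commute t (x : G) then (⟨x, hMJ x.2, Subgroup.mem_centralizer_singleton_iff.2 hx.symm.eq⟩, true)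
      else (⟨m⁻¹ * x, hmul x x.2 hx⟩, false)
    have hf : Function.Injective f := by
      intro x y hxy
      simp only [f] at hxy
      by_cases h1 : Commute t (x : G) <;> by_cases h2 : Commute t (y : G) <;>
        simp [h1, h2] at hxy
      · exact Subtype.ext (congrArg Subtype.val hxy :)
      · exact hxy
    have := Nat.card_le_card_of_injective f hf
    rw [hM128, Nat.card_prod, Nat.card_eq_fintype_card (α := Bool), Fintype.card_bool] at this
    omega
  set D := J ⊓ Q t with hD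
  have hDt : ∀ x ∈ D, Commute x t := fun x hx => L.commute_of_mem hx.2
  have hDW : ∀ x ∈ D, x ∈ W → x = 1 := by
    intro x hx hxW
    have := hwcs _ (htW x hxW) (mul_mem (L.self_mem hs) hx.2)
    exact mul_left_cancel (this.trans (mul_one t).symm)
  have hDK : ∀ x ∈ D, ∀ k ∈ K, Commute k x := by
    intro x hx k hk
    rcases c.comm_mem k hk.1 x hx.1 with h | h
    · exact h
    exfalso
    have h1 : k * x * k⁻¹ * x⁻¹ ∈ Q t :=
      mul_mem (L.conj_mem hx.2 (Subgroup.mem_centralizer_singleton_iff.1 hk.2)) (inv_mem hx.2)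
    rw [h, show x * k * z * k⁻¹ * x⁻¹ = x * (k * z * k⁻¹) * x⁻¹ by group,
      mul_inv_eq_iff_eq_mul.2 (c.comm_z hk.1).eq, mul_inv_eq_iff_eq_mul.2 (c.comm_z hx.1).eq] at h1
    exact htJ (hQz ▸ L.orth_symm hs ⟨1, by group⟩ h1)
  have hzK : z ∈ K := ⟨b.z_mem, Subgroup.mem_centralizer_singleton_iff.2 htz.symm.eq⟩
  have hD2 : Nat.card D ≤ 2 := by
    have hB := c.card_mul_card (inf_le_left : K ≤ J) hzK
    set CK := J ⊓ Subgroup.centralizer (K : Set G) with hCK
    have hsub1 : ∀ x ∈ D, x ∈ CK := fun x hx =>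
      ⟨hx.1, Subgroup.mem_centralizer_iff.2 fun k hk => (hDK x hx k hk).eq⟩
    have hsub2 : ∀ x ∈ W, x ∈ CK := fun x hx =>
      ⟨hWJ hx, Subgroup.mem_centralizer_iff.2 fun k hk => (hcomm x hx k (hKM hk)).symm.eq⟩
    let f : D × W → CK := fun p => ⟨p.1 * p.2, mul_mem (hsub1 _ p.1.2) (hsub2 _ p.2.2)⟩
    have hf : Function.Injective f := by
      intro p q hpq
      have e : (p.1 : G) * p.2 = q.1 * q.2 := congrArg Subtype.val hpq
      have e2 : (q.1 : G)⁻¹ * p.1 = q.2 * (p.2 : G)⁻¹ := by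
        rw [eq_mul_inv_iff_mul_eq, mul_assoc, e, inv_mul_cancel_left]
      have h1 := hDW _ (D.mul_mem (D.inv_mem q.1.2) p.1.2) (e2 ▸ W.mul_mem q.2.2 (W.inv_mem p.2.2))
      have e1 : (p.1 : G) = q.1 := (inv_mul_eq_one.1 h1).symm
      rw [e1] at e
      exact Prod.ext (Subtype.ext e1) (Subtype.ext (mul_left_cancel e))
    have hle := Nat.card_le_card_of_injective f hf
    rw [Nat.card_prod, hW8] at hle
    nlinarith
  -- a central element outside `⟨z⟩`
  obtain ⟨r, hrW, hrt, hrne⟩ : ∃ r ∈ W, Commute r t ∧ ¬ (r = 1 ∨ r = z) := by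
    by_contra hno
    push Not at hno
    classical
    have hzW : z ∈ W := (hW z).2 ⟨b.z_mem, 1, one_mem _, Or.inr (by group)⟩
    have hmem : ∀ x ∈ W, Commute x t → x = 1 ∨ x = z := hno
    have hprod : ∀ x ∈ W, ∀ y ∈ W, ¬ Commute x t → ¬ Commute y t → x⁻¹ * y = 1 ∨ x⁻¹ * y = z := by
      intro x hx y hy hxt hyt
      refine hmem _ (mul_mem (inv_mem hx) hy) ?_
      have hxz : t * x * t⁻¹ = x * z := ((hM x).1 (hWM hx)).2.resolve_left fun e =>
        hxt (mul_inv_eq_iff_eq_mul.1 e).symm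
      have hyz : t * y * t⁻¹ = y * z := ((hM y).1 (hWM hy)).2.resolve_left fun e =>
        hyt (mul_inv_eq_iff_eq_mul.1 e).symm
      refine (mul_inv_eq_iff_eq_mul.1 ?_ : t * (x⁻¹ * y) = _).symm
      rw [show t * (x⁻¹ * y) * t⁻¹ = (t * x * t⁻¹)⁻¹ * (t * y * t⁻¹) by group, hxz, hyz,
        mul_inv_rev, c.inv_z, mul_assoc z x⁻¹ (y * z), ← mul_assoc x⁻¹ y z,
        ← mul_assoc z (x⁻¹ * y) z, ← (c.comm_z (mul_mem (inv_mem (hWJ hx)) (hWJ hy))).eq, c.mul_z_z]
    by_cases hex : ∃ x ∈ W, ¬ Commute x t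
    · obtain ⟨x0, hx0, hx0t⟩ := hex
      have hsub : (W : Set G) ⊆ (({1, z, x0, x0 * z} : Finset G) : Set G) := by
        intro y hy
        by_cases hyt : Commute y t
        · rcases hmem y hy hyt with e | e <;> simp [e]
        · rcases hprod x0 hx0 y hy hx0t hyt with e | e
          · simp [(inv_mul_eq_one.1 e).symm]
          · simp [inv_mul_eq_iff_eq_mul.1 e]
      have := Set.ncard_le_ncard hsub (Finset.finite_toSet _)
      rw [Set.ncard_coe_finset, ← Nat.card_coe_set_eq] at this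
      have h4 : ({1, z, x0, x0 * z} : Finset G).card ≤ 4 := Finset.card_le_four
      change Nat.card W ≤ _ at this
      omega
    · push Not at hex
      have hsub : (W : Set G) ⊆ (({1, z} : Finset G) : Set G) := fun y hy => by
        rcases hmem y hy (hex y hy) with e | e <;> simp [e]
      have := Set.ncard_le_ncard hsub (Finset.finite_toSet _)
      rw [Set.ncard_coe_finset, ← Nat.card_coe_set_eq] at this
      have h2 : ({1, z} : Finset G).card ≤ 2 := Finset.card_le_two
      change Nat.card W ≤ _ at this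
      omega
  -- transport to the quotient
  set y' := g⁻¹ * z * g with hy'
  have hconjz : ∀ x, Commute x t → Commute (g⁻¹ * x * g) z := by
    intro x hx
    have := hx.map (MulAut.conj g⁻¹).toMonoidHom
    simp only [MulEquiv.coe_toMonoidHom, MulAut.conj_apply, inv_inv] at this
    rwa [show g⁻¹ * t * g = z by rw [← hg]; group] at this
  let K' : Subgroup G := K.map (MulAut.conj g⁻¹).toMonoidHom
  have hK'mem : ∀ x, x ∈ K' ↔ ∃ k ∈ K, g⁻¹ * k * g = x := by
    intro x
    simp only [K', Subgroup.mem_map, MulEquiv.coe_toMonoidHom, MulAut.conj_apply, inv_inv]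
  have hK'z : ∀ x ∈ K', Commute x z := by
    intro x hx
    obtain ⟨k, hk, rfl⟩ := (hK'mem x).1 hx
    exact hconjz k (Subgroup.mem_centralizer_singleton_iff.1 hk.2)
  obtain ⟨R, hR, hRcard⟩ := B.card_image b hK'z
  have hcK : Nat.card K' = Nat.card K := Subgroup.card_map_of_injective (MulAut.conj g⁻¹).injective
  have hinfle : Nat.card (K' ⊓ J : Subgroup G) ≤ Nat.card D := by
    refine Nat.card_le_card_of_injective (fun x => (⟨g * x * g⁻¹, ?_, ?_⟩ : D)) ?_
    · obtain ⟨k, hk, e⟩ := (hK'mem _).1 x.2.1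
      rw [← e, show g * (g⁻¹ * k * g) * g⁻¹ = k by group]
      exact hk.1
    · have := L.mem_Q_conj g (x := z) (a := (x : G)) (hQz.symm ▸ x.2.2)
      rwa [hg] at this
    · intro x y hxy
      exact Subtype.ext (mul_left_cancel (mul_right_cancel (congrArg Subtype.val hxy :)))
  have hR32 : 32 ≤ Nat.card R := by
    have := Nat.mul_le_mul_right (Nat.card R) (hinfle.trans hD2)
    rw [← hRcard, hcK] at this
    omega
  have hR2 : IsPGroup 2 R := by
    haveI : Fact (Nat.Prime 2) := ⟨Nat.prime_two⟩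
    obtain ⟨i, -, hi⟩ := (Nat.dvd_prime_pow Nat.prime_two).1
      (show Nat.card K ∣ 2 ^ 9 from b.card_J ▸ Subgroup.card_dvd_of_le inf_le_left)
    obtain ⟨j, -, hj⟩ := (Nat.dvd_prime_pow Nat.prime_two).1
      (show Nat.card R ∣ 2 ^ i from ⟨Nat.card (K' ⊓ J : Subgroup G), by
        rw [mul_comm, ← hRcard, hcK, hi]⟩)
    exact IsPGroup.of_card hj
  have hr' : pr π (g⁻¹ * r * g) ∈ R :=
    (hR _).2 ⟨_, (hK'mem _).2 ⟨r, ⟨hWJ hrW, Subgroup.mem_centralizer_singleton_iff.2 hrt.eq⟩, rfl⟩, rfl⟩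
  have hy'z : Commute y' z := hconjz z htz.symm
  have hin : ∀ x, g⁻¹ * x * g ∈ J → x ∈ Q t := fun x hx => by
    have := L.mem_Q_conj g (x := z) (a := g⁻¹ * x * g) (hQz.symm ▸ hx)
    rwa [hg, show g * (g⁻¹ * x * g) * g⁻¹ = x by group] at this
  rcases Psp.central_mem b.card_F (B.card_X b) hR2 hR32 (y := pr π y') (fun h hh => by
      obtain ⟨x, hx, rfl⟩ := (hR h).1 hh
      obtain ⟨k, hk, rfl⟩ := (hK'mem x).1 hx
      have hkz := hK'z _ hx
      rw [← pr_mul hkz hkz, show g⁻¹ * k * g * (g⁻¹ * k * g) = g⁻¹ * (k * k) * g by group]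
      rcases c.sq_mem k hk.1 with e | e <;> rw [e]
      · left; rw [mul_one, inv_mul_cancel, pr_one]
      · exact Or.inr rfl) hr' (fun h hh => by
      obtain ⟨x, hx, rfl⟩ := (hR h).1 hh
      obtain ⟨k, hk, rfl⟩ := (hK'mem x).1 hx
      have hkr : Commute k r := (hcomm r hrW k (hKM hk)).symm
      have h1 : Commute (g⁻¹ * k * g) (g⁻¹ * r * g) := by
        have := hkr.map (MulAut.conj g⁻¹).toMonoidHom
        simpa [MulAut.conj_apply] using this
      show pr π _ * pr π _ = pr π _ * pr π _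
      rw [← pr_mul (hK'z _ hx) (hconjz r hrt), ← pr_mul (hconjz r hrt) (hK'z _ hx), h1.eq]) with e | e
  · exact hrne (Or.inl (hDW r ⟨hWJ hrW, hin r ((B.pr_eq_one b (hconjz r hrt)).1 e)⟩ hrW))
  · have hzW : z ∈ W := (hW z).2 ⟨b.z_mem, 1, one_mem _, Or.inr (by group)⟩
    have hrz : g⁻¹ * (r * z) * g ∈ J := by
      have hrzt : Commute (r * z) t := hrt.mul_left htz.symm
      refine (B.pr_eq_one b (hconjz _ hrzt)).1 ?_
      rw [show g⁻¹ * (r * z) * g = g⁻¹ * r * g * y' by rw [hy']; group,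
        pr_mul (hconjz r hrt) hy'z, e, ← pr_mul hy'z hy'z,
        show y' * y' = g⁻¹ * (z * z) * g by rw [hy']; group, c.sq, mul_one, inv_mul_cancel, pr_one]
    have h1 := hDW (r * z) ⟨mul_mem (hWJ hrW) b.z_mem, hin _ hrz⟩ (mul_mem hrW hzW)
    exact hrne (Or.inr (by rw [← mul_one r, ← c.sq, ← mul_assoc, h1, one_mul]))

/-- There is no conjugate outside the core. -/
theorem no_outside [Finite G] (hw : WCJ z J) {t : G} (htz : Commute t z) (hzt : IsConj z t)
    (htJ : t ∉ J) : False := by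
  classical
  have c := B.core b
  obtain ⟨Q, L, hQz⟩ := B.large b
  obtain ⟨g, hg⟩ := isConj_iff.1 hzt
  have hs : Sing z t := ⟨g, hg⟩
  have ht2 : t * t = 1 := L.sq_one hs
  have hti : t⁻¹ = t := inv_eq_of_mul_eq_one_right ht2
  have ht1 : t ≠ 1 := L.ne_one hs
  -- the other conjugate
  set t' := g⁻¹ * z * g with ht'
  have ht'c : Commute t' z := by
    have := htz.map (MulAut.conj g⁻¹).toMonoidHom
    simp only [MulEquiv.coe_toMonoidHom, MulAut.conj_apply, inv_inv] at this
    rw [show g⁻¹ * t * g = z by rw [← hg]; group] at this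
    exact this.symm
  have hzt' : IsConj z t' := isConj_iff.2 ⟨g⁻¹, by rw [ht']; group⟩
  have ht'J : t' ∉ J := fun h => htJ (by
    have e : t = z := by
      calc t = g * z * g⁻¹ := hg.symm
        _ = g * t' * g⁻¹ := by rw [hw t' h hzt']
        _ = z := by rw [ht']; group
    rw [e]; exact b.z_mem)
  have hUt' : ∀ u ∈ U, Commute (g * u * g⁻¹) z := by
    intro u hu
    have h := centralise b f2 hw ht'c hzt' ht'J (f2.le hu) (U_conj b f2 ht'c hu)
    have := h.symm.map (MulAut.conj g).toMonoidHom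
    simp only [MulEquiv.coe_toMonoidHom, MulAut.conj_apply] at this
    rwa [show g * t' * g⁻¹ = z by rw [ht']; group] at this
  obtain ⟨M, W, hM, hW, hM128, hW8, hWM, hUM, hWL, hcomm, hMW⟩ := exists_rank b f2 htz ht2 htJ
  have hMt : ∀ x ∈ M, Commute t x := fun x hx =>
    centralise b f2 hw htz hzt htJ ((hM x).1 hx).1 ((hM x).1 hx).2
  -- the element of order four
  obtain ⟨u0, hu0, hu0z⟩ := exists_four b f2
  set w := g * u0 * g⁻¹ with hwd
  have hwz : Commute w z := hUt' u0 hu0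
  have hww : w * w = t := by
    rw [hwd, show g * u0 * g⁻¹ * (g * u0 * g⁻¹) = g * (u0 * u0) * g⁻¹ by group, hu0z, hg]
  set v := pr π w with hv
  have hvv : v * v = pr π t := by rw [hv, ← pr_mul hwz hwz, hww]
  have hx2 : v * v ≠ 1 := fun e => htJ ((B.pr_eq_one b htz).1 (hvv ▸ e))
  have hv4 : v * v * (v * v) = 1 := by rw [hvv, ← pr_mul htz htz, ht2, pr_one]
  obtain ⟨a, a', hac, ha'c, n1, n2, n3, n4, n5, n6⟩ := Psp.exists_movers b.card_F (B.card_X b) hx2 hv4
  haveI : Finite (Cfsg.PSp 2 F) := Nat.finite_of_card_ne_zero (by rw [B.card_X b]; norm_num)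
  -- the image of the common centraliser
  set H := Subgroup.centralizer ({z} : Set G) ⊓ Subgroup.centralizer ({t} : Set G) with hH
  obtain ⟨S, hS, hScard⟩ := B.card_image b (A := H) (fun x hx => mem_cent.1 hx.1)
  have hSv : ∀ s ∈ S, Commute s (v * v) ∧ (s * v * s⁻¹ = v ∨ s * v * s⁻¹ = v⁻¹) := by
    intro s hs'
    obtain ⟨k, hk, rfl⟩ := (hS s).1 hs'
    have hkz : Commute k z := mem_cent.1 hk.1
    have hkt : Commute k t := Subgroup.mem_centralizer_singleton_iff.1 hk.2
    refine ⟨?_, ?_⟩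
    · rw [hvv]
      show pr π k * pr π t = pr π t * pr π k
      rw [← pr_mul hkz htz, ← pr_mul htz hkz, hkt.eq]
    · have hk' : Commute (g⁻¹ * k * g) z := by
        have := hkt.map (MulAut.conj g⁻¹).toMonoidHom
        simp only [MulEquiv.coe_toMonoidHom, MulAut.conj_apply, inv_inv] at this
        rwa [show g⁻¹ * t * g = z by rw [← hg]; group] at this
      have h := U_conj b f2 hk' hu0
      rw [hv, ← pr_conj hkz hwz]
      have he : k * w * k⁻¹ = g * (g⁻¹ * k * g * u0 * (g⁻¹ * k * g)⁻¹) * g⁻¹ := by rw [hwd]; group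
      rcases h with h | h
      · left; rw [he, h]
      · right
        rw [he, h, show g * (u0 * z) * g⁻¹ = w * (g * z * g⁻¹) by rw [hwd]; group, hg,
          pr_mul hwz htz, ← hvv, eq_comm, inv_eq_iff_mul_eq_one, ← hv,
          show v * (v * (v * v)) = v * v * (v * v) by group, hv4]
  -- the centraliser of the image of `t`
  let Cx : Subgroup G :=
    { carrier := {k | Commute k z ∧ Commute (pr π k) (v * v)}
      one_mem' := ⟨Commute.one_left z, by rw [pr_one]; exact Commute.one_left _⟩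
      mul_mem' := fun {p q} hp hq => ⟨hp.1.mul_left hq.1, by
        rw [pr_mul hp.1 hq.1]; exact hp.2.mul_left hq.2⟩
      inv_mem' := fun {p} hp => ⟨hp.1.inv_left, by rw [pr_inv hp.1]; exact hp.2.inv_left⟩ }
  obtain ⟨C', hC', hC'card⟩ := B.card_image b (A := Cx) (fun x hx => hx.1)
  have hJCx : J ≤ Cx := fun j hj =>
    ⟨c.comm_z hj, by rw [(B.pr_eq_one b (c.comm_z hj)).2 hj]; exact Commute.one_left _⟩
  have hHCx : H ≤ Cx := fun k hk =>
    ⟨mem_cent.1 hk.1, (hSv _ ((hS _).2 ⟨k, hk, rfl⟩)).1⟩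
  have hHJ : Nat.card (H ⊓ J : Subgroup G) = 128 := by
    rw [show H ⊓ J = M from le_antisymm (fun x hx => (hM x).2 ⟨hx.2, Or.inl
        (mul_inv_eq_iff_eq_mul.2 (Subgroup.mem_centralizer_singleton_iff.1 hx.1.2).symm)⟩)
      (fun x hx => ⟨⟨b.le_cent ((hM x).1 hx).1, Subgroup.mem_centralizer_singleton_iff.2
        (hMt x hx).symm.eq⟩, ((hM x).1 hx).1⟩), hM128]
  have hCJ : Nat.card (Cx ⊓ J : Subgroup G) = 2 ^ 9 := by rw [inf_eq_right.2 hJCx, b.card_J]
  rw [hHJ] at hScard
  rw [hCJ] at hC'card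
  -- the class lies in `t W`
  haveI : Fintype Cx := Fintype.ofFinite _
  set cl := Finset.univ.image fun k : Cx => (k : G) * t * (k : G)⁻¹ with hcl
  have hclW : ∀ x ∈ cl, ∃ y ∈ W, x = t * y := by
    intro x hx
    obtain ⟨⟨k, hkz, hkx⟩, -, rfl⟩ := Finset.mem_image.1 hx
    simp only
    set j := t⁻¹ * (k * t * k⁻¹) with hj
    have hktz : Commute (k * t * k⁻¹) z := (hkz.mul_left htz).mul_left hkz.inv_left
    have hjJ : j ∈ J := by
      refine (B.pr_eq_one b (htz.inv_left.mul_left hktz)).1 ?_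
      rw [pr_mul htz.inv_left hktz, pr_inv htz, pr_conj hkz htz, ← hvv,
        mul_inv_eq_iff_eq_mul.2 hkx.eq, inv_mul_cancel]
    have hx' : k * t * k⁻¹ = t * j := by rw [hj]; group
    refine ⟨j, ?_, hx'⟩
    have hjU : ∀ u ∈ U, Commute u j := by
      intro u hu
      have h1 : Commute t u := hMt u (hUM hu)
      have h2 : Commute (k * t * k⁻¹) u := by
        have hu' : k⁻¹ * u * k ∈ U := by
          have := U_conj_mem b f2 hkz.inv_left hu
          rwa [inv_inv] at this
        have := (hMt _ (hUM hu')).map (MulAut.conj k).toMonoidHom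
        simp only [MulEquiv.coe_toMonoidHom, MulAut.conj_apply] at this
        rwa [show k * (k⁻¹ * u * k) * k⁻¹ = u by group] at this
      rw [hj]
      exact h1.symm.inv_right.mul_right h2.symm
    have hjL : j ∈ ell J U := ⟨hjJ, Subgroup.mem_centralizer_iff.2 fun u hu => (hjU u hu).eq⟩
    have hsq : t * j * (t * j) = 1 := by
      rw [← hx', show k * t * k⁻¹ * (k * t * k⁻¹) = k * (t * t) * k⁻¹ by group, ht2]; group
    have htjt : t * j * t⁻¹ = j⁻¹ := by
      rw [hti]
      exact eq_inv_of_mul_eq_one_left (by rw [← hsq]; group)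
    have hjM : j ∈ M := by
      refine (hM j).2 ⟨hjJ, ?_⟩
      rw [htjt]
      rcases c.sq_mem j hjJ with e | e
      · exact Or.inl (inv_eq_of_mul_eq_one_right e)
      · exact Or.inr (inv_eq_of_mul_eq_one_right (by rw [← mul_assoc, e, c.sq]))
    have hj2 : j * j = 1 := by
      rw [mul_inv_eq_iff_eq_mul.2 (hMt j hjM).eq] at htjt
      exact mul_eq_one_iff_eq_inv.2 htjt
    -- `W` is elementary
    have hWel : ∀ y ∈ W, y * y = 1 := by
      intro y hy
      obtain ⟨hyJ, i, hi, he⟩ := (hW y).1 hy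
      set d := t * i * t⁻¹ * i⁻¹ with hd
      have hdJ : d ∈ J := mul_mem (c.conj_mem t htz i hi) (inv_mem hi)
      have hdW : d ∈ W := (hW d).2 ⟨hdJ, i, hi, Or.inl rfl⟩
      have h1 := c.invol_twice (k := i) ht2
      rw [← hd, mul_inv_eq_iff_eq_mul.2 (hMt d (hWM hdW)).eq] at h1
      have hd2 : d * d = 1 := mul_eq_one_iff_eq_inv.2 h1
      rcases he with e | e <;> rw [e]
      · exact hd2
      · rw [show d * z * (d * z) = d * (z * d) * z by group, ← (c.comm_z hdJ).eq,
          show d * (d * z) * z = d * d * (z * z) by group, hd2, c.sq, one_mul]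
    by_contra hjW
    have hjc : ∀ y ∈ W, Commute y j := fun y hy => hcomm y hy j hjM
    let E : Subgroup G :=
      { carrier := {e | e ∈ W ∨ ∃ y ∈ W, e = j * y}
        one_mem' := Or.inl (one_mem _)
        mul_mem' := by
          rintro p q (hp | ⟨p, hp, rfl⟩) (hq | ⟨q, hq, rfl⟩)
          · exact Or.inl (mul_mem hp hq)
          · exact Or.inr ⟨p * q, mul_mem hp hq, by rw [← mul_assoc, (hjc p hp).eq, mul_assoc]⟩
          · exact Or.inr ⟨p * q, mul_mem hp hq, mul_assoc _ _ _⟩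
          · refine Or.inl ?_
            rw [show j * p * (j * q) = j * (p * j) * q by group, (hjc p hp).eq, ← mul_assoc j j p, hj2,
              one_mul]
            exact mul_mem hp hq
        inv_mem' := by
          rintro p (hp | ⟨p, hp, rfl⟩)
          · exact Or.inl (inv_mem hp)
          · refine Or.inr ⟨p⁻¹, inv_mem hp, ?_⟩
            rw [mul_inv_rev, inv_eq_of_mul_eq_one_right hj2, (hjc p hp).inv_left.eq] }
    have hzW : z ∈ W := (hW z).2 ⟨b.z_mem, 1, one_mem _, Or.inr (by group)⟩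
    have hE16 : Nat.card E = 16 := by
      let f : W × Bool → E := fun p => bif p.2 then ⟨j * p.1, Or.inr ⟨p.1, p.1.2, rfl⟩⟩
        else ⟨p.1, Or.inl p.1.2⟩
      have hf : Function.Bijective f := by
        refine ⟨?_, ?_⟩
        · rintro ⟨p, rfl | rfl⟩ ⟨q, rfl | rfl⟩ h <;> have h' := congrArg Subtype.val h <;>
            simp only [f, cond_true, cond_false] at h'
          · rw [Subtype.ext h']
          · exfalso; exact hjW (by
              rw [show j = (p : G) * (q : G)⁻¹ by rw [h']; group]; exact mul_mem p.2 (inv_mem q.2))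
          · exfalso; exact hjW (by
              rw [show j = (q : G) * (p : G)⁻¹ by rw [← h']; group]; exact mul_mem q.2 (inv_mem p.2))
          · rw [Subtype.ext (mul_left_cancel h')]
        · rintro ⟨e, he | ⟨y, hy, rfl⟩⟩
          · exact ⟨(⟨e, he⟩, false), rfl⟩
          · exact ⟨(⟨y, hy⟩, true), rfl⟩
      rw [← Nat.card_congr (Equiv.ofBijective f hf), Nat.card_prod, hW8,
        Nat.card_eq_fintype_card (α := Bool), Fintype.card_bool]
    refine no_sixteen b f2 (E := E) ?_ (Or.inl hzW) hE16 ?_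
    · rintro p (hp | ⟨p, hp, rfl⟩)
      · exact hWL hp
      · exact mul_mem hjL (hWL hp)
    · rintro p (hp | ⟨p, hp, rfl⟩)
      · exact hWel p hp
      · rw [show j * p * (j * p) = j * (p * j) * p by group, (hjc p hp).eq, ← mul_assoc j j p, hj2,
          one_mul, hWel p hp]
  have hcl8 : cl.card ≤ 8 := by
    haveI : Fintype W := Fintype.ofFinite _
    refine le_trans (Finset.card_le_card (t := Finset.univ.image fun y : W => t * (y : G)) ?_) ?_
    · intro x hx
      obtain ⟨y, hy, rfl⟩ := hclW x hx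
      exact Finset.mem_image.2 ⟨⟨y, hy⟩, Finset.mem_univ _, rfl⟩
    · refine Finset.card_image_le.trans ?_
      rw [Finset.card_univ, ← Nat.card_eq_fintype_card, hW8]
  have hcnt := card_class Cx t
  rw [← hcl, show Cx ⊓ Subgroup.centralizer ({t} : Set G) = H from le_antisymm
    (fun x hx => ⟨mem_cent.2 hx.1.1, hx.2⟩) (fun x hx => ⟨hHCx hx, hx.2⟩)] at hcnt
  have hle : Nat.card C' ≤ 2 * Nat.card S := by
    have := Nat.mul_le_mul_right (Nat.card H) hcl8
    rw [hcnt, hC'card, hScard] at this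
    omega
  -- three cosets
  have hmem : ∀ x : Cfsg.PSp 2 F, Commute x (v * v) → x ∈ C' := by
    intro x hx
    obtain ⟨k, hk, rfl⟩ := B.pr_surj b x
    exact (hC' _).2 ⟨k, ⟨hk, hx⟩, rfl⟩
  have hnot : ∀ p q : Cfsg.PSp 2 F, ∀ s ∈ S, ∀ s' ∈ S, p * s = q * s' →
      p⁻¹ * q * v * (p⁻¹ * q)⁻¹ = v ∨ p⁻¹ * q * v * (p⁻¹ * q)⁻¹ = v⁻¹ := by
    intro p q s hs' s' hs'' e
    have : p⁻¹ * q = s * s'⁻¹ := by
      rw [eq_mul_inv_iff_mul_eq, mul_assoc, ← e, inv_mul_cancel_left]
    rw [this]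
    exact (hSv _ (mul_mem hs' (inv_mem hs''))).2
  let f : Fin 3 × S → C' := fun p =>
    ⟨(![1, a, a'] p.1) * (p.2 : Cfsg.PSp 2 F), mul_mem (hmem _ (by
      obtain ⟨i, s⟩ := p
      fin_cases i <;> simp [hac, ha'c])) (hmem _ (hSv _ p.2.2).1)⟩
  have hf : Function.Injective f := by
    rintro ⟨i, s⟩ ⟨i', s'⟩ h
    have h' : (![1, a, a'] i) * (s : Cfsg.PSp 2 F) = (![1, a, a'] i') * s' := congrArg Subtype.val h
    have hii : i = i' := by
      match i, i' with
      | 0, 0 => rfl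
      | 1, 1 => rfl
      | 2, 2 => rfl
      | 0, 1 =>
        have h1 := hnot 1 a _ s.2 _ s'.2 h'
        rw [inv_one, one_mul] at h1
        exact absurd h1 (not_or.2 ⟨n1, n2⟩)
      | 1, 0 =>
        have h1 := hnot 1 a _ s'.2 _ s.2 h'.symm
        rw [inv_one, one_mul] at h1
        exact absurd h1 (not_or.2 ⟨n1, n2⟩)
      | 0, 2 =>
        have h1 := hnot 1 a' _ s.2 _ s'.2 h'
        rw [inv_one, one_mul] at h1
        exact absurd h1 (not_or.2 ⟨n3, n4⟩)
      | 2, 0 =>
        have h1 := hnot 1 a' _ s'.2 _ s.2 h'.symm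
        rw [inv_one, one_mul] at h1
        exact absurd h1 (not_or.2 ⟨n3, n4⟩)
      | 1, 2 => exact absurd (hnot a a' _ s.2 _ s'.2 h') (not_or.2 ⟨n5, n6⟩)
      | 2, 1 => exact absurd (hnot a a' _ s'.2 _ s.2 h'.symm) (not_or.2 ⟨n5, n6⟩)
    subst hii
    rw [Subtype.ext (mul_left_cancel h')]
  have := Nat.card_le_card_of_injective f hf
  rw [Nat.card_prod, Nat.card_eq_fintype_card (α := Fin 3), Fintype.card_fin] at this
  have hpos : 0 < Nat.card S := Nat.card_pos
  omega

end Fx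

/-- With two fixed dimensions there is no other conjugate in the centraliser. -/
theorem wc_of_fixed2 [Finite G] (b : Base z J π) (hw : WCJ z J) (f2 : Fixed2 z J U) : WC z := by
  intro a ha hza
  by_cases haJ : a ∈ J
  · exact hw a haJ hza
  · exact (Fx.no_outside b f2 hw (mem_cent.1 ha) hza haJ).elim

end H55.U6C
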