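import Cfsg.Agent.H55.U6C.Five

/-!
With two fixed dimensions, the involution is weakly closed in the core.
-/

set_option autoImplicit false

namespace H55.U6C

open H38.U6C H99.LargeExtra

variable {G : Type*} [Group G] {F : Type*} [Field F] [Fintype F] {z : G} {J U : Subgroup G}
  {π : ↥(Subgroup.centralizer ({z} : Set G)) →* Cfsg.PSp 2 F}

/-- A noncentral element of the core has a centraliser of order 256 in it. -/
theorem Core.card_half [Finite G] (c : Core z J) {t : G} (ht : t ∈ J) (h1 : t ≠ 1) (h2 : t ≠ z) :
    Nat.card (J ⊓ Subgroup.centralizer ({t} : Set G) : Subgroup G) = 256 := by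
  set A := Subgroup.zpowers t ⊔ Subgroup.zpowers z with hA
  have hAJ : A ≤ J := sup_le (Subgroup.zpowers_le.2 ht) (Subgroup.zpowers_le.2 c.z_mem)
  have hzA : z ∈ A := Subgroup.mem_sup_right (Subgroup.mem_zpowers z)
  have htA : t ∈ A := Subgroup.mem_sup_left (Subgroup.mem_zpowers t)
  have he : J ⊓ Subgroup.centralizer (A : Set G) = J ⊓ Subgroup.centralizer ({t} : Set G) := by
    refine le_antisymm (inf_le_inf_left _ (Subgroup.centralizer_le (by simpa using htA))) ?_
    intro x hx
    refine ⟨hx.1, ?_⟩
    have h1 : A ≤ Subgroup.centralizer ({x} : Set G) := by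
      refine sup_le (Subgroup.zpowers_le.2 ?_) (Subgroup.zpowers_le.2 ?_)
      · exact Subgroup.mem_centralizer_singleton_iff.2 (Subgroup.mem_centralizer_singleton_iff.1 hx.2).symm
      · exact Subgroup.mem_centralizer_singleton_iff.2 (c.comm_z hx.1).symm.eq
    exact Subgroup.mem_centralizer_iff.2 fun a ha => Subgroup.mem_centralizer_singleton_iff.1 (h1 ha)
  have h := c.card_mul_card hAJ hzA
  rw [he] at h
  -- `A` has four elements
  have hA4 : Nat.card A = 4 := by
    classical
    let S : Subgroup G :=
      { carrier := {x | Eqz z x 1 ∨ Eqz z x t}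
        one_mem' := Or.inl (Or.inl rfl)
        mul_mem' := by
          have htt : Eqz z (t * t) 1 := (c.sq_mem t ht).imp id (fun e => e.trans (one_mul z).symm)
          have hmulz : ∀ {x y a b' : G}, Eqz z x a → Eqz z y b' → Commute b' z →
              Eqz z (x * y) (a * b') := fun h1 h2 hb =>
            c.eqz_trans (c.eqz_mul_left h2 _) (c.eqz_mul_right hb h1)
          intro x y hx hy
          rcases hx with hx | hx <;> rcases hy with hy | hy
          · exact Or.inl (by simpa using hmulz hx hy (Commute.one_left z))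
          · exact Or.inr (by simpa using hmulz hx hy (c.comm_z ht))
          · exact Or.inr (by simpa using hmulz hx hy (Commute.one_left z))
          · exact Or.inl (c.eqz_trans (hmulz hx hy (c.comm_z ht)) htt)
        inv_mem' := by
          intro x hx
          have hx' : x * x = 1 ∨ x * x = z := c.sq_mem x (by
            rcases hx with (rfl | rfl) | (rfl | rfl)
            exacts [one_mem _, by simpa using c.z_mem, ht, mul_mem ht c.z_mem])
          have e : Eqz z x⁻¹ x := by
            rcases hx' with e | e
            · exact Or.inl (inv_eq_of_mul_eq_one_right e)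
            · exact Or.inr (inv_eq_of_mul_eq_one_right (by rw [← mul_assoc, e, c.sq]))
          exact hx.imp (c.eqz_trans e) (c.eqz_trans e) }
    have hAS : A ≤ S := sup_le (Subgroup.zpowers_le.2 (Or.inr (Or.inl rfl)))
      (Subgroup.zpowers_le.2 (Or.inl (Or.inr (one_mul z).symm)))
    have hsub : (A : Set G) = (({1, z, t, t * z} : Finset G) : Set G) := by
      refine Set.Subset.antisymm (fun x hx => ?_) (fun x hx => ?_)
      · rcases hAS hx with (rfl | rfl) | (rfl | rfl) <;> simp
      · simp only [Finset.coe_insert, Finset.coe_singleton, Set.mem_insert_iff,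
          Set.mem_singleton_iff] at hx
        rcases hx with rfl | rfl | rfl | rfl
        exacts [one_mem _, hzA, htA, mul_mem htA hzA]
    show Nat.card (A : Set G) = 4
    rw [hsub, Nat.card_coe_set_eq, Set.ncard_coe_finset]
    have e1 : (1 : G) ≠ z := fun e => c.ne_one e.symm
    have e2 : t * z ≠ 1 := fun e => h2 (by rw [← mul_one t, ← c.sq, ← mul_assoc, e, one_mul])
    have e3 : t * z ≠ z := fun e => h1 (mul_right_cancel (e.trans (one_mul z).symm))
    have e4 : t ≠ t * z := fun e => c.ne_one (mul_left_cancel ((mul_one t).trans e)).symm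
    rw [Finset.card_insert_of_notMem (by simp [e1, Ne.symm h1, e2.symm]),
      Finset.card_insert_of_notMem (by simp [Ne.symm h2, e3.symm]), Finset.card_pair e4]
  rw [hA4] at h
  omega

namespace Fx

variable (b : Base z J π) (f2 : Fixed2 z J U)
include b f2

/-- The involution is weakly closed in the core. -/
theorem wcj_fixed [Finite G] : WCJ z J := by
  intro t ht hzt
  by_contra htz
  have c := B.core b
  obtain ⟨Q, L, hQz⟩ := B.large b
  obtain ⟨g, hg⟩ := isConj_iff.1 hzt
  have hs : Sing z t := ⟨g, hg⟩
  have hsz : Sing z z := ⟨1, by group⟩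
  have hzQt : z ∈ Q t := L.orth_symm hsz hs (hQz.symm ▸ ht)
  have ht1 : t ≠ 1 := L.ne_one hs
  have htc : Commute t z := c.comm_z ht
  -- the two centralisers
  set K := Q t ⊓ Subgroup.centralizer ({z} : Set G) with hK
  set z' := g⁻¹ * z * g with hz'
  have hz'J : z' ∈ J := by
    have h := L.mem_Q_conj' g (x := z) (a := z) (by rw [hg]; exact hzQt)
    rwa [hQz] at h
  have hz'1 : z' ≠ 1 := fun e => c.ne_one (by
    calc z = g * z' * g⁻¹ := by rw [hz']; group
      _ = 1 := by rw [e]; group)
  have hz'z : z' ≠ z := fun e => htz (by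
    calc t = g * z * g⁻¹ := hg.symm
      _ = g * z' * g⁻¹ := by rw [e]
      _ = z := by rw [hz']; group)
  have hKcard : Nat.card K = 256 := by
    rw [← c.card_half hz'J hz'1 hz'z]
    refine Nat.card_congr
      { toFun := fun x => ⟨g⁻¹ * x * g, ?_, ?_⟩
        invFun := fun y => ⟨g * y * g⁻¹, ?_, ?_⟩
        left_inv := fun x => Subtype.ext (by simp only; group)
        right_inv := fun y => Subtype.ext (by simp only; group) }
    · have h := L.mem_Q_conj' g (x := z) (a := (x : G)) (by rw [hg]; exact x.2.1)
      rwa [hQz] at h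
    · refine Subgroup.mem_centralizer_singleton_iff.2 ?_
      have := Subgroup.mem_centralizer_singleton_iff.1 x.2.2
      calc g⁻¹ * x * g * z' = g⁻¹ * ((x : G) * z) * g := by rw [hz']; group
        _ = g⁻¹ * (z * x) * g := by rw [this]
        _ = z' * (g⁻¹ * x * g) := by rw [hz']; group
    · have h := L.mem_Q_conj g (x := z) (a := (y : G)) (hQz.symm ▸ y.2.1)
      rwa [hg] at h
    · refine Subgroup.mem_centralizer_singleton_iff.2 ?_
      have := Subgroup.mem_centralizer_singleton_iff.1 y.2.2
      calc g * y * g⁻¹ * z = g * ((y : G) * (g⁻¹ * z * g)) * g⁻¹ := by group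
        _ = g * ((y : G) * z') * g⁻¹ := rfl
        _ = g * (z' * y) * g⁻¹ := by rw [this]
        _ = g * ((g⁻¹ * z * g) * y) * g⁻¹ := rfl
        _ = z * (g * y * g⁻¹) := by group
  have hKz : ∀ x ∈ K, Commute x z := fun x hx => mem_cent.1 hx.2
  obtain ⟨A, hA, hAcard⟩ := B.card_image b hKz
  rw [hKcard] at hAcard
  set D := K ⊓ J with hD
  -- `D` is elementary
  have hDcomm : ∀ x ∈ D, ∀ y ∈ D, Commute x y := by
    intro x hx y hy
    rcases c.comm_mem x hx.2 y hy.2 with h | h
    · exact h
    rcases L.comm_cases hs hx.1.1 hy.1.1 with h' | h'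
    · exact mul_inv_eq_iff_eq_mul.1 h'
    · exfalso
      rw [h, show y * x * z * x⁻¹ = y * (x * z * x⁻¹) by group,
        mul_inv_eq_iff_eq_mul.2 (c.comm_z hx.2).eq] at h'
      exact htz (mul_left_cancel h').symm
  have hD32 : Nat.card D ≤ 32 := c.card_le_of_abelian inf_le_right hDcomm
  -- the `L`-part of `t`
  obtain ⟨u, hu, v, hv, htuv⟩ := decomp b f2 ht
  have hAne : Nat.card A ≠ 1 := fun e => by rw [e, mul_one] at hAcard; omega
  have hA2 : IsPGroup 2 A := by
    haveI : Fact (Nat.Prime 2) := ⟨Nat.prime_two⟩
    obtain ⟨k, -, hk⟩ := (Nat.dvd_prime_pow Nat.prime_two).1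
      (show Nat.card A ∣ 2 ^ 8 from ⟨Nat.card D, by rw [mul_comm]; norm_num; exact hAcard⟩)
    exact IsPGroup.of_card hk
  -- elements fixing `t` normalise `K`
  have hnorm : ∀ h, Commute h z → Commute h t → ∀ x ∈ K, h * x * h⁻¹ ∈ K := fun h hhz hht x hx =>
    ⟨L.conj_mem hx.1 hht, mem_cent.2 (by
      have := (hKz x hx).map (MulAut.conj h).toMonoidHom
      simp only [MulEquiv.coe_toMonoidHom, MulAut.conj_apply] at this
      rwa [mul_inv_eq_iff_eq_mul.2 hhz.eq] at this)⟩
  by_cases hvz : v = 1 ∨ v = z
  · -- `t` is fixed modulo the centre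
    haveI := B.simple b
    have htfix : ∀ h, Commute h z → Eqz z (h * t * h⁻¹) t := by
      intro h hh
      rw [htuv, show h * (u * v) * h⁻¹ = h * u * h⁻¹ * (h * v * h⁻¹) by group]
      have hv' : h * v * h⁻¹ = v := by
        rcases hvz with e | e <;> rw [e]
        · group
        · exact mul_inv_eq_iff_eq_mul.2 hh.eq
      rw [hv']
      exact c.eqz_mul_right (c.comm_z hv.1) (U_conj b f2 hh hu)
    have hAn : A.Normal := by
      refine ⟨fun a ha x => ?_⟩
      obtain ⟨k, hk, rfl⟩ := (hA a).1 ha
      obtain ⟨h, hh, rfl⟩ := B.pr_surj b x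
      -- correct `h` inside the core
      obtain ⟨h', hh', hh't, he⟩ : ∃ h', Commute h' z ∧ Commute h' t ∧ pr π h' = pr π h := by
        rcases htfix h hh with e | e
        · exact ⟨h, hh, mul_inv_eq_iff_eq_mul.1 e, rfl⟩
        obtain ⟨j, hj, hjt⟩ : ∃ j ∈ J, ¬ Commute t j := by
          by_contra hno
          push Not at hno
          rcases b.center t ht hno with e | e
          · exact ht1 e
          · exact htz e
        have hjz : j * t * j⁻¹ = t * z :=
          (c.conj_eqz hj ht).resolve_left fun e => hjt (mul_inv_eq_iff_eq_mul.1 e).symm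
        refine ⟨h * j, hh.mul_left (c.comm_z hj), mul_inv_eq_iff_eq_mul.1 ?_, ?_⟩
        · rw [show h * j * t * (h * j)⁻¹ = h * (j * t * j⁻¹) * h⁻¹ by group, hjz,
            show h * (t * z) * h⁻¹ = h * t * h⁻¹ * (h * z * h⁻¹) by group, e,
            mul_inv_eq_iff_eq_mul.2 hh.eq, c.mul_z_z]
        · rw [pr_mul hh (c.comm_z hj), (B.pr_eq_one b (c.comm_z hj)).2 hj, mul_one]
      rw [← he, ← pr_conj hh' (hKz k hk)]
      exact (hA _).2 ⟨_, hnorm h' hh' hh't k hk, rfl⟩
    rcases Subgroup.Normal.eq_bot_or_eq_top hAn with e | e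
    · exact hAne (by rw [e, Subgroup.card_bot])
    · obtain ⟨k, hk⟩ := IsPGroup.iff_card.1 hA2
      rw [e, Subgroup.card_top, B.card_X b] at hk
      have : (3 : ℕ) ∣ 2 ^ k := hk ▸ (by norm_num)
      exact absurd (Nat.prime_three.dvd_of_dvd_pow this) (by norm_num)
  · obtain ⟨f, hfz, hfv, hf5⟩ := exists_five b f2 hv hvz
    have hf5' : f ^ 5 = 1 := by rw [← hf5]; exact pow_orderOf_eq_one f
    have hfu : Commute f u :=
      mul_inv_eq_iff_eq_mul.1 (c.odd_fix hfz (by decide) hf5' (U_conj b f2 hfz hu))
    have hft : Commute f t := htuv ▸ hfu.mul_right hfv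
    have hfJ : f ∉ J := fun h => by
      have := J.orderOf_dvd_natCard h
      rw [hf5, b.card_J] at this
      norm_num at this
    have hpf : orderOf (pr π f) = 5 := by
      haveI : Fact (Nat.Prime 5) := ⟨by norm_num⟩
      refine orderOf_eq_prime ?_ fun e => hfJ ((B.pr_eq_one b hfz).1 e)
      rw [← pr_pow hfz, hf5', pr_one]
    -- on the image
    have hmodA := five_modEq hpf (R := A) (fun a ha => by
      obtain ⟨k, hk, rfl⟩ := (hA a).1 ha
      rw [← pr_conj hfz (hKz k hk)]
      exact (hA _).2 ⟨_, hnorm f hfz hft k hk, rfl⟩)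
    haveI : Finite (Cfsg.PSp 2 F) := Nat.finite_of_card_ne_zero (by rw [B.card_X b]; norm_num)
    have hfixA : Nat.card (A ⊓ Subgroup.centralizer ({pr π f} : Set _) : Subgroup (Cfsg.PSp 2 F)) = 1 := by
      rw [Subgroup.card_eq_one, eq_bot_iff]
      intro a ha
      rw [Subgroup.mem_bot]
      by_contra ha1
      obtain ⟨k, hk⟩ := IsPGroup.iff_orderOf.1 hA2 ⟨a, ha.1⟩
      rw [Subgroup.orderOf_mk] at hk
      have hk0 : k ≠ 0 := fun e => ha1 (orderOf_eq_one_iff.1 (by rw [hk, e, pow_zero]))
      obtain ⟨m, rfl⟩ := Nat.exists_eq_succ_of_ne_zero hk0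
      have h2 : orderOf (a ^ 2 ^ m) = 2 := by
        rw [orderOf_pow' a (by positivity), hk, pow_succ, Nat.gcd_eq_right (Dvd.intro 2 rfl),
          Nat.mul_div_cancel_left _ (by positivity)]
      exact B.no_ten b h2 hpf ((show Commute a (pr π f) from
        Subgroup.mem_centralizer_singleton_iff.1 ha.2).pow_left _)
    rw [hfixA] at hmodA
    haveI : Fact (Nat.Prime 2) := ⟨Nat.prime_two⟩
    obtain ⟨k, hk8, hk⟩ := (Nat.dvd_prime_pow Nat.prime_two).1
      (show Nat.card A ∣ 2 ^ 8 from ⟨Nat.card D, by rw [mul_comm]; norm_num; exact hAcard⟩)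
    have hA16 : Nat.card A = 16 := by
      have hdiv : 2 ^ k ∣ 25920 := by rw [← hk, ← B.card_X b]; exact A.card_subgroup_dvd_card
      have hm : Nat.card A % 5 = 1 := hmodA
      rw [hk] at hm hAne ⊢
      interval_cases k <;>
        first | rfl | (norm_num at hm; done) | (norm_num at hAne; done) | (norm_num at hdiv; done)
    have hD16 : Nat.card D = 16 := by rw [hA16] at hAcard; omega
    -- on `D`
    have hmodD := five_modEq hf5 (R := D) (fun x hx =>
      ⟨hnorm f hfz hft x hx.1, c.conj_mem f hfz x hx.2⟩)
    rw [hD16] at hmodD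
    obtain ⟨k', -, hk'⟩ := (Nat.dvd_prime_pow Nat.prime_two).1
      (show Nat.card (D ⊓ Subgroup.centralizer ({f} : Set G) : Subgroup G) ∣ 2 ^ 4 by
        norm_num; exact hD16 ▸ Subgroup.card_dvd_of_le inf_le_left)
    have hDfix : D ≤ Subgroup.centralizer ({f} : Set G) := by
      have h16 : Nat.card (D ⊓ Subgroup.centralizer ({f} : Set G) : Subgroup G) = 16 := by
        have hzD : z ∈ D := ⟨⟨hzQt, mem_cent.2 (Commute.refl z)⟩, b.z_mem⟩
        have htD : t ∈ D := ⟨⟨L.self_mem hs, mem_cent.2 htc⟩, ht⟩
        have h3 : 2 < Nat.card (D ⊓ Subgroup.centralizer ({f} : Set G) : Subgroup G) := by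
          classical
          have hsub : ({1, z, t} : Finset G).card = 3 := by
            rw [Finset.card_insert_of_notMem (by simp [Ne.symm c.ne_one, Ne.symm ht1]),
              Finset.card_pair (Ne.symm htz)]
          show 3 ≤ _
          rw [← hsub, ← Set.ncard_coe_finset, ← SetLike.coe_sort_coe, Nat.card_coe_set_eq]
          refine Set.ncard_le_ncard (fun x hx => ?_) (Set.toFinite _)
          simp only [Finset.coe_insert, Finset.coe_singleton, Set.mem_insert_iff,
            Set.mem_singleton_iff] at hx
          rcases hx with rfl | rfl | rfl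
          exacts [one_mem _, ⟨hzD, Subgroup.mem_centralizer_singleton_iff.2 hfz.symm⟩,
            ⟨htD, Subgroup.mem_centralizer_singleton_iff.2 hft.symm⟩]
        have hle : Nat.card (D ⊓ Subgroup.centralizer ({f} : Set G) : Subgroup G) ≤ 16 :=
          hD16 ▸ Subgroup.card_le_of_le inf_le_left
        rw [hk'] at hmodD h3 hle ⊢
        have : k' ≤ 4 := (Nat.pow_le_pow_iff_right (show 1 < 2 by norm_num)).1 (by simpa using hle)
        interval_cases k' <;> simp [Nat.ModEq] at hmodD h3 ⊢
      exact (Subgroup.eq_of_le_of_card_ge inf_le_left (by rw [h16, hD16]) :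
        D ⊓ Subgroup.centralizer ({f} : Set G) = D) ▸ inf_le_right
    obtain ⟨hF32, hFcen⟩ := fixed_five b f2 hfz hf5
    set F0 := J ⊓ Subgroup.centralizer ({f} : Set G) with hF0
    have hDF : D ≤ F0 := le_inf inf_le_right hDfix
    by_cases hall : F0 ≤ D
    · -- `F0` would be abelian
      have h16le : 16 ≤ 2 := by
        rw [← hD16]
        classical
        have hsub : (D : Set G) ⊆ (({1, z} : Finset G) : Set G) := fun x hx => by
          rcases hFcen x (hDF hx) (fun y hy => hDcomm x hx y (hall hy)) with e | e <;> simp [e]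
        rw [← SetLike.coe_sort_coe, Nat.card_coe_set_eq]
        refine (Set.ncard_le_ncard hsub (Finset.finite_toSet _)).trans ?_
        rw [Set.ncard_coe_finset]
        exact Finset.card_le_two
      omega
    · obtain ⟨y, hy, hyD⟩ := Set.not_subset.1 hall
      -- the part of `D` commuting with `y` is central in `F0`
      set Dy := D ⊓ Subgroup.centralizer ({y} : Set G) with hDy
      have hsup : D ⊔ Subgroup.zpowers y = F0 := by
        refine Subgroup.eq_of_le_of_card_ge (sup_le hDF (Subgroup.zpowers_le.2 hy)) ?_
        obtain ⟨m, hm⟩ := Subgroup.card_dvd_of_le (le_sup_left : D ≤ D ⊔ Subgroup.zpowers y)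
        have hm1 : m ≠ 1 := by
          rintro rfl
          exact hyD ((Subgroup.eq_of_le_of_card_ge le_sup_left (by omega : _ ≤ Nat.card D)).ge
            (Subgroup.mem_sup_right (Subgroup.mem_zpowers y)))
        have hpos := Nat.card_pos (α := (D ⊔ Subgroup.zpowers y : Subgroup G))
        have hm2 : 2 ≤ m := by
          rcases m with _ | _ | m
          · omega
          · exact absurd rfl hm1
          · omega
        nlinarith
      have hyc : ∀ x ∈ Dy, x = 1 ∨ x = z := by
        intro x hx
        refine hFcen x (hDF hx.1) fun w hw => ?_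
        rw [← hsup] at hw
        have : D ⊔ Subgroup.zpowers y ≤ Subgroup.centralizer ({x} : Set G) := by
          refine sup_le (fun d hd => Subgroup.mem_centralizer_singleton_iff.2 (hDcomm d hd x hx.1).eq) ?_
          exact Subgroup.zpowers_le.2 (Subgroup.mem_centralizer_singleton_iff.2
            (Subgroup.mem_centralizer_singleton_iff.1 hx.2).symm)
        exact (Subgroup.mem_centralizer_singleton_iff.1 (this hw)).symm
      -- index at most two
      classical
      haveI : Fintype D := Fintype.ofFinite D
      have h16' : Fintype.card D = 16 := Nat.card_eq_fintype_card.symm.trans hD16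
      by_cases hd0 : ∃ d0 ∈ D, ¬ Commute d0 y
      · obtain ⟨d0, hd0, hd0y⟩ := hd0
        let f' : D → Bool × Bool := fun d =>
          (decide (Commute (d : G) y), if Commute (d : G) y then decide ((d : G) = 1)
            else decide ((d : G) = d0))
        have hinj : Function.Injective f' := by
          intro d d' hdd
          simp only [f', Prod.mk.injEq, decide_eq_decide] at hdd
          obtain ⟨h1, h2⟩ := hdd
          refine Subtype.ext ?_
          by_cases hc : Commute (d : G) y
          · have hc' := h1.1 hc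
            simp only [hc, hc', if_true, decide_eq_decide] at h2
            rcases hyc d ⟨d.2, Subgroup.mem_centralizer_singleton_iff.2 hc.eq⟩ with e | e <;>
              rcases hyc d' ⟨d'.2, Subgroup.mem_centralizer_singleton_iff.2 hc'.eq⟩ with e' | e'
            · rw [e, e']
            · exact absurd (h2.1 e) (e' ▸ c.ne_one)
            · exact absurd (h2.2 e') (e ▸ c.ne_one)
            · rw [e, e']
          · have hc' : ¬ Commute (d' : G) y := fun h => hc (h1.2 h)
            simp only [hc, hc', if_false, decide_eq_decide] at h2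
            have key : ∀ w : D, ¬ Commute (w : G) y → (w : G) = d0 ∨ (w : G) = d0 * z := by
              intro w hw
              have hww : Commute (d0⁻¹ * (w : G)) y := by
                by_contra hno
                have e1 : Core.chi y (d0 * (d0⁻¹ * (w : G))) = -1 := by
                  rw [mul_inv_cancel_left]; exact Core.chi_of_not fun h => hw h.symm
                rw [c.chi_mul hy.1 hd0.2 (mul_mem (inv_mem hd0.2) w.2.2),
                  Core.chi_of_not (fun h : Commute y d0 => hd0y h.symm),
                  Core.chi_of_not (fun h : Commute y (d0⁻¹ * (w : G)) => hno h.symm)] at e1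
                norm_num at e1
              rcases hyc _ ⟨D.mul_mem (D.inv_mem hd0) w.2,
                Subgroup.mem_centralizer_singleton_iff.2 hww.eq⟩ with e | e
              · exact Or.inl (inv_mul_eq_one.1 e).symm
              · exact Or.inr (inv_mul_eq_iff_eq_mul.1 e)
            rcases key d hc with e | e <;> rcases key d' hc' with e' | e'
            · rw [e, e']
            · exact absurd (h2.1 e) (by rw [e']; simpa using c.ne_one)
            · exact absurd (h2.2 e') (by rw [e]; simpa using c.ne_one)
            · rw [e, e']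
        have := Fintype.card_le_of_injective f' hinj
        rw [h16', Fintype.card_prod, Fintype.card_bool] at this
        omega
      · push Not at hd0
        let f' : D → Bool := fun d => decide ((d : G) = 1)
        have hinj : Function.Injective f' := by
          intro d d' hdd
          simp only [f', decide_eq_decide] at hdd
          refine Subtype.ext ?_
          rcases hyc d ⟨d.2, Subgroup.mem_centralizer_singleton_iff.2 (hd0 d d.2).eq⟩ with e | e <;>
            rcases hyc d' ⟨d'.2, Subgroup.mem_centralizer_singleton_iff.2 (hd0 d' d'.2).eq⟩ with e' | e'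
          · rw [e, e']
          · exact absurd (hdd.1 e) (e' ▸ c.ne_one)
          · exact absurd (hdd.2 e') (e ▸ c.ne_one)
          · rw [e, e']
        have := Fintype.card_le_of_injective f' hinj
        rw [h16', Fintype.card_bool] at this
        omega

end Fx

end H55.U6C
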