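import Cfsg.Agent.H55.U6C.Extra

/-!
Signs of squares and conjugacy class sizes.
-/

set_option autoImplicit false

namespace H55.U6C

variable {G : Type*} [Group G]

/-- The sign of the square. -/
noncomputable def eps (j : G) : ℤ := by
  classical
  exact if j * j = 1 then 1 else -1

namespace Core

variable {z : G} {J : Subgroup G}

theorem eps_cases (j : G) : eps j = 1 ∨ eps j = -1 := by
  rw [eps]
  by_cases h : j * j = 1
  · exact Or.inl (if_pos h)
  · exact Or.inr (if_neg h)

theorem eps_of_sq {j : G} (h : j * j = 1) : eps j = 1 := by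
  rw [eps]
  exact if_pos h

theorem eps_of_z (c : Core z J) {j : G} (h : j * j = z) : eps j = -1 := by
  rw [eps]
  exact if_neg fun h1 => c.ne_one (h.symm.trans h1)

theorem eps_mul (c : Core z J) {j d : G} (hj : j ∈ J) (hd : d ∈ J) :
    eps (j * d) = eps j * eps d * chi j d := by
  have key : j * d * (j * d) = j * j * (d * d) * (if chi j d = 1 then 1 else z) := by
    by_cases h : Commute j d
    · rw [if_pos (chi_of_comm h), mul_one, mul_assoc, ← mul_assoc d j d, ← h.eq, mul_assoc j d d,
        ← mul_assoc]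
    · rw [if_neg (by rw [chi_of_not h]; norm_num)]
      have h1 := (c.not_comm_iff hd hj).1 fun e => h e.symm
      rw [mul_assoc, ← mul_assoc d j d, h1, mul_assoc (j * d) z d, ← (c.comm_z hd).eq]
      group
  have hv : ∀ x : G, x = 1 ∨ x = z → ∀ y : G, y = 1 ∨ y = z → x * y = 1 ∨ x * y = z := by
    rintro x (rfl | rfl) y (rfl | rfl)
    · exact Or.inl (one_mul 1)
    · exact Or.inr (one_mul _)
    · exact Or.inr (mul_one _)
    · exact Or.inl c.sq
  rcases c.sq_mem j hj with hj2 | hj2 <;> rcases c.sq_mem d hd with hd2 | hd2 <;>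
    by_cases h : Commute j d <;>
    first
      | (rw [chi_of_comm h] at key ⊢
         rw [if_pos rfl, hj2, hd2] at key
         simp only [one_mul, mul_one, c.sq] at key
         first
           | (rw [eps_of_sq key]; first | (rw [eps_of_sq hj2]) | (rw [c.eps_of_z hj2]))
           | (rw [c.eps_of_z key]; first | (rw [eps_of_sq hj2]) | (rw [c.eps_of_z hj2]))
         first | (rw [eps_of_sq hd2]; norm_num) | (rw [c.eps_of_z hd2]; norm_num))
      | (rw [chi_of_not h] at key ⊢
         rw [if_neg (by norm_num : ¬ (-1 : ℤ) = 1), hj2, hd2] at key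
         simp only [one_mul, mul_one, c.sq] at key
         first
           | (rw [eps_of_sq key]; first | (rw [eps_of_sq hj2]) | (rw [c.eps_of_z hj2]))
           | (rw [c.eps_of_z key]; first | (rw [eps_of_sq hj2]) | (rw [c.eps_of_z hj2]))
         first | (rw [eps_of_sq hd2]; norm_num) | (rw [c.eps_of_z hd2]; norm_num))

/-- The square of the sum of the signs, for a subgroup with centre of order two. -/
theorem sum_eps_sq [Finite G] (c : Core z J) {A : Subgroup G} [Fintype A] (hA : A ≤ J) (hz : z ∈ A)
    (hcen : ∀ a ∈ A, (∀ a' ∈ A, Commute a a') → a = 1 ∨ a = z) :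
    (∑ j : A, eps (j : G)) ^ 2 = 2 * Fintype.card A := by
  classical
  rw [pow_two, Finset.sum_mul]
  have h1 : ∀ j : A, eps (j : G) * ∑ k : A, eps (k : G) =
      ∑ d : A, eps (d : G) * chi (j : G) (d : G) := by
    intro j
    rw [Finset.mul_sum, ← Equiv.sum_comp (Equiv.mulLeft j) fun k : A => eps (j : G) * eps (k : G)]
    refine Finset.sum_congr rfl fun d _ => ?_
    simp only [Equiv.coe_mulLeft, Subgroup.coe_mul]
    rw [c.eps_mul (hA j.2) (hA d.2)]
    rcases eps_cases (j : G) with e | e <;> rw [e] <;> ring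
  rw [Finset.sum_congr rfl fun j _ => h1 j, Finset.sum_comm]
  have h2 : ∀ d : A, ∑ j : A, eps (d : G) * chi (j : G) (d : G) =
      if (d : G) = 1 ∨ (d : G) = z then (Fintype.card A : ℤ) * eps (d : G) else 0 := by
    intro d
    rw [← Finset.mul_sum]
    split_ifs with h
    · have hcm : ∀ j : A, Commute (j : G) (d : G) := fun j => by
        rcases h with h | h <;> rw [h]
        · exact Commute.one_right _
        · exact c.comm_z (hA j.2)
      simp only [fun j : A => chi_of_comm (hcm j), Finset.sum_const, Finset.card_univ, nsmul_eq_mul,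
        mul_one]
      ring
    · simp only [fun j : A => chi_symm (j : G) (d : G)]
      rw [c.sum_chi_eq_zero hA (hA d.2), mul_zero]
      by_contra hno
      push Not at hno
      exact h (hcen _ d.2 fun a' ha' => hno a' ha')
  rw [Finset.sum_congr rfl fun d _ => h2 d, ← Finset.sum_filter,
    show (Finset.univ.filter fun a : A => (a : G) = 1 ∨ (a : G) = z) = {1, ⟨z, hz⟩} by
      ext a
      simp only [Finset.mem_filter, Finset.mem_univ, true_and, Finset.mem_insert,
        Finset.mem_singleton, Subtype.ext_iff, OneMemClass.coe_one],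
    Finset.sum_pair fun h => c.ne_one (congrArg Subtype.val h).symm]
  have e1 : eps ((1 : A) : G) = 1 := eps_of_sq (by simp)
  have e2 : eps ((⟨z, hz⟩ : A) : G) = 1 := eps_of_sq c.sq
  rw [e1, e2]
  ring

end Core

/-- The size of a conjugacy class under a subgroup. -/
theorem card_class [Finite G] [DecidableEq G] (H : Subgroup G) [Fintype H] (v : G) :
    (Finset.univ.image fun h : H => (h : G) * v * (h : G)⁻¹).card *
      Nat.card (H ⊓ Subgroup.centralizer ({v} : Set G) : Subgroup G) = Nat.card H := by
  classical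
  set f : H → G := fun h => (h : G) * v * (h : G)⁻¹ with hf
  rw [Nat.card_eq_fintype_card (α := H), ← Finset.card_univ (α := H),
    Finset.card_eq_sum_card_image f Finset.univ, Finset.sum_const_nat]
  intro x hx
  obtain ⟨g, -, rfl⟩ := Finset.mem_image.1 hx
  rw [← Nat.card_eq_finsetCard]
  refine Nat.card_congr
    { toFun := fun h => ⟨(g : G)⁻¹ * (h.1 : G), ⟨H.mul_mem (H.inv_mem g.2) h.1.2, ?_⟩⟩
      invFun := fun k => ⟨⟨(g : G) * k, mul_mem g.2 k.2.1⟩, ?_⟩
      left_inv := fun h => Subtype.ext (Subtype.ext (mul_inv_cancel_left _ _))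
      right_inv := fun k => Subtype.ext (inv_mul_cancel_left _ _) }
  · have := (Finset.mem_filter.1 h.2).2
    simp only [hf] at this
    refine Subgroup.mem_centralizer_singleton_iff.2 (mul_inv_eq_iff_eq_mul.1 ?_)
    rw [show (g : G)⁻¹ * h.1 * v * ((g : G)⁻¹ * h.1)⁻¹ = (g : G)⁻¹ * ((h.1 : G) * v * (h.1 : G)⁻¹) * g
      by group, this]
    group
  · have := Subgroup.mem_centralizer_singleton_iff.1 k.2.2
    refine Finset.mem_filter.2 ⟨Finset.mem_univ _, ?_⟩
    show (g : G) * k * v * ((g : G) * k)⁻¹ = g * v * (g : G)⁻¹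
    rw [mul_assoc (g : G) k v, this]
    group

end H55.U6C
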