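import Cfsg.Agent.H38.U6C.Stmts

/-!
An extraspecial normal subgroup `J` of order `2^9` of an involution centraliser: the duality
between subgroups containing the centre, and the automorphisms trivial modulo the centre.
-/

set_option autoImplicit false

namespace H55.U6C

variable {G : Type*} [Group G]

/-- Equality up to the central involution. -/
def Eqz (z a b : G) : Prop := a = b ∨ a = b * z

/-- The data of the core. -/
structure Core (z : G) (J : Subgroup G) : Prop where
  sq : z * z = 1
  ne_one : z ≠ 1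
  le_cent : J ≤ Subgroup.centralizer ({z} : Set G)
  z_mem : z ∈ J
  card_J : Nat.card J = 2 ^ 9
  conj_mem : ∀ g, Commute g z → ∀ j ∈ J, g * j * g⁻¹ ∈ J
  sq_mem : ∀ a ∈ J, a * a = 1 ∨ a * a = z
  comm_mem : ∀ a ∈ J, ∀ b ∈ J, a * b = b * a ∨ a * b = b * a * z
  center : ∀ a ∈ J, (∀ b ∈ J, Commute a b) → a = 1 ∨ a = z
  self_cent : ∀ g, Commute g z → (∀ j ∈ J, Commute g j) → g ∈ J

theorem mem_cent {z g : G} : g ∈ Subgroup.centralizer ({z} : Set G) ↔ Commute g z :=
  ⟨fun h => Subgroup.mem_centralizer_singleton_iff.1 h,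
    fun h => Subgroup.mem_centralizer_singleton_iff.2 h⟩

theorem core_of_base {F : Type*} [Field F] [Fintype F] {z : G} {J : Subgroup G}
    {π : ↥(Subgroup.centralizer ({z} : Set G)) →* Cfsg.PSp 2 F} (b : H38.U6C.Base z J π) :
    Core z J :=
  { sq := b.sq, ne_one := b.ne_one, le_cent := b.le_cent, z_mem := b.z_mem, card_J := b.card_J
    conj_mem := fun g hg => b.conj_mem g (mem_cent.2 hg)
    sq_mem := b.sq_mem, comm_mem := b.comm_mem, center := b.center
    self_cent := fun g hg => b.self_cent g (mem_cent.2 hg) }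

namespace Core

variable {z : G} {J : Subgroup G}

theorem inv_z (c : Core z J) : z⁻¹ = z := inv_eq_of_mul_eq_one_right c.sq

theorem comm_z (c : Core z J) {a : G} (ha : a ∈ J) : Commute a z := mem_cent.1 (c.le_cent ha)

theorem mul_z_z (c : Core z J) (a : G) : a * z * z = a := by rw [mul_assoc, c.sq, mul_one]

theorem eqz_refl (_c : Core z J) (a : G) : Eqz z a a := Or.inl rfl

theorem eqz_symm (c : Core z J) {a b : G} (h : Eqz z a b) : Eqz z b a := by
  rcases h with h | h
  · exact Or.inl h.symm
  · exact Or.inr (by rw [h, c.mul_z_z])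

theorem eqz_trans (c : Core z J) {a b d : G} (h : Eqz z a b) (h' : Eqz z b d) : Eqz z a d := by
  rcases h with rfl | rfl
  · exact h'
  rcases h' with rfl | rfl
  · exact Or.inr rfl
  · exact Or.inl (c.mul_z_z d)

theorem eqz_mul_left (_c : Core z J) {a b : G} (h : Eqz z a b) (x : G) : Eqz z (x * a) (x * b) := by
  rcases h with rfl | rfl
  · exact Or.inl rfl
  · exact Or.inr (mul_assoc _ _ _).symm

theorem eqz_mul_right (_c : Core z J) {a b x : G} (hx : Commute x z) (h : Eqz z a b) :
    Eqz z (a * x) (b * x) := by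
  rcases h with rfl | rfl
  · exact Or.inl rfl
  · exact Or.inr (by rw [mul_assoc, ← hx.eq, ← mul_assoc])

theorem eqz_conj (_c : Core z J) {a b g : G} (hg : Commute g z) (h : Eqz z a b) :
    Eqz z (g * a * g⁻¹) (g * b * g⁻¹) := by
  rcases h with rfl | rfl
  · exact Or.inl rfl
  · refine Or.inr ?_
    rw [show g * (b * z) * g⁻¹ = g * b * (z * g⁻¹) by group, ← hg.inv_left.eq]
    group

theorem eqz_mem (c : Core z J) {A : Subgroup G} (hz : z ∈ A) {a b : G} (h : Eqz z a b) (hb : b ∈ A) :
    a ∈ A := by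
  rcases h with rfl | rfl
  · exact hb
  · exact mul_mem hb hz

/-- The two possibilities for a conjugate inside `J`. -/
theorem conj_eqz (c : Core z J) {a b : G} (ha : a ∈ J) (hb : b ∈ J) :
    Eqz z (a * b * a⁻¹) b := by
  rcases c.comm_mem a ha b hb with h | h
  · exact Or.inl (mul_inv_eq_iff_eq_mul.2 h)
  · refine Or.inr (mul_inv_eq_iff_eq_mul.2 ?_)
    rw [h, mul_assoc, mul_assoc, (c.comm_z ha).eq]

theorem commute_eqz (c : Core z J) {a b d : G} (hd : Commute d z) (h : Eqz z a b) :
    Commute d a ↔ Commute d b := by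
  rcases h with rfl | rfl
  · exact Iff.rfl
  · constructor
    · intro h
      have := h.mul_right hd
      rwa [c.mul_z_z] at this
    · exact fun h => h.mul_right hd

/-- The sign of a commutator. -/
noncomputable def chi (a b : G) : ℤ := by
  classical
  exact if a * b = b * a then 1 else -1

theorem chi_of_comm {a b : G} (h : Commute a b) : chi a b = 1 := by
  rw [chi, if_pos h.eq]

theorem chi_of_not {a b : G} (h : ¬ Commute a b) : chi a b = -1 := by
  rw [chi]
  exact if_neg fun e => h e

theorem not_comm_iff (c : Core z J) {a b : G} (ha : a ∈ J) (hb : b ∈ J) :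
    ¬ Commute a b ↔ a * b = b * a * z := by
  constructor
  · exact fun h => (c.comm_mem a ha b hb).resolve_left h
  · intro h hc
    refine c.ne_one ?_
    rw [hc.eq] at h
    calc z = (b * a)⁻¹ * (b * a * z) := by group
      _ = 1 := by rw [← h]; group

theorem chi_mul (c : Core z J) {a b d : G} (ha : a ∈ J) (hb : b ∈ J) (hd : d ∈ J) :
    chi a (b * d) = chi a b * chi a d := by
  by_cases h1 : Commute a b
  · rw [chi_of_comm h1, one_mul]
    by_cases h2 : Commute a d
    · rw [chi_of_comm h2, chi_of_comm (h1.mul_right h2)]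
    · rw [chi_of_not h2, chi_of_not]
      intro h
      exact h2 (by have := h1.inv_right.mul_right h; rwa [inv_mul_cancel_left] at this)
  · by_cases h2 : Commute a d
    · rw [chi_of_comm h2, mul_one, chi_of_not h1, chi_of_not]
      intro h
      exact h1 (by have := h.mul_right h2.inv_right; rwa [mul_inv_cancel_right] at this)
    · rw [chi_of_not h1, chi_of_not h2, neg_mul_neg, one_mul, chi_of_comm]
      show a * (b * d) = b * d * a
      rw [← mul_assoc, (c.not_comm_iff ha hb).1 h1, mul_assoc (b * a), ← (c.comm_z hd).eq,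
        ← mul_assoc, mul_assoc b a d, (c.not_comm_iff ha hd).1 h2, ← mul_assoc, c.mul_z_z,
        ← mul_assoc]

theorem chi_symm (a b : G) : chi a b = chi b a := by
  by_cases h : Commute a b
  · rw [chi_of_comm h, chi_of_comm h.symm]
  · rw [chi_of_not h, chi_of_not fun h' => h h'.symm]

/-- A sum of signs over a subgroup with a nontrivial sign. -/
theorem sum_chi_eq_zero [Finite G] (c : Core z J) {A : Subgroup G} [Fintype A] (hA : A ≤ J) {x : G}
    (hx : x ∈ J) (hne : ∃ a ∈ A, ¬ Commute x a) : ∑ a : A, chi x (a : G) = 0 := by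
  obtain ⟨a0, ha0, hn⟩ := hne
  have h := Equiv.sum_comp (Equiv.mulLeft (⟨a0, ha0⟩ : A)) fun a : A => chi x (a : G)
  simp only [Equiv.coe_mulLeft, Subgroup.coe_mul] at h
  have h2 : ∑ a : A, chi x (a0 * (a : G)) = -∑ a : A, chi x (a : G) := by
    rw [← Finset.sum_neg_distrib]
    refine Finset.sum_congr rfl fun a _ => ?_
    rw [c.chi_mul hx (hA ha0) (hA a.2), chi_of_not hn, neg_one_mul]
  omega

/-- Duality for a subgroup containing the centre. -/
theorem card_mul_card [Finite G] (c : Core z J) {A : Subgroup G} (hA : A ≤ J) (hz : z ∈ A) :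
    Nat.card A * Nat.card (J ⊓ Subgroup.centralizer (A : Set G) : Subgroup G) = 2 ^ 10 := by
  classical
  set B := J ⊓ Subgroup.centralizer (A : Set G) with hB
  haveI : Fintype A := Fintype.ofFinite A
  haveI : Fintype J := Fintype.ofFinite J
  haveI : Fintype B := Fintype.ofFinite B
  have h1 : ∀ a : A, ∑ j : J, chi (a : G) (j : G)
      = if (a : G) = 1 ∨ (a : G) = z then (2 ^ 9 : ℤ) else 0 := by
    intro a
    split_ifs with h
    · have hcm : ∀ j : J, Commute (a : G) (j : G) := fun j => by
        rcases h with h | h <;> rw [h]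
        · exact Commute.one_left _
        · exact (c.comm_z j.2).symm
      simp only [fun j : J => chi_of_comm (hcm j), Finset.sum_const, Finset.card_univ,
        ← Nat.card_eq_fintype_card, c.card_J, nsmul_eq_mul, mul_one, Nat.cast_pow, Nat.cast_ofNat]
    · refine c.sum_chi_eq_zero le_rfl (hA a.2) ?_
      by_contra hno
      push Not at hno
      exact h (c.center _ (hA a.2) hno)
  have h2 : ∀ j : J, ∑ a : A, chi (a : G) (j : G)
      = if (j : G) ∈ B then (Nat.card A : ℤ) else 0 := by
    intro j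
    split_ifs with h
    · have hcm : ∀ a : A, Commute (a : G) (j : G) := fun a =>
        Subgroup.mem_centralizer_iff.1 h.2 _ a.2
      simp only [fun a : A => chi_of_comm (hcm a), Finset.sum_const, Finset.card_univ,
        ← Nat.card_eq_fintype_card, nsmul_eq_mul, mul_one]
    · simp only [fun a : A => chi_symm (a : G) (j : G)]
      refine c.sum_chi_eq_zero hA j.2 ?_
      by_contra hno
      push Not at hno
      exact h ⟨j.2, Subgroup.mem_centralizer_iff.2 fun a ha => (hno a ha).symm.eq⟩
  have hs : ∑ a : A, ∑ j : J, chi (a : G) (j : G) = ∑ j : J, ∑ a : A, chi (a : G) (j : G) :=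
    Finset.sum_comm
  rw [Finset.sum_congr rfl fun a _ => h1 a, Finset.sum_congr rfl fun j _ => h2 j, ← Finset.sum_filter,
    ← Finset.sum_filter, Finset.sum_const, Finset.sum_const] at hs
  have e1 : (Finset.univ.filter fun a : A => (a : G) = 1 ∨ (a : G) = z).card = 2 := by
    rw [show (Finset.univ.filter fun a : A => (a : G) = 1 ∨ (a : G) = z) = {1, ⟨z, hz⟩} by
      ext a; simp only [Finset.mem_filter, Finset.mem_univ, true_and, Finset.mem_insert, Finset.mem_singleton, Subtype.ext_iff, OneMemClass.coe_one]]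
    exact Finset.card_pair fun h => c.ne_one (congrArg Subtype.val h).symm
  have e2 : (Finset.univ.filter fun j : J => (j : G) ∈ B).card = Nat.card B := by
    rw [Nat.card_eq_fintype_card, ← Fintype.card_subtype]
    exact Fintype.card_congr
      { toFun := fun j => ⟨j.1.1, j.2⟩
        invFun := fun b => ⟨⟨b.1, b.2.1⟩, b.2⟩
        left_inv := fun _ => rfl
        right_inv := fun _ => rfl }
  rw [e1, e2] at hs
  simp only [nsmul_eq_mul, Nat.cast_ofNat] at hs
  have : ((Nat.card A * Nat.card B : ℕ) : ℤ) = ((2 ^ 10 : ℕ) : ℤ) := by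
    push_cast
    linarith
  exact_mod_cast this

theorem card_pos' [Finite G] (A : Subgroup G) : 0 < Nat.card A := Nat.card_pos

/-- An abelian subgroup of `J` has order at most 32. -/
theorem card_le_of_abelian [Finite G] (c : Core z J) {A : Subgroup G} (hA : A ≤ J)
    (hab : ∀ a ∈ A, ∀ b ∈ A, Commute a b) : Nat.card A ≤ 32 := by
  set B := A ⊔ Subgroup.zpowers z with hB
  have hzJ : Subgroup.zpowers z ≤ J := Subgroup.zpowers_le.2 c.z_mem
  have hBJ : B ≤ J := sup_le hA hzJ
  have hBc : B ≤ Subgroup.centralizer (B : Set G) := by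
    refine sup_le ?_ ?_
    · rw [Subgroup.le_centralizer_iff]
      refine sup_le ?_ (Subgroup.zpowers_le.2 ?_)
      · exact fun a ha => Subgroup.mem_centralizer_iff.2 fun b hb => hab b hb a ha
      · exact Subgroup.mem_centralizer_iff.2 fun b hb => (c.comm_z (hA hb)).eq
    · rw [Subgroup.zpowers_le]
      exact Subgroup.mem_centralizer_iff.2 fun b hb => (c.comm_z (hBJ hb)).eq
  have h := c.card_mul_card hBJ (le_sup_right (a := A) (Subgroup.mem_zpowers z))
  have h1 : Nat.card B ≤ Nat.card (J ⊓ Subgroup.centralizer (B : Set G) : Subgroup G) :=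
    Nat.card_le_card_of_injective _ (Subgroup.inclusion_injective (le_inf hBJ hBc))
  have h2 : Nat.card A ≤ Nat.card B :=
    Nat.card_le_card_of_injective _ (Subgroup.inclusion_injective le_sup_left)
  nlinarith

/-- An element inducing the identity modulo the centre lies in `J`. -/
theorem mem_of_trivial [Finite G] (c : Core z J) {g : G} (hg : Commute g z)
    (h : ∀ j ∈ J, Eqz z (g * j * g⁻¹) j) : g ∈ J := by
  let K : Subgroup G :=
    { carrier := {j | j ∈ J ∧ Commute g j}
      one_mem' := ⟨one_mem _, Commute.one_right _⟩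
      mul_mem' := fun ha hb => ⟨mul_mem ha.1 hb.1, ha.2.mul_right hb.2⟩
      inv_mem' := fun ha => ⟨inv_mem ha.1, ha.2.inv_right⟩ }
  by_cases hall : ∀ j ∈ J, Commute g j
  · exact c.self_cent g hg hall
  have hnot : ∀ j ∈ J, j ∉ K → g * j * g⁻¹ = j * z := fun j hj hjK =>
    (h j hj).resolve_left fun e => hjK ⟨hj, mul_inv_eq_iff_eq_mul.1 e⟩
  push Not at hall
  obtain ⟨j1, hj1, hn1⟩ := hall
  have hKJ : K ≤ J := fun j hj => hj.1
  have hzK : z ∈ K := ⟨c.z_mem, hg⟩
  -- the centraliser of `K` in `J`
  have hmul : ∀ a ∈ J, ∀ b ∈ J, a ∉ K → b ∉ K → a⁻¹ * b ∈ K := by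
    intro a ha b hb haK hbK
    refine ⟨mul_mem (inv_mem ha) hb, mul_inv_eq_iff_eq_mul.1 ?_⟩
    rw [show g * (a⁻¹ * b) * g⁻¹ = (g * a * g⁻¹)⁻¹ * (g * b * g⁻¹) by group, hnot a ha haK,
      hnot b hb hbK, mul_inv_rev, c.inv_z, ← mul_assoc, mul_assoc z a⁻¹ b,
      ← (c.comm_z (mul_mem (inv_mem ha) hb)).eq, c.mul_z_z]
  have hhalf : Nat.card J ≤ 2 * Nat.card K := by
    classical
    let f : J → K × Bool := fun j => if hk : (j : G) ∈ K then (⟨j, hk⟩, true)
      else (⟨j1⁻¹ * j, hmul j1 hj1 j j.2 (fun hh => hn1 hh.2) hk⟩, false)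
    have hf : Function.Injective f := by
      intro a b hab
      simp only [f] at hab
      by_cases ha : (a : G) ∈ K <;> by_cases hb : (b : G) ∈ K <;> simp [ha, hb] at hab
      · exact hab
      · exact hab
    have := Nat.card_le_card_of_injective f hf
    rw [Nat.card_prod, Nat.card_eq_fintype_card (α := Bool), Fintype.card_bool] at this
    omega
  have hcard := c.card_mul_card hKJ hzK
  -- a noncentral element of it
  set B := J ⊓ Subgroup.centralizer (K : Set G) with hB
  obtain ⟨j0, hj0, hj0z⟩ : ∃ j0 ∈ B, ¬ (j0 = 1 ∨ j0 = z) := by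
    by_contra hno
    push Not at hno
    have hle : Nat.card B ≤ 2 := by
      classical
      have := Nat.card_le_card_of_injective (fun b : B => decide ((b : G) = 1)) ?_
      · rwa [Nat.card_eq_fintype_card (α := Bool), Fintype.card_bool] at this
      intro a b hab
      refine Subtype.ext ?_
      simp only [decide_eq_decide] at hab
      rcases hno a a.2 with ha | ha <;> rcases hno b b.2 with hb | hb
      · rw [ha, hb]
      · exact absurd (hab.1 ha) (hb ▸ c.ne_one)
      · exact absurd (hab.2 hb) (ha ▸ c.ne_one)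
      · rw [ha, hb]
    have hKlt : Nat.card K < 2 ^ 9 := by
      rw [← c.card_J]
      refine lt_of_le_of_ne (Nat.card_le_card_of_injective _ (Subgroup.inclusion_injective hKJ)) ?_
      intro he
      exact hn1 (((Subgroup.eq_of_le_of_card_ge hKJ he.ge).ge hj1).2)
    nlinarith [card_pos' K]
  have hcomm : ∀ j ∈ J, Commute j0 j → j ∈ K := by
    intro j hj hjj
    by_contra hjK
    apply hj0z
    refine c.center j0 hj0.1 fun b hb => ?_
    by_cases hbK : b ∈ K
    · exact (Subgroup.mem_centralizer_iff.1 hj0.2 b hbK).symm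
    · have hd : Commute j0 (j⁻¹ * b) :=
        (Subgroup.mem_centralizer_iff.1 hj0.2 _ (hmul j hj b hb hjK hbK)).symm
      have := hjj.mul_right hd
      rwa [mul_inv_cancel_left] at this
  have key : g * j0 ∈ J := by
    refine c.self_cent _ (hg.mul_left (c.comm_z hj0.1)) fun j hj => ?_
    refine mul_inv_eq_iff_eq_mul.1 ?_
    rw [show g * j0 * j * (g * j0)⁻¹ = g * (j0 * j * j0⁻¹) * g⁻¹ by group]
    by_cases hjK : j ∈ K
    · rw [mul_inv_eq_iff_eq_mul.2 (Subgroup.mem_centralizer_iff.1 hj0.2 j hjK).symm]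
      exact mul_inv_eq_iff_eq_mul.2 hjK.2
    · have hne : ¬ Commute j0 j := fun hh => hjK (hcomm j hj hh)
      have e1 := (c.conj_eqz hj0.1 hj).resolve_left fun e => hne (mul_inv_eq_iff_eq_mul.1 e)
      rw [e1, show g * (j * z) * g⁻¹ = g * j * g⁻¹ * (g * z * g⁻¹) by group, hnot j hj hjK,
        mul_inv_eq_iff_eq_mul.2 hg.eq, c.mul_z_z]
  have := mul_mem key (inv_mem hj0.1)
  rwa [mul_inv_cancel_right] at this

end Core

end H55.U6C
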