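import Cfsg.Agent.H55.U6C.Levels

/-!
Elements of order five of the centraliser.
-/

set_option autoImplicit false

namespace H55.U6C

open H38.U6C

/-- The fixed points of an element of order five on a subgroup it normalises. -/
theorem five_modEq {H : Type*} [Group H] [Finite H] {f : H} (hf : orderOf f = 5) {R : Subgroup H}
    (hR : ∀ r ∈ R, f * r * f⁻¹ ∈ R) :
    Nat.card R ≡ Nat.card (R ⊓ Subgroup.centralizer ({f} : Set H) : Subgroup H) [MOD 5] := by
  haveI : Fact (Nat.Prime 5) := ⟨by norm_num⟩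
  set P := Subgroup.zpowers f
  have hP : IsPGroup 5 P := IsPGroup.of_card (n := 1) (by rw [Nat.card_zpowers, hf, pow_one])
  have hpow : ∀ n : ℕ, ∀ r ∈ R, f ^ n * r * (f ^ n)⁻¹ ∈ R := by
    intro n
    induction n with
    | zero => intro r hr; simpa using hr
    | succ n ih =>
      intro r hr
      rw [pow_succ', show f * f ^ n * r * (f * f ^ n)⁻¹ = f * (f ^ n * r * (f ^ n)⁻¹) * f⁻¹ by group]
      exact hR _ (ih r hr)
  have hmem : ∀ p ∈ P, ∀ r ∈ R, p * r * p⁻¹ ∈ R := by
    intro p hp r hr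
    obtain ⟨n, rfl⟩ := Submonoid.mem_powers_iff p f |>.1 (mem_powers_iff_mem_zpowers.2 hp)
    exact hpow n r hr
  letI : MulAction P R :=
    { smul := fun p r => ⟨p * r * (p : H)⁻¹, hmem p p.2 r r.2⟩
      one_smul := fun r => Subtype.ext (show (1 : H) * r * (1 : H)⁻¹ = r by simp)
      mul_smul := fun p q r => Subtype.ext (show (p : H) * q * r * ((p : H) * q)⁻¹ =
        p * (q * r * (q : H)⁻¹) * (p : H)⁻¹ by group) }
  have key : Nat.card (MulAction.fixedPoints P R)
      = Nat.card (R ⊓ Subgroup.centralizer ({f} : Set H) : Subgroup H) := Nat.card_congr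
    { toFun := fun r => ⟨(r.1 : H), r.1.2, Subgroup.mem_centralizer_singleton_iff.2
        (mul_inv_eq_iff_eq_mul.1
          (congrArg Subtype.val (r.2 (⟨f, Subgroup.mem_zpowers f⟩ : P)) :
            f * (r.1 : H) * f⁻¹ = r.1)).symm⟩
      invFun := fun r => ⟨⟨r, r.2.1⟩, fun p => Subtype.ext (by
        obtain ⟨n, hn⟩ := Submonoid.mem_powers_iff (p : H) f |>.1 (mem_powers_iff_mem_zpowers.2 p.2)
        have hc : Commute (r : H) f := Subgroup.mem_centralizer_singleton_iff.1 r.2.2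
        show (p : H) * r * (p : H)⁻¹ = r
        rw [← hn, (hc.pow_right n).symm.eq, mul_inv_cancel_right])⟩
      left_inv := fun _ => rfl
      right_inv := fun _ => rfl }
  exact key ▸ hP.card_modEq_card_fixedPoints R

variable {G : Type*} [Group G] {F : Type*} [Field F] [Fintype F] {z : G} {J U : Subgroup G}
  {π : ↥(Subgroup.centralizer ({z} : Set G)) →* Cfsg.PSp 2 F}

namespace Fx

variable (b : Base z J π) (f2 : Fixed2 z J U)
include b f2

/-- The centraliser in the core of an element of order five: at most 32 elements, trivial centre. -/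
theorem fixed_five [Finite G] {f : G} (hfz : Commute f z) (hf : orderOf f = 5) :
    Nat.card (J ⊓ Subgroup.centralizer ({f} : Set G) : Subgroup G) ≤ 32 ∧
      ∀ x ∈ J ⊓ Subgroup.centralizer ({f} : Set G),
        (∀ y ∈ J ⊓ Subgroup.centralizer ({f} : Set G), Commute x y) → x = 1 ∨ x = z := by
  classical
  have c := B.core b
  have h5 : f ^ 5 = 1 := by rw [← hf]; exact pow_orderOf_eq_one f
  have hLJ : ell J U ≤ J := inf_le_left
  set F0 := J ⊓ Subgroup.centralizer ({f} : Set G) with hF0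
  have hfixU : ∀ u ∈ U, Commute f u := fun u hu =>
    mul_inv_eq_iff_eq_mul.1 (c.odd_fix hfz (by decide) h5 (U_conj b f2 hfz hu))
  obtain ⟨Fa, Ia, hFa, hIa, hcard⟩ := c.exists_split hfz hLJ (z_mem_ell b f2)
    (fun x hx => ell_conj_mem b f2 hfz hx)
  rw [card_ell b f2] at hcard
  have hFc : ∀ x ∈ Fa, Commute f x := fun x hx =>
    mul_inv_eq_iff_eq_mul.1 (c.odd_fix hfz (by decide) h5 ((hFa x).1 hx).2)
  have hzI : z ∈ Ia := (hIa z).2 ⟨z_mem_ell b f2, 1, one_mem _, Or.inr (by group)⟩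
  have hIJ : Ia ≤ J := fun x hx => hLJ ((hIa x).1 hx).1
  have hIfix : ∀ x ∈ Ia, Commute f x → x = 1 ∨ x = z := by
    intro x hxI hfx
    obtain ⟨hx, k, hk, he⟩ := (hIa x).1 hxI
    have hx' : Eqz z (f * k * f⁻¹) (k * x) := by
      have h1 : Eqz z (x * k) (k * x) :=
        c.eqz_trans (Or.inl (by group : x * k = x * k * x⁻¹ * x))
          (c.eqz_mul_right (c.comm_z (hLJ hx)) (c.conj_eqz (hLJ hx) (hLJ hk)))
      refine c.eqz_trans (c.eqz_symm ?_) h1
      have := c.eqz_mul_right (c.comm_z (hLJ hk)) he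
      rwa [inv_mul_cancel_right] at this
    exact c.odd_trivial hfz (by decide) h5 (hLJ hx) hx' (Or.inl (mul_inv_eq_iff_eq_mul.2 hfx.eq))
  have hIconj : ∀ x ∈ Ia, f * x * f⁻¹ ∈ Ia := by
    intro x hx
    obtain ⟨hxL, k, hk, he⟩ := (hIa x).1 hx
    refine (hIa _).2 ⟨ell_conj_mem b f2 hfz hxL, f * k * f⁻¹, ell_conj_mem b f2 hfz hk, ?_⟩
    have he' := c.eqz_conj hfz he
    rwa [show f * (f * k * f⁻¹ * k⁻¹) * f⁻¹ = f * (f * k * f⁻¹) * f⁻¹ * (f * k * f⁻¹)⁻¹ by group]
      at he'
  have hmod := five_modEq hf hIconj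
  have hfp : Nat.card (Ia ⊓ Subgroup.centralizer ({f} : Set G) : Subgroup G) = 2 := by
    rw [Nat.card_eq_two_iff' (1 : (Ia ⊓ Subgroup.centralizer ({f} : Set G) : Subgroup G))]
    refine ⟨⟨z, hzI, Subgroup.mem_centralizer_singleton_iff.2 hfz.symm⟩,
      fun h => c.ne_one (congrArg Subtype.val h), ?_⟩
    intro y hy
    rcases hIfix y y.2.1 (Subgroup.mem_centralizer_singleton_iff.1 y.2.2).symm with h | h
    · exact absurd (Subtype.ext h) hy
    · exact Subtype.ext h
  rw [hfp] at hmod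
  haveI : Fact (Nat.Prime 2) := ⟨Nat.prime_two⟩
  obtain ⟨k, hk9, hk⟩ := (Nat.dvd_prime_pow Nat.prime_two).1
    (show Nat.card Ia ∣ 2 ^ 9 from b.card_J ▸ Subgroup.card_dvd_of_le hIJ)
  have hI32 : 32 ≤ Nat.card Ia := by
    by_contra hlt
    have hk5 : k < 5 := (Nat.pow_lt_pow_iff_right (show 1 < 2 by norm_num)).1 (by rw [← hk]; omega)
    have hI2 : Nat.card Ia = 2 := by
      rw [hk] at hmod ⊢
      interval_cases k <;> simp_all [Nat.ModEq]
    -- then `f` is trivial
    have hIz : ∀ x ∈ Ia, x = 1 ∨ x = z := by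
      rw [Nat.card_eq_two_iff' (1 : Ia)] at hI2
      intro x hx
      by_cases h1 : x = 1
      · exact Or.inl h1
      · exact Or.inr (congrArg Subtype.val (hI2.unique (y₁ := ⟨x, hx⟩) (y₂ := ⟨z, hzI⟩)
          (fun h => h1 (congrArg Subtype.val h)) (fun h => c.ne_one (congrArg Subtype.val h))))
    have hfJ : f ∈ J := mem_of_trivial_ell b f2 hfz fun x hx => by
      rcases hIz _ ((hIa _).2 ⟨mul_mem (ell_conj_mem b f2 hfz hx) (inv_mem hx), x, hx, Or.inl rfl⟩)
        with e | e
      · exact Or.inl (mul_inv_eq_one.1 e)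
      · rw [mul_inv_eq_iff_eq_mul] at e
        exact Or.inr (by rw [e, (c.comm_z (hLJ hx)).eq])
    have : 5 ∣ 2 ^ 9 := by rw [← hf, ← b.card_J]; exact J.orderOf_dvd_natCard hfJ
    norm_num at this
  have hFa8 : Nat.card Fa ≤ 8 := by nlinarith [Nat.card_pos (α := Fa)]
  refine ⟨?_, ?_⟩
  · -- `F0 ⊆ U Fa`
    have hmem : ∀ j : F0, ∃ p : U × Fa, (j : G) = p.1 * p.2 := by
      intro j
      obtain ⟨u, hu, l, hl, he⟩ := decomp b f2 j.2.1
      have hjc : Commute f j := (Subgroup.mem_centralizer_singleton_iff.1 j.2.2).symm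
      have hlc : Commute f l := by
        have := (hfixU u hu).inv_right.mul_right hjc
        rwa [he, inv_mul_cancel_left] at this
      exact ⟨⟨⟨u, hu⟩, ⟨l, (hFa l).2 ⟨hl, Or.inl (mul_inv_eq_iff_eq_mul.2 hlc.eq)⟩⟩⟩, he⟩
    choose pf hpf using hmem
    -- forget one sign
    haveI : Fintype U := Fintype.ofFinite _
    haveI : Fintype Fa := Fintype.ofFinite _
    haveI : Fintype F0 := Fintype.ofFinite _
    let g : U × Fa → G := fun p => p.1 * p.2
    have hzFa : z ∈ Fa := (hFa z).2 ⟨z_mem_ell b f2, Or.inl (mul_inv_eq_iff_eq_mul.2 hfz.eq)⟩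
    have hfib : ∀ x ∈ (Finset.univ : Finset F0).image (fun j : F0 => (j : G)),
        2 ≤ (Finset.univ.filter fun p => g p = x).card := by
      intro x hx
      obtain ⟨j, -, rfl⟩ := Finset.mem_image.1 hx
      set p := pf j
      have hne : p ≠ (⟨(p.1 : G) * z, mul_mem p.1.2 f2.z_mem⟩, ⟨(p.2 : G) * z, mul_mem p.2.2 hzFa⟩) :=
        fun h => c.ne_one (mul_left_cancel
          ((congrArg (fun q : U × Fa => (q.1 : G)) h).symm.trans (mul_one _).symm))
      refine le_trans (Finset.card_pair hne).ge (Finset.card_le_card ?_)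
      intro q hq
      rw [Finset.mem_insert, Finset.mem_singleton] at hq
      rw [Finset.mem_filter]
      refine ⟨Finset.mem_univ _, ?_⟩
      rcases hq with rfl | rfl
      · exact (hpf j).symm
      · show (p.1 : G) * z * ((p.2 : G) * z) = j
        rw [hpf j, mul_assoc, ← mul_assoc z, ← (c.comm_z (hLJ ((hFa _).1 p.2.2).1)).eq, c.mul_z_z]
    set T := (Finset.univ : Finset F0).image fun j : F0 => (j : G) with hT
    have hTc : T.card = Fintype.card F0 := by
      rw [hT, Finset.card_image_of_injective _ Subtype.val_injective, Finset.card_univ]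
    have hle : T.card * 2 ≤ (Finset.univ : Finset (U × Fa)).card := by
      calc T.card * 2 = ∑ _x ∈ T, 2 := by rw [Finset.sum_const, smul_eq_mul]
        _ ≤ ∑ x ∈ T, (Finset.univ.filter fun p => g p = x).card := Finset.sum_le_sum hfib
        _ = (Finset.univ.filter fun p => g p ∈ T).card := by
          rw [Finset.card_eq_sum_card_fiberwise (f := g) (t := T)
            (s := Finset.univ.filter fun p => g p ∈ T) (fun p hp => (Finset.mem_filter.1 hp).2)]
          refine Finset.sum_congr rfl fun x hx => ?_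
          congr 1
          ext p
          simp only [Finset.mem_filter, Finset.mem_univ, true_and]
          exact ⟨fun h => ⟨h ▸ hx, h⟩, fun h => h.2⟩
        _ ≤ _ := Finset.card_le_univ _
    rw [hTc, Finset.card_univ, Fintype.card_prod, ← Nat.card_eq_fintype_card,
      ← Nat.card_eq_fintype_card, ← Nat.card_eq_fintype_card, f2.card] at hle
    rw [show Nat.card F0 = Nat.card (J ⊓ Subgroup.centralizer ({f} : Set G) : Subgroup G) from rfl]
      at hle
    nlinarith
  · intro x hx hcom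
    refine b.center x hx.1 fun j hj => ?_
    -- the product over the orbit of `j`
    by_contra hxj
    have hxfix : ∀ k : ℕ, f ^ k * x * (f ^ k)⁻¹ = x := fun k => by
      rw [((show Commute f x from (Subgroup.mem_centralizer_singleton_iff.1 hx.2).symm).pow_left k).eq,
        mul_inv_cancel_right]
    let cjk : ℕ → G := fun k => f ^ k * j * (f ^ k)⁻¹
    have hcjJ : ∀ k, cjk k ∈ J := fun k => c.conj_mem _ (hfz.pow_left k) j hj
    have hchi : ∀ k, Core.chi x (cjk k) = -1 := by
      intro k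
      refine Core.chi_of_not fun h => hxj ?_
      have := h.map (MulAut.conj ((f ^ k)⁻¹)).toMonoidHom
      simp only [MulEquiv.coe_toMonoidHom, MulAut.conj_apply, inv_inv] at this
      rw [show (f ^ k)⁻¹ * cjk k * f ^ k = j by simp only [cjk]; group] at this
      rwa [show (f ^ k)⁻¹ * x * f ^ k = x by
        calc (f ^ k)⁻¹ * x * f ^ k = (f ^ k)⁻¹ * (f ^ k * x * (f ^ k)⁻¹) * f ^ k := by rw [hxfix k]
          _ = x := by group] at this
    set n := cjk 0 * cjk 1 * cjk 2 * cjk 3 * cjk 4 with hn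
    have hnJ : n ∈ J := mul_mem (mul_mem (mul_mem (mul_mem (hcjJ 0) (hcjJ 1)) (hcjJ 2)) (hcjJ 3)) (hcjJ 4)
    have hx1 : Core.chi x n = -1 := by
      rw [hn, c.chi_mul hx.1 (mul_mem (mul_mem (mul_mem (hcjJ 0) (hcjJ 1)) (hcjJ 2)) (hcjJ 3)) (hcjJ 4),
        c.chi_mul hx.1 (mul_mem (mul_mem (hcjJ 0) (hcjJ 1)) (hcjJ 2)) (hcjJ 3),
        c.chi_mul hx.1 (mul_mem (hcjJ 0) (hcjJ 1)) (hcjJ 2), c.chi_mul hx.1 (hcjJ 0) (hcjJ 1),
        hchi, hchi, hchi, hchi, hchi]
      norm_num
    have hfn : Eqz z (f * n * f⁻¹) n := by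
      have e : f * n * f⁻¹ = cjk 1 * cjk 2 * cjk 3 * cjk 4 * cjk 5 := by
        simp only [hn, cjk]; group
      have h55 : cjk 5 = cjk 0 := by simp only [cjk, h5, pow_zero]
      rw [e, h55]
      set m := cjk 1 * cjk 2 * cjk 3 * cjk 4 with hm
      have : n = cjk 0 * m := by rw [hn, hm]; group
      rw [this]
      have hmJ : m ∈ J := mul_mem (mul_mem (mul_mem (hcjJ 1) (hcjJ 2)) (hcjJ 3)) (hcjJ 4)
      refine c.eqz_trans (Or.inl (by group : m * cjk 0 = m * cjk 0 * m⁻¹ * m)) ?_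
      exact c.eqz_mul_right (c.comm_z hmJ) (c.conj_eqz hmJ (hcjJ 0))
    have hnc : Commute f n := mul_inv_eq_iff_eq_mul.1 (c.odd_fix hfz (by decide) h5 hfn)
    have := hcom n ⟨hnJ, Subgroup.mem_centralizer_singleton_iff.2 hnc.symm⟩
    rw [Core.chi_of_comm this] at hx1
    norm_num at hx1

end Fx

end H55.U6C
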