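import Cfsg.Agent.H55.U6C.Setup
import Cfsg.Agent.H55.U6C.Counting

/-!
The fixed subgroup `U` is nonabelian of order 8, and splits the core as a central product.
-/

set_option autoImplicit false

namespace H55.U6C

open H38.U6C

variable {G : Type*} [Group G] {F : Type*} [Field F] [Fintype F] {z : G} {J U : Subgroup G}
  {π : ↥(Subgroup.centralizer ({z} : Set G)) →* Cfsg.PSp 2 F}

/-- The centraliser of `U` in the core. -/
def ell (J U : Subgroup G) : Subgroup G := J ⊓ Subgroup.centralizer (U : Set G)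

namespace Fx

variable (b : Base z J π) (f2 : Fixed2 z J U)
include b f2

theorem U_conj {g : G} (hg : Commute g z) {u : G} (hu : u ∈ U) : Eqz z (g * u * g⁻¹) u :=
  f2.fix g (mem_cent.2 hg) u hu

theorem U_conj_mem {g : G} (hg : Commute g z) {u : G} (hu : u ∈ U) : g * u * g⁻¹ ∈ U :=
  (B.core b).eqz_mem f2.z_mem (U_conj b f2 hg hu) hu

theorem ell_conj_mem {g : G} (hg : Commute g z) {x : G} (hx : x ∈ ell J U) :
    g * x * g⁻¹ ∈ ell J U := by
  refine ⟨(B.core b).conj_mem g hg x hx.1, Subgroup.mem_centralizer_iff.2 fun u hu => ?_⟩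
  have h' := U_conj_mem b f2 hg.inv_left hu
  rw [inv_inv] at h'
  have := Subgroup.mem_centralizer_iff.1 hx.2 _ h'
  calc u * (g * x * g⁻¹) = g * (g⁻¹ * u * g * x) * g⁻¹ := by group
    _ = g * (x * (g⁻¹ * u * g)) * g⁻¹ := by rw [this]
    _ = g * x * g⁻¹ * u := by group

theorem z_mem_ell : z ∈ ell J U :=
  ⟨b.z_mem, Subgroup.mem_centralizer_iff.2 fun _ hu => ((B.core b).comm_z (f2.le hu)).eq⟩

theorem card_ell [Finite G] : Nat.card (ell J U) = 2 ^ 7 := by
  have h := (B.core b).card_mul_card f2.le f2.z_mem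
  rw [f2.card] at h
  have : Nat.card (ell J U) * 8 = 2 ^ 10 := by rw [mul_comm]; exact h
  omega

/-- `U` is not abelian. -/
theorem nonabelian [Finite G] : ∃ a ∈ U, ∃ a' ∈ U, ¬ Commute a a' := by
  by_contra hno
  push Not at hno
  have c := B.core b
  obtain ⟨P, hP, hPz⟩ := B.exists_three b
  have hUL : U ≤ ell J U := fun u hu => ⟨f2.le hu, Subgroup.mem_centralizer_iff.2 fun v hv =>
    (hno v hv u hu).eq⟩
  have hLJ : ell J U ≤ J := inf_le_left
  obtain ⟨K, hKP, hK, hdvd⟩ := c.exists_kernel (A := ell J U) (N := U) (P := P) hLJ hUL f2.z_mem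
    (fun a ha => by
      rcases c.sq_mem a (hLJ ha) with e | e <;> rw [e]
      · exact one_mem _
      · exact f2.z_mem)
    (d := 4) (by rw [card_ell b f2, f2.card]; norm_num)
    (fun p hp a ha => ell_conj_mem b f2 (hPz p hp) ha) (fun p hp a ha => U_conj_mem b f2 (hPz p hp) ha)
  -- the kernel is trivial
  have hK1 : ∀ k ∈ K, k = 1 := by
    intro k hk
    have hkz := hPz k (hKP hk)
    have h81 : k ^ 81 = 1 := by
      have := P.orderOf_dvd_natCard (hKP hk)
      rw [hP] at this
      exact orderOf_dvd_iff_pow_eq_one.1 this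
    have hL : ∀ x ∈ ell J U, Eqz z (k * x * k⁻¹) x := by
      intro x hx
      have hu := hK k hk x hx
      have hxu : x * (x⁻¹ * (k * x * k⁻¹)) = k * x * k⁻¹ := by group
      rcases c.odd_trivial hkz (by decide) h81 (f2.le hu) (x := x) (Or.inl hxu.symm)
        (U_conj b f2 hkz hu) with e | e
      · rw [← hxu, e, mul_one]; exact Or.inl rfl
      · rw [← hxu, e]; exact Or.inr rfl
    have hJ : k ∈ J := by
      refine c.mem_of_trivial hkz fun x hx => ?_
      set w := x⁻¹ * (k * x * k⁻¹) with hw
      have hwJ : w ∈ J := mul_mem (inv_mem hx) (c.conj_mem k hkz x hx)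
      have hxw : x * w = k * x * k⁻¹ := by rw [hw]; group
      -- the defect centralises `U`
      have hwL : w ∈ ell J U := by
        refine ⟨hwJ, Subgroup.mem_centralizer_iff.2 fun u hu => ?_⟩
        have hfix : k⁻¹ * u * k = u := by
          have h' := U_conj b f2 hkz.inv_left hu
          have h'' := c.odd_fix hkz.inv_left (by decide : Odd 81) (by rw [inv_pow, h81, inv_one]) h'
          rwa [inv_inv] at h''
        have hku : k * u * k⁻¹ = u := by
          calc k * u * k⁻¹ = k * (k⁻¹ * u * k) * k⁻¹ := by rw [hfix]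
            _ = u := by group
        -- commutators with `u` are preserved
        by_cases hcu : Commute x u
        · have h1 : Commute (k * x * k⁻¹) u := by
            have := hcu.map (MulAut.conj k).toMonoidHom
            simp only [MulEquiv.coe_toMonoidHom, MulAut.conj_apply] at this
            rwa [hku] at this
          rw [hw]
          exact ((hcu.inv_left.mul_left h1).symm).eq
        · have e1 := (c.not_comm_iff hx (f2.le hu)).1 hcu
          have e2 : k * x * k⁻¹ * u = u * (k * x * k⁻¹) * z := by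
            calc k * x * k⁻¹ * u = k * x * k⁻¹ * (k * u * k⁻¹) := by rw [hku]
              _ = k * (x * u) * k⁻¹ := by group
              _ = k * (u * x) * (z * k⁻¹) := by rw [e1]; group
              _ = k * u * k⁻¹ * (k * x * k⁻¹) * z := by rw [← hkz.inv_left.eq]; group
              _ = u * (k * x * k⁻¹) * z := by rw [hku]
          rw [← hxw] at e2
          refine mul_left_cancel (a := x) ?_
          have e3 : x * (w * u) = u * x * (w * z) := by
            rw [← mul_assoc, e2]; group
          rw [e3, ← mul_assoc x u w, e1, mul_assoc (u * x) z w, ← (c.comm_z hwJ).eq]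
      rcases c.odd_trivial hkz (by decide) h81 hwJ (x := x) (Or.inl hxw.symm) (hL w hwL) with e | e
      · rw [← hxw, e, mul_one]; exact Or.inl rfl
      · rw [← hxw, e]; exact Or.inr rfl
    exact B.three_inf b hP (hKP hk) hJ
  have : Nat.card K = 1 := by
    rw [(Subgroup.eq_bot_iff_forall K).2 hK1, Subgroup.card_bot]
  rw [hP, this, one_mul] at hdvd
  exact absurd hdvd (by decide)

theorem center_U [Finite G] {a : G} (ha : a ∈ U) (h : ∀ u ∈ U, Commute a u) : a = 1 ∨ a = z := by
  have c := B.core b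
  by_contra hne
  obtain ⟨p, hp, q, hq, hpq⟩ := nonabelian b f2
  let Z : Subgroup G := U ⊓ Subgroup.centralizer (U : Set G)
  have haZ : a ∈ Z := ⟨ha, Subgroup.mem_centralizer_iff.2 fun u hu => (h u hu).symm.eq⟩
  have hzZ : z ∈ Z := ⟨f2.z_mem, (z_mem_ell b f2).2⟩
  -- the centraliser of `p` in `U` contains the centre properly and is proper
  let Cp : Subgroup G := U ⊓ Subgroup.centralizer ({p} : Set G)
  have hZC : Z < Cp := by
    refine lt_of_le_of_ne (inf_le_inf_left _ (Subgroup.centralizer_le ?_)) ?_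
    · simpa using hp
    · intro e
      have : p ∈ Z := e ▸ ⟨hp, Subgroup.mem_centralizer_singleton_iff.2 rfl⟩
      exact hpq (Subgroup.mem_centralizer_iff.1 this.2 q hq).symm
  have hCU : Cp < U := by
    refine lt_of_le_of_ne inf_le_left ?_
    intro e
    exact hpq (Subgroup.mem_centralizer_singleton_iff.1 ((e.ge hq).2)).symm
  have hZ4 : 4 ≤ Nat.card Z := by
    classical
    have h4 : ({1, z, a, a * z} : Finset G).card = 4 := by
      obtain ⟨h1, h2⟩ := not_or.1 hne
      have e1 : (1 : G) ≠ z := fun e => c.ne_one e.symm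
      have e2 : a * z ≠ 1 := fun e => h2 (by rw [← mul_one a, ← c.sq, ← mul_assoc, e, one_mul])
      have e3 : a * z ≠ z := fun e => h1 (mul_right_cancel (e.trans (one_mul z).symm))
      have e4 : a ≠ a * z := fun e => c.ne_one (mul_left_cancel ((mul_one a).trans e)).symm
      rw [Finset.card_insert_of_notMem (by simp [e1, Ne.symm h1, e2.symm]),
        Finset.card_insert_of_notMem (by simp [Ne.symm h2, e3.symm]), Finset.card_pair e4]
    rw [← h4]
    calc ({1, z, a, a * z} : Finset G).card
        = ((({1, z, a, a * z} : Finset G) : Set G)).ncard := (Set.ncard_coe_finset _).symm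
      _ ≤ (Z : Set G).ncard := Set.ncard_le_ncard (by
          intro x hx
          simp only [Finset.coe_insert, Finset.coe_singleton, Set.mem_insert_iff,
            Set.mem_singleton_iff] at hx
          rcases hx with rfl | rfl | rfl | rfl
          exacts [one_mem _, hzZ, haZ, mul_mem haZ hzZ]) (Set.toFinite _)
      _ = Nat.card Z := (Nat.card_coe_set_eq _).symm
  obtain ⟨k1, hk1⟩ := Subgroup.card_dvd_of_le hZC.le
  have l1 : Nat.card Z ≠ Nat.card Cp := fun e => hZC.ne (Subgroup.eq_of_le_of_card_ge hZC.le e.ge)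
  have l2 : Nat.card Cp < 8 := by
    by_contra h8
    exact hCU.ne (Subgroup.eq_of_le_of_card_ge hCU.le (by rw [f2.card]; omega))
  have hpos : 0 < Nat.card Cp := Nat.card_pos
  match k1, hk1 with
  | 0, hk1 => omega
  | 1, hk1 => omega
  | n + 2, hk1 => nlinarith

/-- An element of order four in `U`. -/
theorem exists_four [Finite G] : ∃ w ∈ U, w * w = z := by
  by_contra hno
  push Not at hno
  obtain ⟨a, ha, a', ha', hne⟩ := nonabelian b f2
  have h2 : ∀ x ∈ U, x⁻¹ = x := fun x hx =>
    inv_eq_of_mul_eq_one_right (((B.core b).sq_mem x (f2.le hx)).resolve_right (hno x hx))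
  refine hne ?_
  calc a * a' = (a * a')⁻¹ := (h2 _ (mul_mem ha ha')).symm
    _ = a' * a := by rw [mul_inv_rev, h2 a ha, h2 a' ha']

theorem U_inf_ell [Finite G] {a : G} (ha : a ∈ U) (hl : a ∈ ell J U) : a = 1 ∨ a = z :=
  center_U b f2 ha fun u hu => (Subgroup.mem_centralizer_iff.1 hl.2 u hu).symm

/-- `J = U L`. -/
theorem decomp [Finite G] {j : G} (hj : j ∈ J) : ∃ u ∈ U, ∃ l ∈ ell J U, j = u * l := by
  have c := B.core b
  have hLJ : ell J U ≤ J := inf_le_left
  haveI : ((ell J U).subgroupOf J).Normal := ⟨fun n hn x => by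
    rw [Subgroup.mem_subgroupOf] at hn ⊢
    exact ell_conj_mem b f2 (c.comm_z x.2) hn⟩
  let f : U →* J ⧸ (ell J U).subgroupOf J :=
    (QuotientGroup.mk' _).comp (Subgroup.inclusion f2.le)
  have hker : Nat.card f.ker = 2 := by
    rw [Nat.card_eq_two_iff' (1 : f.ker)]
    have hz : (⟨z, f2.z_mem⟩ : U) ∈ f.ker := by
      rw [MonoidHom.mem_ker]
      exact (QuotientGroup.eq_one_iff _).2 (z_mem_ell b f2)
    refine ⟨⟨_, hz⟩, fun h => c.ne_one (congrArg (fun x : f.ker => ((x : U) : G)) h), ?_⟩
    intro y hy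
    have hyL : ((y : U) : G) ∈ ell J U :=
      (QuotientGroup.eq_one_iff (N := (ell J U).subgroupOf J) (Subgroup.inclusion f2.le (y : U))).1 y.2
    rcases U_inf_ell b f2 (y : U).2 hyL with e | e
    · exact absurd (Subtype.ext (Subtype.ext e)) hy
    · exact Subtype.ext (Subtype.ext e)
  have hq : Nat.card (J ⧸ (ell J U).subgroupOf J) = 4 := by
    have h := Subgroup.card_eq_card_quotient_mul_card_subgroup ((ell J U).subgroupOf J)
    rw [b.card_J, Nat.card_congr (Subgroup.subgroupOfEquivOfLe hLJ).toEquiv, card_ell b f2] at h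
    omega
  have hr : Nat.card f.range = 4 := by
    have h := f.ker.card_mul_index
    rw [Subgroup.index_ker, hker, f2.card] at h
    omega
  have htop : f.range = ⊤ := Subgroup.eq_top_of_card_eq _ (by rw [hr, hq])
  obtain ⟨u, hu⟩ := (htop ▸ Subgroup.mem_top (QuotientGroup.mk (⟨j, hj⟩ : J)) :
    QuotientGroup.mk (⟨j, hj⟩ : J) ∈ f.range)
  refine ⟨u, u.2, (u : G)⁻¹ * j, ?_, by group⟩
  exact (QuotientGroup.eq (s := (ell J U).subgroupOf J)).1 hu

/-- An element trivial on `L` modulo the centre lies in the core. -/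
theorem mem_of_trivial_ell [Finite G] {g : G} (hg : Commute g z)
    (h : ∀ x ∈ ell J U, Eqz z (g * x * g⁻¹) x) : g ∈ J := by
  have c := B.core b
  refine c.mem_of_trivial hg fun j hj => ?_
  obtain ⟨u, hu, l, hl, rfl⟩ := decomp b f2 hj
  rw [show g * (u * l) * g⁻¹ = g * u * g⁻¹ * (g * l * g⁻¹) by group]
  exact c.eqz_trans (c.eqz_mul_left (h l hl) _)
    (c.eqz_mul_right (c.comm_z hl.1) (U_conj b f2 hg hu))

end Fx

end H55.U6C
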