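import Cfsg.Agent.H55.U6C.Six

/-!
The levels of the quadratic form on `C_J(U)` modulo the centre, stabilisers containing elements of
order five, the absence of elementary subgroups of order 16, and the fixed points of such elements.
-/

set_option autoImplicit false

namespace H55.U6C

open H38.U6C

theorem class_size {c n : ℕ} (h : c * n = 2 ^ 9 * 25920) (h27 : ¬ 27 ∣ n) : 9 ∣ c := by
  have h81 : 81 ∣ c * n := h ▸ by norm_num
  have h3 : Nat.Prime 3 := Nat.prime_three
  by_cases hn : 3 ∣ n
  · obtain ⟨n', rfl⟩ := hn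
    have h9 : ¬ 9 ∣ n' := fun ⟨k, hk⟩ => h27 ⟨k, by omega⟩
    have h27' : 27 ∣ c * n' := by
      obtain ⟨k, hk⟩ := h81
      exact ⟨k, by nlinarith⟩
    by_cases hn' : 3 ∣ n'
    · obtain ⟨m, rfl⟩ := hn'
      have hm : Nat.Coprime 9 m := by
        rw [show (9 : ℕ) = 3 ^ 2 from rfl]
        exact Nat.Coprime.pow_left 2 ((Nat.Prime.coprime_iff_not_dvd h3).2
          fun ⟨k, hk⟩ => h9 ⟨k, by omega⟩)
      refine hm.dvd_of_dvd_mul_right ?_
      obtain ⟨k, hk⟩ := h27'
      exact ⟨k, by nlinarith⟩
    · have hm : Nat.Coprime 9 n' := by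
        rw [show (9 : ℕ) = 3 ^ 2 from rfl]
        exact Nat.Coprime.pow_left 2 ((Nat.Prime.coprime_iff_not_dvd h3).2 hn')
      exact hm.dvd_of_dvd_mul_right (Dvd.dvd.trans (by norm_num) h27')
  · have hm : Nat.Coprime 9 n := by
      rw [show (9 : ℕ) = 3 ^ 2 from rfl]
      exact Nat.Coprime.pow_left 2 ((Nat.Prime.coprime_iff_not_dvd h3).2 hn)
    exact hm.dvd_of_dvd_mul_right (Dvd.dvd.trans (by norm_num) h81)

variable {G : Type*} [Group G] {F : Type*} [Field F] [Fintype F] {z : G} {J U : Subgroup G}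
  {π : ↥(Subgroup.centralizer ({z} : Set G)) →* Cfsg.PSp 2 F}

namespace Fx

variable (b : Base z J π) (f2 : Fixed2 z J U)
include b f2

theorem center_ell [Finite G] {a : G} (ha : a ∈ ell J U) (h : ∀ x ∈ ell J U, Commute a x) :
    a = 1 ∨ a = z := by
  refine b.center a ha.1 fun j hj => ?_
  obtain ⟨u, hu, l, hl, rfl⟩ := decomp b f2 hj
  exact Commute.mul_right (Subgroup.mem_centralizer_iff.1 ha.2 u hu).symm (h l hl)

/-- The conjugacy class under `C(z)` of a vector: its size is a multiple of 9. -/
theorem nine_dvd_class [Finite G] [DecidableEq G] [Fintype (Subgroup.centralizer ({z} : Set G))] {v : G}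
    (hv : v ∈ ell J U) (hne : ¬ (v = 1 ∨ v = z)) :
    9 ∣ (Finset.univ.image fun h : Subgroup.centralizer ({z} : Set G) =>
      (h : G) * v * (h : G)⁻¹).card := by
  have h := card_class (Subgroup.centralizer ({z} : Set G)) v
  rw [b.card_cent] at h
  exact class_size h (not_twentyseven b f2 hv hne)

/-- The two levels. -/
theorem levels [Finite G] [Fintype (ell J U)] [DecidableEq G] :
    (Finset.univ.filter fun x : ell J U => (x : G) * x = 1).card = 56 ∧
      (Finset.univ.filter fun x : ell J U => ¬ (x : G) * x = 1).card = 72 := by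
  classical
  have c := B.core b
  haveI : Fintype (Subgroup.centralizer ({z} : Set G)) := Fintype.ofFinite _
  have hcard : Fintype.card (ell J U) = 128 := by
    rw [← Nat.card_eq_fintype_card, card_ell b f2]; norm_num
  have hs := c.sum_eps_sq (A := ell J U) (show ell J U ≤ J from inf_le_left) (z_mem_ell b f2)
    (fun a ha h => center_ell b f2 ha h)
  rw [hcard] at hs
  set A := (Finset.univ.filter fun x : ell J U => (x : G) * x = 1) with hA
  set A' := (Finset.univ.filter fun x : ell J U => ¬ (x : G) * x = 1) with hA'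
  have hsum : ∑ j : ell J U, eps (j : G) = (A.card : ℤ) - A'.card := by
    rw [← Finset.sum_filter_add_sum_filter_not Finset.univ (fun x : ell J U => (x : G) * x = 1),
      Finset.sum_congr rfl fun x hx => Core.eps_of_sq (Finset.mem_filter.1 hx).2,
      Finset.sum_congr (s₁ := Finset.univ.filter fun x : ell J U => ¬ (x : G) * x = 1) rfl fun x hx =>
        c.eps_of_z ((c.sq_mem _ x.2.1).resolve_left (Finset.mem_filter.1 hx).2)]
    simp only [Finset.sum_const, nsmul_eq_mul, mul_one, mul_neg]
    rfl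
  have htot : A.card + A'.card = 128 := by
    rw [hA, hA', Finset.card_filter_add_card_filter_not, Finset.card_univ, hcard]
  -- the singular vectors
  set Y : Finset G := (Finset.univ.filter fun x : ell J U =>
    (x : G) * x = 1 ∧ ¬ ((x : G) = 1 ∨ (x : G) = z)).map ⟨Subtype.val, Subtype.val_injective⟩ with hY
  have hYA : Y.card + 2 = A.card := by
    rw [hY, Finset.card_map, ← Finset.card_filter_add_card_filter_not
      (s := A) (fun x : ell J U => ¬ ((x : G) = 1 ∨ (x : G) = z)), hA, Finset.filter_filter]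
    congr 1
    rw [show (A.filter fun x : ell J U => ¬ ¬ ((x : G) = 1 ∨ (x : G) = z))
        = {1, ⟨z, z_mem_ell b f2⟩} by
      ext x
      simp only [hA, Finset.mem_filter, Finset.mem_univ, true_and, not_not, Finset.mem_insert,
        Finset.mem_singleton, Subtype.ext_iff, OneMemClass.coe_one]
      refine ⟨fun h => h.2, fun h => ⟨?_, h⟩⟩
      rcases h with e | e <;> rw [e]
      · exact mul_one 1
      · exact c.sq]
    exact (Finset.card_pair fun h => c.ne_one (congrArg Subtype.val h).symm).symm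
  have hYmem : ∀ x, x ∈ Y ↔ x ∈ ell J U ∧ x * x = 1 ∧ ¬ (x = 1 ∨ x = z) := by
    intro x
    rw [hY, Finset.mem_map]
    constructor
    · rintro ⟨y, hy, rfl⟩
      exact ⟨y.2, (Finset.mem_filter.1 hy).2⟩
    · rintro ⟨hx, h⟩
      exact ⟨⟨x, hx⟩, Finset.mem_filter.2 ⟨Finset.mem_univ _, h⟩, rfl⟩
  let cls : G → Finset G := fun v =>
    Finset.univ.image fun h : Subgroup.centralizer ({z} : Set G) => (h : G) * v * (h : G)⁻¹
  have hclsY : ∀ v ∈ Y, cls v ⊆ Y := by
    intro v hv x hx
    obtain ⟨h, -, rfl⟩ := Finset.mem_image.1 hx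
    obtain ⟨hvL, hv2, hne⟩ := (hYmem v).1 hv
    have hz := mem_cent.1 h.2
    refine (hYmem _).2 ⟨ell_conj_mem b f2 hz hvL, ?_, fun e => hne ?_⟩
    · rw [← pow_two, conj_pow, pow_two, hv2, mul_one, mul_inv_cancel]
    · rcases e with e | e
      · exact Or.inl (conj_eq_one_iff.1 e)
      · refine Or.inr ?_
        rw [mul_inv_eq_iff_eq_mul, ← hz.eq] at e
        exact mul_left_cancel e
  have hclseq : ∀ v w, w ∈ cls v → cls w = cls v := by
    intro v w hw
    obtain ⟨g, -, rfl⟩ := Finset.mem_image.1 hw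
    ext x
    simp only [cls, Finset.mem_image, Finset.mem_univ, true_and]
    constructor
    · rintro ⟨h, rfl⟩
      exact ⟨h * g, by simp only [Subgroup.coe_mul]; group⟩
    · rintro ⟨h, rfl⟩
      exact ⟨h * g⁻¹, by simp only [Subgroup.coe_mul, InvMemClass.coe_inv]; group⟩
  have h9 : 9 ∣ Y.card := by
    rw [Finset.card_eq_sum_card_image cls Y]
    refine Finset.dvd_sum fun K hK => ?_
    obtain ⟨v, hv, rfl⟩ := Finset.mem_image.1 hK
    rw [show Y.filter (fun w => cls w = cls v) = cls v by
      ext w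
      rw [Finset.mem_filter]
      refine ⟨fun h => h.2 ▸ Finset.mem_image.2 ⟨1, Finset.mem_univ _, by simp⟩, fun h => ⟨hclsY v hv h, hclseq v w h⟩⟩]
    obtain ⟨hvL, -, hne⟩ := (hYmem v).1 hv
    exact nine_dvd_class b f2 hvL hne
  rw [hsum] at hs
  have : ((A.card : ℤ) - A'.card) = 16 ∨ ((A.card : ℤ) - A'.card) = -16 := by
    have h0 : ((A.card : ℤ) - A'.card - 16) * ((A.card : ℤ) - A'.card + 16) = 0 := by
      push_cast at hs; linarith
    rcases mul_eq_zero.1 h0 with h | h
    · exact Or.inl (by omega)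
    · exact Or.inr (by omega)
  omega

/-- Every vector of `L` is fixed by an element of order five. -/
theorem exists_five [Finite G] {v : G} (hv : v ∈ ell J U) (hne : ¬ (v = 1 ∨ v = z)) :
    ∃ f, Commute f z ∧ Commute f v ∧ orderOf f = 5 := by
  classical
  have c := B.core b
  haveI : Fintype (Subgroup.centralizer ({z} : Set G)) := Fintype.ofFinite _
  haveI : Fintype (ell J U) := Fintype.ofFinite _
  obtain ⟨hl1, hl2⟩ := levels b f2
  have h9 := nine_dvd_class b f2 hv hne
  set cl := Finset.univ.image fun h : Subgroup.centralizer ({z} : Set G) =>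
    (h : G) * v * (h : G)⁻¹ with hcl
  have hsub : ∀ x ∈ cl, x ∈ ell J U ∧ (x * x = 1 ↔ v * v = 1) := by
    intro x hx
    obtain ⟨h, -, rfl⟩ := Finset.mem_image.1 hx
    refine ⟨ell_conj_mem b f2 (mem_cent.1 h.2) hv, ?_⟩
    rw [← pow_two, conj_pow, pow_two]
    exact ⟨fun e => conj_eq_one_iff.1 e, fun e => by rw [e, mul_one, mul_inv_cancel]⟩
  have hle : cl.card ≤ 72 := by
    by_cases h2 : v * v = 1
    · refine le_trans ?_ (hl1.trans_le (by norm_num))
      refine Finset.card_le_card_of_injOn (fun x => if hx : x ∈ ell J U then ⟨x, hx⟩ else 1) ?_ ?_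
      · intro x hx
        rw [Finset.mem_coe] at hx
        simp [(hsub x hx).1, (hsub x hx).2.2 h2]
      · intro x hx y hy e
        rw [Finset.mem_coe] at hx hy
        simpa [(hsub x hx).1, (hsub y hy).1] using e
    · refine le_trans ?_ hl2.le
      refine Finset.card_le_card_of_injOn (fun x => if hx : x ∈ ell J U then ⟨x, hx⟩ else 1) ?_ ?_
      · intro x hx
        rw [Finset.mem_coe] at hx
        simp [(hsub x hx).1, mt (hsub x hx).2.1 h2]
      · intro x hx y hy e
        rw [Finset.mem_coe] at hx hy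
        simpa [(hsub x hx).1, (hsub y hy).1] using e
  -- the class is closed under multiplication by `z`
  have heven : 2 ∣ cl.card := by
    obtain ⟨j, hj, hjv⟩ : ∃ j ∈ J, ¬ Commute v j := by
      by_contra hno
      push Not at hno
      exact hne (b.center v hv.1 hno)
    have hjz : j * v * j⁻¹ = v * z :=
      (c.conj_eqz hj hv.1).resolve_left fun e => hjv (mul_inv_eq_iff_eq_mul.1 e).symm
    have hclz : ∀ x ∈ cl, x * z ∈ cl := by
      intro x hx
      obtain ⟨h, -, rfl⟩ := Finset.mem_image.1 hx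
      refine Finset.mem_image.2 ⟨h * ⟨j, b.le_cent hj⟩, Finset.mem_univ _, ?_⟩
      simp only [Subgroup.coe_mul]
      rw [show (h : G) * j * v * ((h : G) * j)⁻¹ = h * (j * v * j⁻¹) * (h : G)⁻¹ by group, hjz,
        show (h : G) * (v * z) * (h : G)⁻¹ = h * v * (z * (h : G)⁻¹) by group,
        ← (mem_cent.1 h.2).inv_left.eq]
      group
    have h0 : ∑ _x ∈ cl, (1 : ZMod 2) = 0 :=
      Finset.sum_involution (fun x _ => x * z) (fun _ _ => rfl)
        (fun x _ _ e => c.ne_one (mul_left_cancel (e.trans (mul_one x).symm)))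
        hclz (fun x _ => c.mul_z_z x)
    rw [Finset.sum_const, nsmul_one] at h0
    exact (ZMod.natCast_eq_zero_iff _ 2).1 h0
  have h := card_class (Subgroup.centralizer ({z} : Set G)) v
  rw [b.card_cent, ← hcl] at h
  have hpos : 0 < cl.card := Finset.card_pos.2 ⟨v, Finset.mem_image.2 ⟨1, Finset.mem_univ _, by simp⟩⟩
  have h5 : ¬ 5 ∣ cl.card := by omega
  haveI : Fact (Nat.Prime 5) := ⟨by norm_num⟩
  have h5' : 5 ∣ Nat.card (Subgroup.centralizer ({z} : Set G) ⊓ Subgroup.centralizer ({v} : Set G) :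
      Subgroup G) :=
    (((Nat.Prime.dvd_mul (by norm_num)).1 (show 5 ∣ cl.card * _ from h ▸ by norm_num)).resolve_left h5)
  obtain ⟨f, hf⟩ := exists_prime_orderOf_dvd_card' 5 h5'
  exact ⟨f, mem_cent.1 f.2.1, Subgroup.mem_centralizer_singleton_iff.1 f.2.2,
    (Subgroup.orderOf_coe f).trans hf⟩

/-- `L` has no elementary subgroup of order 16 containing the centre. -/
theorem no_sixteen [Finite G] {E : Subgroup G} (hE : E ≤ ell J U) (hz : z ∈ E)
    (hE16 : Nat.card E = 16) (hsq : ∀ e ∈ E, e * e = 1) : False := by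
  classical
  have c := B.core b
  haveI : Fintype (ell J U) := Fintype.ofFinite _
  haveI : Fintype E := Fintype.ofFinite _
  have hLJ : ell J U ≤ J := inf_le_left
  have hEJ : E ≤ J := hE.trans hLJ
  have hab : ∀ x ∈ E, ∀ y ∈ E, Commute x y := by
    intro x hx y hy
    have hi : ∀ a ∈ E, a⁻¹ = a := fun a ha => inv_eq_of_mul_eq_one_right (hsq a ha)
    show x * y = y * x
    rw [← hi _ (mul_mem hx hy), mul_inv_rev, hi x hx, hi y hy]
  obtain ⟨hl1, hl2⟩ := levels b f2
  -- the centraliser of `E` in `L`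
  have hCE : ∀ x ∈ ell J U, (∀ e ∈ E, Commute x e) → x ∈ E := by
    intro x hx hxe
    set B := J ⊓ Subgroup.centralizer (E : Set G) with hB
    have hcB : Nat.card B = 64 := by
      have := c.card_mul_card hEJ hz
      rw [hE16] at this
      change 16 * Nat.card B = 2 ^ 10 at this
      norm_num at this
      omega
    let EB : Subgroup G := B ⊓ ell J U
    have hEEB : E ≤ EB := fun e he => ⟨⟨hEJ he,
      Subgroup.mem_centralizer_iff.2 fun e' he' => (hab e' he' e he).eq⟩, hE he⟩
    have hUB : U ≤ B := fun u hu => ⟨f2.le hu,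
      Subgroup.mem_centralizer_iff.2 fun e he => (Subgroup.mem_centralizer_iff.1 (hE he).2 u hu).symm⟩
    suffices hs : Nat.card EB ≤ 16 by
      have he := Subgroup.eq_of_le_of_card_ge hEEB (by rw [hE16]; exact hs)
      exact he.ge ⟨⟨hLJ hx, Subgroup.mem_centralizer_iff.2 fun e he' => (hxe e he').symm.eq⟩, hx⟩
    -- `U × EB → B` has fibres of order two
    haveI : Fintype U := Fintype.ofFinite _
    haveI : Fintype EB := Fintype.ofFinite _
    haveI : Fintype B := Fintype.ofFinite _
    let f : U × EB → B × Bool := fun p =>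
      (⟨p.1 * p.2, mul_mem (hUB p.1.2) p.2.2.1⟩, decide ((p.1 : G) ∈ ({(p.1 : G)} : Set G) ∧
        ∀ q : U, ((q : G) : G)⁻¹ * p.1 ∈ ({1, z} : Set G) → (Fintype.equivFin U p.1).val ≤ (Fintype.equivFin U q).val))
    have hf : Function.Injective f := by
      intro p q hpq
      simp only [f, Prod.mk.injEq, Subtype.mk.injEq, decide_eq_decide] at hpq
      obtain ⟨e, hmin⟩ := hpq
      have e2 : (q.1 : G)⁻¹ * p.1 = q.2 * (p.2 : G)⁻¹ := by
        rw [eq_mul_inv_iff_mul_eq, mul_assoc, e, inv_mul_cancel_left]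
      have h1 : (q.1 : G)⁻¹ * p.1 = 1 ∨ (q.1 : G)⁻¹ * p.1 = z :=
        U_inf_ell b f2 (mul_mem (inv_mem q.1.2) p.1.2) (e2 ▸ mul_mem q.2.2.2 (inv_mem p.2.2.2))
      have hp1 : p.1 = q.1 := by
        rcases h1 with h1 | h1
        · exact Subtype.ext (inv_mul_eq_one.1 h1).symm
        by_contra hne
        -- exactly one of the two is least
        have e3 : (p.1 : G)⁻¹ * q.1 = z := by
          rw [← c.inv_z, ← h1, mul_inv_rev, inv_inv]
        have least : ∀ r s : U, (r : G)⁻¹ * s = z →
            ((∀ x : U, (x : G)⁻¹ * r ∈ ({1, z} : Set G) →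
              (Fintype.equivFin U r).val ≤ (Fintype.equivFin U x).val) ↔
              (Fintype.equivFin U r).val ≤ (Fintype.equivFin U s).val) := by
          intro r s hrs
          constructor
          · intro h
            refine h s (Or.inr ?_)
            rw [Set.mem_singleton_iff, ← c.inv_z, ← hrs, mul_inv_rev, inv_inv]
          · intro h x hx
            rcases hx with hx | hx
            · rw [show x = r from Subtype.ext (inv_mul_eq_one.1 hx)]
            · rw [Set.mem_singleton_iff] at hx
              have : x = s := Subtype.ext (by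
                calc (x : G) = r * ((x : G)⁻¹ * r)⁻¹ := by group
                  _ = r * ((r : G)⁻¹ * s) := by rw [hx, c.inv_z, hrs]
                  _ = s := by group)
              rw [this]; exact h
        simp only [Set.mem_singleton_iff, true_and] at hmin
        rw [least p.1 q.1 e3, least q.1 p.1 h1] at hmin
        exact hne ((Fintype.equivFin U).injective (Fin.ext (by omega)))
      rw [hp1] at e
      exact Prod.ext hp1 (Subtype.ext (mul_left_cancel e))
    have hcards := Fintype.card_le_of_injective f hf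
    rw [Fintype.card_prod, Fintype.card_prod, Fintype.card_bool, ← Nat.card_eq_fintype_card,
      ← Nat.card_eq_fintype_card, ← Nat.card_eq_fintype_card, f2.card, hcB] at hcards
    omega
  -- the sum over the cosets
  have hzero : ∀ j : ell J U, ∑ e : E, eps ((j : G) * e) = if (j : G) ∈ E then 16 else 0 := by
    intro j
    split_ifs with h
    · rw [Finset.sum_congr rfl fun e _ => Core.eps_of_sq (hsq _ (mul_mem h e.2))]
      simp [← Nat.card_eq_fintype_card, hE16]
    · have hem : ∀ e : E, eps ((j : G) * e) = eps (j : G) * Core.chi (j : G) (e : G) := fun e => by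
        rw [c.eps_mul (hLJ j.2) (hEJ e.2), Core.eps_of_sq (hsq _ e.2), mul_one]
      rw [Finset.sum_congr rfl fun e _ => hem e]
      rw [← Finset.mul_sum, c.sum_chi_eq_zero hEJ (hLJ j.2), mul_zero]
      by_contra hno
      push Not at hno
      exact h (hCE _ j.2 hno)
  have hdouble : ∑ j : ell J U, ∑ e : E, eps ((j : G) * e)
      = 16 * ∑ j : ell J U, eps (j : G) := by
    rw [Finset.sum_comm]
    have : ∀ e : E, ∑ j : ell J U, eps ((j : G) * e) = ∑ j : ell J U, eps (j : G) := fun e =>
      Equiv.sum_comp (Equiv.mulRight (⟨(e : G), hE e.2⟩ : ell J U)) fun j : ell J U => eps (j : G)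
    rw [Finset.sum_congr rfl fun e _ => this e, Finset.sum_const, Finset.card_univ, nsmul_eq_mul,
      ← Nat.card_eq_fintype_card, hE16]
    norm_num
  rw [Finset.sum_congr rfl fun j _ => hzero j, ← Finset.sum_filter, Finset.sum_const] at hdouble
  have hfilter : (Finset.univ.filter fun j : ell J U => (j : G) ∈ E).card = 16 := by
    rw [← hE16, Nat.card_eq_fintype_card, ← Finset.card_univ (α := E)]
    refine Finset.card_bij (fun j hj => (⟨(j : G), (Finset.mem_filter.1 hj).2⟩ : E))
      (fun _ _ => Finset.mem_univ _) (fun a _ a' _ h => Subtype.ext (Subtype.ext_iff.1 h :))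
      fun e _ => ⟨⟨e, hE e.2⟩, Finset.mem_filter.2 ⟨Finset.mem_univ _, e.2⟩, rfl⟩
  rw [hfilter, ← Finset.sum_filter_add_sum_filter_not Finset.univ (fun x : ell J U => (x : G) * x = 1),
    Finset.sum_congr rfl fun x hx => Core.eps_of_sq (Finset.mem_filter.1 hx).2,
    Finset.sum_congr (s₁ := Finset.univ.filter fun x : ell J U => ¬ (x : G) * x = 1) rfl fun x hx =>
      c.eps_of_z ((c.sq_mem _ x.2.1).resolve_left (Finset.mem_filter.1 hx).2)] at hdouble
  simp only [Finset.sum_const, hl1, hl2, nsmul_eq_mul] at hdouble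
  norm_num at hdouble

end Fx

end H55.U6C
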