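import Cfsg.Agent.H38.U6C.Basic

/-!
Certificates on the natural model (generated by a script): words moving each singular vector to the
first point, and chains of operations from the admissible vectors to its multiple by `ω`.
-/

set_option autoImplicit false
set_option maxRecDepth 100000

namespace H55.U6C

/-- The words. -/
def wordList : List (List (Fin 45)) := [
  [],
  [],
  [],
  [],
  [],
  [12, 3],
  [14, 3],
  [13, 3],
  [],
  [12, 5],
  [14, 5],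
  [13, 5],
  [],
  [12, 4],
  [14, 4],
  [13, 4],
  [],
  [9],
  [11],
  [10],
  [3],
  [],
  [],
  [],
  [5],
  [],
  [],
  [],
  [4],
  [],
  [],
  [],
  [],
  [11, 2],
  [10, 2],
  [9, 2],
  [5, 2],
  [],
  [],
  [],
  [4, 2],
  [],
  [],
  [],
  [3, 2],
  [],
  [],
  [],
  [],
  [10, 1],
  [9, 1],
  [11, 1],
  [4, 1],
  [],
  [],
  [],
  [3, 1],
  [],
  [],
  [],
  [5, 1],
  [],
  [],
  [],
  [],
  [12],
  [14],
  [13],
  [6],
  [],
  [],
  [],
  [8],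
  [],
  [],
  [],
  [7],
  [],
  [],
  [],
  [],
  [],
  [],
  [],
  [],
  [21, 1],
  [37, 1],
  [32, 1],
  [],
  [31, 1],
  [17, 1],
  [42, 1],
  [],
  [41, 1],
  [27, 1],
  [22, 1],
  [7, 6],
  [],
  [],
  [],
  [],
  [42, 5],
  [31, 5],
  [17, 5],
  [],
  [22, 4],
  [41, 4],
  [27, 4],
  [],
  [32, 3],
  [21, 3],
  [37, 3],
  [8, 6],
  [],
  [],
  [],
  [],
  [29, 4],
  [18, 4],
  [43, 4],
  [],
  [39, 3],
  [28, 3],
  [23, 3],
  [],
  [19, 5],
  [38, 5],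
  [33, 5],
  [],
  [14, 1],
  [13, 1],
  [12, 1],
  [8, 1],
  [],
  [],
  [],
  [7, 1],
  [],
  [],
  [],
  [6, 1],
  [],
  [],
  [],
  [4, 3],
  [],
  [],
  [],
  [],
  [38, 8],
  [33, 8],
  [19, 8],
  [],
  [18, 7],
  [43, 7],
  [29, 7],
  [],
  [28, 6],
  [23, 6],
  [39, 6],
  [8, 6, 1],
  [],
  [],
  [],
  [],
  [43, 5],
  [29, 5],
  [18, 5],
  [],
  [23, 4],
  [39, 4],
  [28, 4],
  [],
  [33, 3],
  [19, 3],
  [38, 3],
  [1],
  [],
  [],
  [],
  [],
  [21],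
  [37],
  [32],
  [],
  [31],
  [17],
  [42],
  [],
  [41],
  [27],
  [22],
  [],
  [13, 2],
  [12, 2],
  [14, 2],
  [7, 2],
  [],
  [],
  [],
  [6, 2],
  [],
  [],
  [],
  [8, 2],
  [],
  [],
  [],
  [5, 3],
  [],
  [],
  [],
  [],
  [27, 7],
  [22, 7],
  [41, 7],
  [],
  [37, 6],
  [32, 6],
  [21, 6],
  [],
  [17, 8],
  [42, 8],
  [31, 8],
  [2],
  [],
  [],
  [],
  [],
  [23],
  [39],
  [28],
  [],
  [33],
  [19],
  [38],
  [],
  [43],
  [29],
  [18],
  [4, 3, 1],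
  [],
  [],
  [],
  [],
  [31, 4],
  [17, 4],
  [42, 4],
  [],
  [41, 3],
  [27, 3],
  [22, 3],
  [],
  [21, 5],
  [37, 5],
  [32, 5]]

/-- The chains. -/
def chainList : List (List (ℕ × List (Fin 45))) := [
  [],
  [],
  [],
  [],
  [],
  [(1, [25, 26])],
  [(1, [15, 24])],
  [(1, [15, 16])],
  [],
  [(2, [15]), (1, [15, 24])],
  [(1, [25]), (1, [15, 16])],
  [(1, [15]), (1, [25, 26])],
  [],
  [(1, [15]), (1, [25]), (1, [15, 16])],
  [(1, [15]), (1, [25, 26])],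
  [(1, [25]), (2, [15]), (1, [15, 24])],
  [],
  [(1, [15]), (1, [25, 26])],
  [(1, [15]), (1, [25]), (1, [15, 16])],
  [(1, [15]), (1, [25]), (2, [15]), (1, [15, 24])],
  [(1, [15]), (1, [25, 26])],
  [],
  [],
  [],
  [(1, [15]), (1, [25]), (1, [15, 16])],
  [],
  [],
  [],
  [(1, [15]), (1, [25]), (2, [15]), (1, [15, 24])],
  [],
  [],
  [],
  [],
  [],
  [],
  [],
  [],
  [],
  [],
  [],
  [],
  [],
  [],
  [],
  [],
  [],
  [],
  [],
  [],
  [],
  [],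
  [],
  [],
  [],
  [],
  [],
  [],
  [],
  [],
  [],
  [],
  [],
  [],
  [],
  [],
  [(0, []), (1, [15]), (1, [25, 26])],
  [(0, []), (1, [15]), (1, [25]), (1, [15, 16])],
  [(0, []), (1, [15]), (1, [25]), (2, [15]), (1, [15, 24])],
  [(0, []), (1, [15]), (1, [25, 26])],
  [],
  [],
  [],
  [(0, []), (1, [15]), (1, [25]), (1, [15, 16])],
  [],
  [],
  [],
  [(0, []), (1, [15]), (1, [25]), (2, [15]), (1, [15, 24])],
  [],
  [],
  [],
  [],
  [],
  [],
  [],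
  [],
  [(0, []), (1, [25, 26])],
  [(0, []), (1, [15, 24])],
  [(0, []), (1, [15, 16])],
  [],
  [(0, []), (2, [15]), (1, [15, 24])],
  [(0, []), (1, [25]), (1, [15, 16])],
  [(0, []), (1, [15]), (1, [25, 26])],
  [],
  [(0, []), (1, [15]), (1, [25]), (1, [15, 16])],
  [(0, []), (1, [15]), (1, [25, 26])],
  [(0, []), (1, [25]), (2, [15]), (1, [15, 24])],
  [],
  [],
  [],
  [],
  [],
  [],
  [],
  [],
  [],
  [],
  [],
  [],
  [],
  [],
  [],
  [],
  [],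
  [],
  [],
  [],
  [],
  [],
  [],
  [],
  [],
  [],
  [],
  [],
  [],
  [],
  [],
  [],
  [],
  [],
  [],
  [],
  [],
  [],
  [],
  [],
  [],
  [],
  [],
  [],
  [],
  [],
  [],
  [],
  [],
  [],
  [],
  [],
  [],
  [],
  [],
  [],
  [],
  [],
  [],
  [],
  [],
  [],
  [],
  [],
  [],
  [],
  [],
  [],
  [],
  [(1, [25]), (1, [15]), (1, [25, 26])],
  [(1, [15]), (1, [25]), (2, [15]), (1, [15, 24])],
  [(1, [15]), (1, [25]), (1, [15, 16])],
  [],
  [(1, [15]), (1, [25]), (2, [15]), (1, [15, 24])],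
  [(1, [25]), (1, [15, 16])],
  [(1, [15]), (1, [25, 26])],
  [],
  [(1, [15]), (1, [25]), (1, [15, 16])],
  [(1, [15]), (1, [25, 26])],
  [(1, [25]), (2, [15]), (1, [15, 24])],
  [(1, [16]), (0, []), (1, [25, 26])],
  [],
  [],
  [],
  [],
  [(1, [16]), (0, []), (1, [25, 26])],
  [(1, [15]), (1, [25]), (2, [15]), (1, [15, 24])],
  [(1, [15]), (1, [25]), (1, [15, 16])],
  [],
  [(1, [15]), (1, [25]), (2, [15]), (1, [15, 24])],
  [(1, [16]), (0, []), (1, [25, 26])],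
  [(1, [15]), (1, [25, 26])],
  [],
  [(1, [15]), (1, [25]), (1, [15, 16])],
  [(1, [15]), (1, [25, 26])],
  [(1, [16]), (0, []), (1, [25, 26])],
  [],
  [],
  [],
  [],
  [],
  [],
  [],
  [],
  [],
  [],
  [],
  [],
  [],
  [],
  [],
  [],
  [],
  [],
  [],
  [],
  [],
  [],
  [],
  [],
  [],
  [],
  [],
  [],
  [],
  [],
  [],
  [],
  [(0, []), (1, [16]), (0, []), (1, [25, 26])],
  [],
  [],
  [],
  [],
  [(0, []), (1, [16]), (0, []), (1, [25, 26])],
  [(0, []), (1, [15]), (1, [25]), (2, [15]), (1, [15, 24])],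
  [(0, []), (1, [15]), (1, [25]), (1, [15, 16])],
  [],
  [(0, []), (1, [15]), (1, [25]), (2, [15]), (1, [15, 24])],
  [(0, []), (1, [16]), (0, []), (1, [25, 26])],
  [(0, []), (1, [15]), (1, [25, 26])],
  [],
  [(0, []), (1, [15]), (1, [25]), (1, [15, 16])],
  [(0, []), (1, [15]), (1, [25, 26])],
  [(0, []), (1, [16]), (0, []), (1, [25, 26])],
  [(0, [])],
  [],
  [],
  [],
  [],
  [(0, []), (1, [25]), (1, [15]), (1, [25, 26])],
  [(0, []), (1, [15]), (1, [25]), (2, [15]), (1, [15, 24])],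
  [(0, []), (1, [15]), (1, [25]), (1, [15, 16])],
  [],
  [(0, []), (1, [15]), (1, [25]), (2, [15]), (1, [15, 24])],
  [(0, []), (1, [25]), (1, [15, 16])],
  [(0, []), (1, [15]), (1, [25, 26])],
  [],
  [(0, []), (1, [15]), (1, [25]), (1, [15, 16])],
  [(0, []), (1, [15]), (1, [25, 26])],
  [(0, []), (1, [25]), (2, [15]), (1, [15, 24])]]

end H55.U6C
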