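import Cfsg.Agent.H55.U6C.PspFacts

/-!
The facts for an arbitrary field with three elements, with arbitrary elements of the group.
-/

set_option autoImplicit false

namespace H55.U6C.Psp

open Cfsg.Agent.H29.Psp43 (mmul one₄ spEquiv)

variable {F : Type*} [Field F] [Fintype F]

/-- The change of field. -/
noncomputable def psi (hF : Fintype.card F = 3) : Cfsg.PSp 2 (ZMod 3) ≃* Cfsg.PSp 2 F := by
  let φ := spEquiv (ZMod.ringEquivOfPrime F Nat.prime_three hF)
  refine QuotientGroup.congr _ _ φ ?_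
  ext x
  obtain ⟨y, rfl⟩ := φ.surjective x
  rw [Subgroup.mem_map, Subgroup.mem_center_iff]
  constructor
  · rintro ⟨w, hw, he⟩ u
    have hwy : w = y := φ.injective he
    subst hwy
    obtain ⟨t, rfl⟩ := φ.surjective u
    rw [← map_mul, Subgroup.mem_center_iff.1 hw t, map_mul]
  · intro hy
    exact ⟨y, Subgroup.mem_center_iff.2 fun t => φ.injective
      (by rw [map_mul, map_mul]; exact hy (φ t)), rfl⟩

/-- The element of index `i`. -/
noncomputable def elt (hF : Fintype.card F = 3) (i : Fin 64) : Cfsg.PSp 2 F := psi hF (el0 (tel i))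

theorem elt_mul (hF : Fintype.card F = 3) (i j : Fin 64) :
    elt hF i * elt hF j = elt hF (tmul i j) := by
  rw [elt, elt, elt, ← map_mul, el0_mul_eq (tel_valid i) (tel_valid j) (tel_valid _) (tel_mul i j)]

theorem elt_zero (hF : Fintype.card F = 3) : elt hF 0 = 1 := by
  rw [elt, tel_zero, el0_one, map_one]

theorem elt_injective (hF : Fintype.card F = 3) : Function.Injective (elt hF) := by
  intro i j h
  refine tel_inj i j ?_
  by_contra hne
  exact el0_ne (tel_valid i) one_valid (tel_valid j) one_valid (Bool.eq_false_iff.2 hne)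
    (by rw [(psi hF).injective h])

/-- The Sylow 2-subgroup of the table. -/
noncomputable def syl (hF : Fintype.card F = 3) : Subgroup (Cfsg.PSp 2 F) := by
  refine Subgroup.ofDiv (Set.range (elt hF)) ⟨1, 0, elt_zero hF⟩ ?_
  rintro _ ⟨i, rfl⟩ _ ⟨j, rfl⟩
  obtain ⟨k, hk⟩ : ∃ k, tmul j k = 0 := by
    have hf : Function.Injective (tmul j) := fun a b h => elt_injective hF
      (mul_left_cancel (a := elt hF j) (by rw [elt_mul, elt_mul, h]))
    exact (Finite.injective_iff_surjective.1 hf) 0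
  refine ⟨tmul i k, ?_⟩
  rw [← elt_mul, inv_eq_of_mul_eq_one_right (show elt hF j * elt hF k = 1 by
    rw [elt_mul, hk, elt_zero])]

theorem mem_syl (hF : Fintype.card F = 3) {x : Cfsg.PSp 2 F} :
    x ∈ syl hF ↔ ∃ i, elt hF i = x := Iff.rfl

theorem card_syl (hF : Fintype.card F = 3) : Nat.card (syl hF) = 64 := by
  show Nat.card (Set.range (elt hF)) = 64
  rw [Nat.card_range_of_injective (elt_injective hF), Nat.card_eq_fintype_card, Fintype.card_fin]

/-- Every 2-subgroup is conjugate into the table. -/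
theorem exists_into (hF : Fintype.card F = 3) (hX : Nat.card (Cfsg.PSp 2 F) = 25920)
    {H : Subgroup (Cfsg.PSp 2 F)} (hH : IsPGroup 2 H) :
    ∃ g : Cfsg.PSp 2 F, ∀ x ∈ H, ∃ i, elt hF i = g * x * g⁻¹ := by
  haveI : Fact (Nat.Prime 2) := ⟨Nat.prime_two⟩
  haveI : Finite (Cfsg.PSp 2 F) := Nat.finite_of_card_ne_zero (by rw [hX]; norm_num)
  let P : Sylow 2 (Cfsg.PSp 2 F) := Sylow.ofCard (syl hF) (by
    rw [card_syl, hX, show (25920 : ℕ) = 2 ^ 6 * 405 from rfl,
      Nat.factorization_mul (by norm_num) (by norm_num), Nat.Prime.factorization_pow Nat.prime_two]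
    simp [Nat.factorization_eq_zero_of_not_dvd (show ¬ 2 ∣ 405 by norm_num)])
  obtain ⟨Q, hQ⟩ := hH.exists_le_sylow
  obtain ⟨g, hg⟩ := MulAction.exists_smul_eq (Cfsg.PSp 2 F) Q P
  refine ⟨g, fun x hx => ?_⟩
  have : g * x * g⁻¹ ∈ ((g • Q : Sylow 2 _) : Subgroup (Cfsg.PSp 2 F)) := by
    rw [Sylow.smul_def]
    exact ⟨x, hQ hx, rfl⟩
  rw [hg] at this
  exact this

theorem exists_into_zpowers (hF : Fintype.card F = 3) (hX : Nat.card (Cfsg.PSp 2 F) = 25920)
    {x : Cfsg.PSp 2 F} {n : ℕ} (hx : x ^ (2 ^ n) = 1) :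
    ∃ (g : Cfsg.PSp 2 F) (i : Fin 64), elt hF i = g * x * g⁻¹ := by
  haveI : Fact (Nat.Prime 2) := ⟨Nat.prime_two⟩
  obtain ⟨k, -, hk⟩ := (Nat.dvd_prime_pow Nat.prime_two).1 (orderOf_dvd_of_pow_eq_one hx)
  obtain ⟨g, hg⟩ := exists_into hF hX (H := Subgroup.zpowers x)
    (IsPGroup.of_card (n := k) (by rw [Nat.card_zpowers, hk]))
  obtain ⟨i, hi⟩ := hg x (Subgroup.mem_zpowers x)
  exact ⟨g, i, hi⟩

/-- An involution is a square. -/
theorem exists_sq (hF : Fintype.card F = 3) (hX : Nat.card (Cfsg.PSp 2 F) = 25920)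
    {x : Cfsg.PSp 2 F} (h2 : x * x = 1) : ∃ g, g * g = x := by
  obtain ⟨c, i, hi⟩ := exists_into_zpowers hF hX (n := 1) (by rw [pow_one, pow_two, h2])
  have hii : tmul i i = 0 := elt_injective hF (by
    rw [← elt_mul, hi, elt_zero, show c * x * c⁻¹ * (c * x * c⁻¹) = c * (x * x) * c⁻¹ by group, h2]
    group)
  by_cases h0 : i = 0
  · refine ⟨1, ?_⟩
    rw [h0, elt_zero] at hi
    calc (1 : Cfsg.PSp 2 F) * 1 = c⁻¹ * (c * x * c⁻¹) * c := by rw [← hi]; group
      _ = x := by group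
  have hs := sq_ok i
  simp only [sqOK, hii, beq_self_eq_true, Bool.not_true, Bool.false_or, Bool.or_eq_true,
    beq_iff_eq, h0, false_or, Bool.and_eq_true] at hs
  refine ⟨c⁻¹ * psi hF (el0 (sqw i)) * c, ?_⟩
  calc c⁻¹ * psi hF (el0 (sqw i)) * c * (c⁻¹ * psi hF (el0 (sqw i)) * c)
      = c⁻¹ * (psi hF (el0 (sqw i) * el0 (sqw i))) * c := by rw [map_mul]; group
    _ = c⁻¹ * elt hF i * c := by
      rw [el0_mul_eq hs.1 hs.1 (tel_valid i) hs.2]; rfl
    _ = x := by rw [hi]; group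

/-- The centraliser of the square of an element of order four moves its cyclic group twice. -/
theorem exists_movers (hF : Fintype.card F = 3) (hX : Nat.card (Cfsg.PSp 2 F) = 25920)
    {v : Cfsg.PSp 2 F} (h2 : v * v ≠ 1) (h4 : v * v * (v * v) = 1) :
    ∃ g h : Cfsg.PSp 2 F, Commute g (v * v) ∧ Commute h (v * v) ∧
      g * v * g⁻¹ ≠ v ∧ g * v * g⁻¹ ≠ v⁻¹ ∧ h * v * h⁻¹ ≠ v ∧ h * v * h⁻¹ ≠ v⁻¹ ∧
      g⁻¹ * h * v * (g⁻¹ * h)⁻¹ ≠ v ∧ g⁻¹ * h * v * (g⁻¹ * h)⁻¹ ≠ v⁻¹ := by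
  obtain ⟨c, i, hi⟩ := exists_into_zpowers hF hX (x := v) (n := 2)
    (by rw [show (2 : ℕ) ^ 2 = 4 from rfl, pow_succ, pow_succ, pow_two, mul_assoc (v * v), h4])
  have hsq : elt hF (tmul i i) = c * (v * v) * c⁻¹ := by rw [← elt_mul, hi]; group
  have hne : tmul i i ≠ 0 := fun h => h2 (by
    rw [h, elt_zero] at hsq
    calc v * v = c⁻¹ * (c * (v * v) * c⁻¹) * c := by group
      _ = 1 := by rw [← hsq]; group)
  have h4' : tmul (tmul i i) (tmul i i) = 0 := elt_injective hF (by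
    rw [← elt_mul, hsq, elt_zero,
      show c * (v * v) * c⁻¹ * (c * (v * v) * c⁻¹) = c * (v * v * (v * v)) * c⁻¹ by group, h4]
    group)
  have hvi : (c * v * c⁻¹)⁻¹ = elt hF (tmul (tmul i i) i) := by
    refine inv_eq_of_mul_eq_one_right ?_
    rw [← hi, ← elt_mul, ← elt_mul, ← mul_assoc, ← mul_assoc, hi,
      show c * v * c⁻¹ * (c * v * c⁻¹) * (c * v * c⁻¹) * (c * v * c⁻¹)
        = c * (v * v * (v * v)) * c⁻¹ by group, h4]
    group
  have hc := cyc_ok i
  simp only [cycOK, beq_iff_eq, hne, h4', beq_self_eq_true, Bool.not_true, Bool.false_or,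
    Bool.or_eq_true, Bool.and_eq_true, Bool.not_eq_true', false_or] at hc
  replace hc := hc.resolve_left Bool.false_ne_true
  obtain ⟨hc, vgh⟩ := hc
  obtain ⟨hc, n6⟩ := hc
  obtain ⟨hc, n5⟩ := hc
  obtain ⟨hc, n4⟩ := hc
  obtain ⟨hc, n3⟩ := hc
  obtain ⟨hc, n2⟩ := hc
  obtain ⟨hc, n1⟩ := hc
  obtain ⟨hc, hx⟩ := hc
  obtain ⟨hc, gx⟩ := hc
  obtain ⟨hc, hgg⟩ := hc
  obtain ⟨hc, vh⟩ := hc
  obtain ⟨hc, vg'⟩ := hc
  have vg := hc
  -- move to the field `F`
  let E := fun M => psi hF (el0 M)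
  have hv : E (tel i) = c * v * c⁻¹ := hi
  have hx' : E (tel (tmul i i)) = c * (v * v) * c⁻¹ := hsq
  have hv' : E (tel (tmul (tmul i i) i)) = (c * v * c⁻¹)⁻¹ := hvi.symm
  set a := E (cyw i).1 with ha
  set b := E (cyw i).2.2 with hb
  have ha' : E (cyw i).2.1 = a⁻¹ := by
    refine (inv_eq_of_mul_eq_one_right ?_).symm
    show psi hF _ * psi hF _ = 1
    rw [← map_mul, el0_mul_eq vg vg' one_valid hgg, el0_one, map_one]
  have hab : E (mmul (cyw i).2.1 (cyw i).2.2) = a⁻¹ * b := by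
    rw [← ha', hb]
    show psi hF _ = psi hF _ * psi hF _
    rw [← map_mul, el0_mul_eq vg' vh vgh (by simp [peq])]
  have key : ∀ M N P R, valid M = true → valid N = true → valid P = true → valid R = true →
      peq (mmul M N) (mmul P R) = false → E M * E N ≠ E P * E R := by
    intro M N P R h1 h2 h3 h4 h5 he
    exact el0_ne h1 h2 h3 h4 h5 ((psi hF).injective (by rw [map_mul, map_mul]; exact he))
  have key' : ∀ M N P R, valid M = true → valid N = true → valid P = true → valid R = true →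
      peq (mmul M N) (mmul P R) = true → E M * E N = E P * E R := by
    intro M N P R h1 h2 h3 h4 h5
    show psi hF _ * psi hF _ = psi hF _ * psi hF _
    rw [← map_mul, ← map_mul, el0_comm h1 h2 h3 h4 h5]
  have conv : ∀ m w : Cfsg.PSp 2 F, m * (c * v * c⁻¹) ≠ c * w * c⁻¹ * m →
      c⁻¹ * m * c * v * (c⁻¹ * m * c)⁻¹ ≠ w := by
    intro m w hm h
    exact hm (by rw [← h]; group)
  have hinv : (c * v * c⁻¹)⁻¹ = c * v⁻¹ * c⁻¹ := by group
  have hcm : ∀ m : Cfsg.PSp 2 F, m * (c * (v * v) * c⁻¹) = c * (v * v) * c⁻¹ * m →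
      Commute (c⁻¹ * m * c) (v * v) := by
    intro m hm
    show c⁻¹ * m * c * (v * v) = v * v * (c⁻¹ * m * c)
    calc c⁻¹ * m * c * (v * v) = c⁻¹ * (m * (c * (v * v) * c⁻¹)) * c := by group
      _ = c⁻¹ * (c * (v * v) * c⁻¹ * m) * c := by rw [hm]
      _ = v * v * (c⁻¹ * m * c) := by group
  have hT := tel_valid i
  have hT2 := tel_valid (tmul i i)
  have hT3 := tel_valid (tmul (tmul i i) i)
  have hgh : (c⁻¹ * a * c)⁻¹ * (c⁻¹ * b * c) = c⁻¹ * (a⁻¹ * b) * c := by group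
  refine ⟨c⁻¹ * a * c, c⁻¹ * b * c, hcm a ?_, hcm b ?_, conv a v ?_, conv a _ ?_, conv b v ?_,
    conv b _ ?_, ?_, ?_⟩
  · rw [← hx']; exact key' _ _ _ _ vg hT2 hT2 vg gx
  · rw [← hx']; exact key' _ _ _ _ vh hT2 hT2 vh hx
  · rw [← hv]; exact key _ _ _ _ vg hT hT vg n1
  · rw [← hinv, ← hv', ← hv]; exact key _ _ _ _ vg hT hT3 vg n2
  · rw [← hv]; exact key _ _ _ _ vh hT hT vh n3
  · rw [← hinv, ← hv', ← hv]; exact key _ _ _ _ vh hT hT3 vh n4
  · rw [hgh]
    refine conv _ _ ?_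
    rw [← hv, ← hab]; exact key _ _ _ _ vgh hT hT vgh n5
  · rw [hgh]
    refine conv _ _ ?_
    rw [← hinv, ← hv', ← hv, ← hab]; exact key _ _ _ _ vgh hT hT3 vgh n6

/-- A large 2-subgroup with squares in `{1, y}` has its centre there. -/
theorem central_mem (hF : Fintype.card F = 3) (hX : Nat.card (Cfsg.PSp 2 F) = 25920)
    {H : Subgroup (Cfsg.PSp 2 F)} (hH : IsPGroup 2 H) (hcard : 32 ≤ Nat.card H)
    {y : Cfsg.PSp 2 F} (hy : ∀ h ∈ H, h * h = 1 ∨ h * h = y) {r : Cfsg.PSp 2 F} (hr : r ∈ H)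
    (hc : ∀ h ∈ H, Commute h r) : r = 1 ∨ r = y := by
  classical
  obtain ⟨g, hg⟩ := exists_into hF hX hH
  obtain ⟨ri, hri⟩ := hg r hr
  by_contra hno
  rw [not_or] at hno
  -- an index for `y`
  obtain ⟨yi, hy0, hyi⟩ : ∃ yi : Fin 64, (yi = 0 ∨ elt hF yi = g * y * g⁻¹) ∧ ∀ i : Fin 64,
      (∃ h ∈ H, elt hF i = g * h * g⁻¹) → tmul i i = 0 ∨ tmul i i = yi := by
    by_cases hy' : ∃ yi, elt hF yi = g * y * g⁻¹
    · obtain ⟨yi, hyi⟩ := hy'
      refine ⟨yi, Or.inr hyi, fun i ⟨h, hh, hi⟩ => ?_⟩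
      rcases hy h hh with e | e
      · exact Or.inl (elt_injective hF (by
          rw [← elt_mul, hi, elt_zero, show g * h * g⁻¹ * (g * h * g⁻¹) = g * (h * h) * g⁻¹ by
            group, e]; group))
      · exact Or.inr (elt_injective hF (by
          rw [← elt_mul, hi, hyi, show g * h * g⁻¹ * (g * h * g⁻¹) = g * (h * h) * g⁻¹ by
            group, e]))
    · refine ⟨0, Or.inl rfl, fun i ⟨h, hh, hi⟩ => ?_⟩
      rcases hy h hh with e | e
      · exact Or.inl (elt_injective hF (by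
          rw [← elt_mul, hi, elt_zero, show g * h * g⁻¹ * (g * h * g⁻¹) = g * (h * h) * g⁻¹ by
            group, e]; group))
      · exact absurd ⟨tmul i i, by rw [← elt_mul, hi, ← e]; group⟩ hy'
  set S : Finset (Fin 64) := Finset.univ.filter fun i => ∃ h ∈ H, elt hF i = g * h * g⁻¹ with hS
  have hScard : 32 ≤ S.card := by
    refine hcard.trans ?_
    have hpick : ∀ h : H, ∃ i, elt hF i = g * (h : Cfsg.PSp 2 F) * g⁻¹ := fun h => hg h h.2
    choose f hf using hpick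
    have hinj : Function.Injective fun h : H => (⟨f h, by
        rw [hS, Finset.mem_filter]
        exact ⟨Finset.mem_univ _, h, h.2, hf h⟩⟩ : S) := by
      intro a b hab
      have e : f a = f b := congrArg Subtype.val hab
      have := hf a
      rw [e, hf b] at this
      exact Subtype.ext (mul_left_cancel (mul_right_cancel this)).symm
    have := Nat.card_le_card_of_injective _ hinj
    rwa [Nat.card_eq_finsetCard] at this
  have hsub : ∀ i ∈ S, i ∈ cand yi ri := by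
    intro i hi
    rw [hS, Finset.mem_filter] at hi
    obtain ⟨-, h, hh, hih⟩ := hi
    rw [cand, List.mem_filter]
    refine ⟨List.mem_finRange i, ?_⟩
    simp only [Bool.and_eq_true, Bool.or_eq_true, beq_iff_eq]
    refine ⟨hyi i ⟨h, hh, hih⟩, elt_injective hF ?_⟩
    rw [← elt_mul, ← elt_mul, hih, hri]
    calc g * h * g⁻¹ * (g * r * g⁻¹) = g * (h * r) * g⁻¹ := by group
      _ = g * (r * h) * g⁻¹ := by rw [(hc h hh).eq]
      _ = _ := by group
  have hle : S ⊆ (cand yi ri).toFinset := fun i hi => List.mem_toFinset.2 (hsub i hi)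
  have hk := centre_ok yi ri
  simp only [centreOK, Bool.or_eq_true, beq_iff_eq, decide_eq_true_eq, Bool.and_eq_true,
    List.any_eq_true, Bool.not_eq_true', List.contains_eq_mem, decide_eq_false_iff_not] at hk
  rcases hk with ((hr0 | hry) | hlt) | ⟨h32, a, ha, b, hb, hab⟩
  · rw [hr0, elt_zero] at hri
    exact hno.1 (by
      calc r = g⁻¹ * (g * r * g⁻¹) * g := by group
        _ = 1 := by rw [← hri]; group)
  · rcases hy0 with h0 | hy'
    · rw [hry, h0, elt_zero] at hri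
      exact hno.1 (by
        calc r = g⁻¹ * (g * r * g⁻¹) * g := by group
          _ = 1 := by rw [← hri]; group)
    · rw [hry, hy'] at hri
      exact hno.2 (mul_left_cancel (mul_right_cancel hri)).symm
  · have := (Finset.card_le_card hle).trans (List.toFinset_card_le _)
    omega
  · have he : S = (cand yi ri).toFinset := Finset.eq_of_subset_of_card_le hle
      ((List.toFinset_card_le _).trans (h32.le.trans hScard))
    have ha' : a ∈ S := he ▸ List.mem_toFinset.2 ha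
    have hb' : b ∈ S := he ▸ List.mem_toFinset.2 hb
    rw [hS, Finset.mem_filter] at ha' hb'
    obtain ⟨-, h1, hh1, e1⟩ := ha'
    obtain ⟨-, h2, hh2, e2⟩ := hb'
    refine hab (hsub _ ?_)
    rw [hS, Finset.mem_filter]
    exact ⟨Finset.mem_univ _, h1 * h2, mul_mem hh1 hh2, by rw [← elt_mul, e1, e2]; group⟩

end H55.U6C.Psp
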