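import Cfsg.Agent.H55.U6C.PspTable

/-!
The checks on the table of the Sylow 2-subgroup.
-/

set_option autoImplicit false
set_option maxRecDepth 100000

namespace H55.U6C.Psp

open Cfsg.Agent.H29.Psp43 (Mir mmul one₄ toM ofM symp get ap toM_mmul mem_of_symp toM_one spEquiv)

/-- Componentwise residue. -/
def red (M : Mir) : Mir := ofM (toM M)

/-- The negative of a matrix. -/
def negM (M : Mir) : Mir :=
  let f : Cfsg.Agent.H29.Psp43.Vec → Cfsg.Agent.H29.Psp43.Vec := fun v =>
    (2 * v.1 % 3, 2 * v.2.1 % 3, 2 * v.2.2.1 % 3, 2 * v.2.2.2 % 3)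
  (f M.1, f M.2.1, f M.2.2.1, f M.2.2.2)

/-- Equality up to sign. -/
def peq (M N : Mir) : Bool := M == N || M == negM N

/-- A reduced symplectic matrix. -/
def valid (M : Mir) : Bool := symp M && mmul one₄ M == M

/-! ### The table -/

/-- The element of index `i`. -/
def tel (i : Fin 64) : Mir := telList.getD i.val one₄

/-- The product of the indices. -/
def tmul (i j : Fin 64) : Fin 64 :=
  ⟨(tmulList.getD i.val []).getD j.val 0 % 64, Nat.mod_lt _ (by norm_num)⟩

/-- The square root. -/
def sqw (i : Fin 64) : Mir := sqList.getD i.val one₄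

/-- The movers. -/
def cyw (i : Fin 64) : Mir × Mir × Mir := cycList.getD i.val (one₄, one₄, one₄)

theorem tel_valid : ∀ i, valid (tel i) = true := by decide +kernel

theorem tel_mul : ∀ i j, peq (mmul (tel i) (tel j)) (tel (tmul i j)) = true := by decide +kernel

theorem tel_zero : tel 0 = one₄ := by decide +kernel

theorem one_valid : valid one₄ = true := by decide +kernel

theorem tel_inj : ∀ i j, peq (mmul (tel i) one₄) (mmul (tel j) one₄) = true → i = j := by
  decide +kernel

/-- The check for the square roots. -/
def sqOK (i : Fin 64) : Bool :=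
  !(tmul i i == 0) || i == 0 || (valid (sqw i) && peq (mmul (sqw i) (sqw i)) (tel i))

theorem sq_ok : ∀ i, sqOK i = true := by decide +kernel

/-- The check for the movers. -/
def cycOK (i : Fin 64) : Bool :=
  tmul i i == 0 || !(tmul (tmul i i) (tmul i i) == 0) ||
    (let v := tel i
     let x := tel (tmul i i)
     let v' := tel (tmul (tmul i i) i)
     let g := (cyw i).1
     let g' := (cyw i).2.1
     let h := (cyw i).2.2
     valid g && valid g' && valid h && peq (mmul g g') one₄ &&
       peq (mmul g x) (mmul x g) && peq (mmul h x) (mmul x h) &&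
       !peq (mmul g v) (mmul v g) && !peq (mmul g v) (mmul v' g) &&
       !peq (mmul h v) (mmul v h) && !peq (mmul h v) (mmul v' h) &&
       !peq (mmul (mmul g' h) v) (mmul v (mmul g' h)) &&
       !peq (mmul (mmul g' h) v) (mmul v' (mmul g' h)) && valid (mmul g' h))

theorem cyc_ok : ∀ i, cycOK i = true := by decide +kernel

/-- The elements commuting with `r` whose squares lie in `{1, y}`. -/
def cand (y r : Fin 64) : List (Fin 64) :=
  (List.finRange 64).filter fun i => (tmul i i == 0 || tmul i i == y) && tmul i r == tmul r i

/-- The check for the centres. -/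
def centreOK (y r : Fin 64) : Bool :=
  let l := cand y r
  r == 0 || r == y || decide (l.length < 32) ||
    (decide (l.length = 32) && l.any fun a => l.any fun b => !(l.contains (tmul a b)))

theorem centre_ok : ∀ y r, centreOK y r = true := by decide +kernel

end H55.U6C.Psp
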