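import Cfsg.Agent.H55.U6C.PspChecks
import Cfsg.Agent.S0246
import Mathlib

/-!
Facts about the projective symplectic group of dimension four over three elements: involutions are
squares; an element of order four has three conjugate cyclic groups under the centraliser of its
square; a 2-subgroup of order at least 32 whose squares lie in `{1, y}` has centre inside `{1, y}`.
-/

set_option autoImplicit false

namespace H55.U6C.Psp

open Cfsg.Agent.H29.Psp43 (Mir mmul one₄ toM ofM symp get ap toM_mmul mem_of_symp toM_one spEquiv)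
open Matrix

theorem red_mmul (M N : Mir) : red (mmul M N) = mmul M N := by
  simp only [red, ofM, toM, Cfsg.Agent.H29.Psp43.get, mmul, ap, ZMod.val_natCast, Nat.mod_mod]

theorem red_negM (M : Mir) : red (negM M) = negM M := by
  simp only [red, ofM, toM, Cfsg.Agent.H29.Psp43.get, negM, ZMod.val_natCast, Nat.mod_mod]

theorem toM_negM (M : Mir) : toM (negM M) = -toM M := by
  have h2 : (2 : ZMod 3) = -1 := by decide
  ext i j
  rcases i with i | i <;> rcases j with j | j <;> fin_cases i <;> fin_cases j <;>
    simp [toM, Cfsg.Agent.H29.Psp43.get, negM, h2]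

theorem toM_peq {M N : Mir} (h : peq M N = true) : toM M = toM N ∨ toM M = -toM N := by
  simp only [peq, Bool.or_eq_true, beq_iff_eq] at h
  rcases h with rfl | rfl
  · exact Or.inl rfl
  · exact Or.inr (toM_negM N)

abbrev Sp3 := Matrix.symplecticGroup (Fin 2) (ZMod 3)

theorem negOne_mem : (-1 : Matrix (Fin 2 ⊕ Fin 2) (Fin 2 ⊕ Fin 2) (ZMod 3)) ∈
    Matrix.symplecticGroup (Fin 2) (ZMod 3) :=
  SymplecticGroup.neg_mem (one_mem _)

/-- The sign. -/
def negOne : Sp3 := ⟨-1, negOne_mem⟩

theorem center_cases {g : Sp3} (hg : g ∈ Subgroup.center Sp3) : g = 1 ∨ g = negOne := by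
  have hc := Cfsg.Agent.S0246.result (F := ZMod 3) (ZMod.card 3) 2 (by norm_num)
  rw [show Nat.gcd 2 (3 - 1) = 2 from rfl, Nat.card_eq_two_iff' (1 : Subgroup.center Sp3)] at hc
  have hmem : negOne ∈ Subgroup.center Sp3 := by
    rw [Subgroup.mem_center_iff]
    intro y
    apply Subtype.ext
    show y.1 * (-1) = (-1) * y.1
    rw [mul_neg, neg_mul, mul_one, one_mul]
  have hne : negOne ≠ 1 := fun h => by
    have := congrArg (fun x : Sp3 => x.1 (Sum.inl 0) (Sum.inl 0)) h
    simp [negOne] at this
    exact absurd this (by decide)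
  by_cases h1 : g = 1
  · exact Or.inl h1
  · refine Or.inr (congrArg Subtype.val (hc.unique (y₁ := ⟨g, hg⟩) (y₂ := ⟨negOne, hmem⟩) ?_ ?_))
    · exact fun h => h1 (congrArg Subtype.val h)
    · exact fun h => hne (congrArg Subtype.val h)

/-- The element of the quotient with the given matrix. -/
def el0 (M : Mir) : Cfsg.PSp 2 (ZMod 3) :=
  if h : symp M = true then QuotientGroup.mk (⟨toM M, mem_of_symp h⟩ : Sp3) else 1

theorem el0_one : el0 one₄ = 1 := by
  rw [el0, dif_pos (by decide), QuotientGroup.eq_one_iff]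
  have : (⟨toM one₄, mem_of_symp (by decide)⟩ : Sp3) = 1 := Subtype.ext toM_one
  rw [this]
  exact one_mem _

theorem mk_eq_iff {a b : Sp3} : (QuotientGroup.mk a : Cfsg.PSp 2 (ZMod 3)) = QuotientGroup.mk b ↔
    a.1 = b.1 ∨ a.1 = -b.1 := by
  rw [QuotientGroup.eq]
  constructor
  · intro h
    rcases center_cases h with h | h
    · exact Or.inl (congrArg Subtype.val (inv_mul_eq_one.1 h))
    · right
      have hb : b = a * negOne := inv_mul_eq_iff_eq_mul.1 h
      rw [hb]
      show a.1 = -(a.1 * (-1))
      rw [mul_neg, mul_one, neg_neg]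
  · rintro (h | h)
    · rw [Subtype.ext h, inv_mul_cancel]
      exact one_mem _
    · have : a = b * negOne := Subtype.ext (by show a.1 = b.1 * (-1); rw [mul_neg, mul_one]; exact h)
      rw [this, _root_.mul_inv_rev, mul_assoc, inv_mul_cancel, mul_one]
      refine inv_mem ?_
      rw [Subgroup.mem_center_iff]
      exact fun y => Subtype.ext (show y.1 * (-1) = (-1) * y.1 by rw [mul_neg, neg_mul, mul_one, one_mul])

theorem valid_iff {M : Mir} (h : valid M = true) : symp M = true ∧ red M = M := by
  simp only [valid, Bool.and_eq_true, beq_iff_eq] at h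
  exact ⟨h.1, by rw [← h.2]; exact red_mmul _ _⟩

theorem el0_mul_eq {a b c : Mir} (ha : valid a = true) (hb : valid b = true) (hc : valid c = true)
    (h : peq (mmul a b) c = true) : el0 a * el0 b = el0 c := by
  rw [el0, el0, el0, dif_pos (valid_iff ha).1, dif_pos (valid_iff hb).1, dif_pos (valid_iff hc).1,
    ← QuotientGroup.mk_mul, mk_eq_iff]
  show toM a * toM b = toM c ∨ toM a * toM b = -toM c
  rw [← toM_mmul]
  exact toM_peq h

theorem el0_comm {a b c d : Mir} (ha : valid a = true) (hb : valid b = true) (hc : valid c = true)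
    (hd : valid d = true) (h : peq (mmul a b) (mmul c d) = true) :
    el0 a * el0 b = el0 c * el0 d := by
  rw [el0, el0, el0, el0, dif_pos (valid_iff ha).1, dif_pos (valid_iff hb).1,
    dif_pos (valid_iff hc).1, dif_pos (valid_iff hd).1, ← QuotientGroup.mk_mul,
    ← QuotientGroup.mk_mul, mk_eq_iff]
  show toM a * toM b = toM c * toM d ∨ toM a * toM b = -(toM c * toM d)
  rw [← toM_mmul, ← toM_mmul]
  exact toM_peq h

theorem el0_ne {a b c d : Mir} (ha : valid a = true) (hb : valid b = true) (hc : valid c = true)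
    (hd : valid d = true) (h : peq (mmul a b) (mmul c d) = false) :
    el0 a * el0 b ≠ el0 c * el0 d := by
  rw [el0, el0, el0, el0, dif_pos (valid_iff ha).1, dif_pos (valid_iff hb).1,
    dif_pos (valid_iff hc).1, dif_pos (valid_iff hd).1, ← QuotientGroup.mk_mul,
    ← QuotientGroup.mk_mul, ne_eq, mk_eq_iff]
  show ¬ (toM a * toM b = toM c * toM d ∨ toM a * toM b = -(toM c * toM d))
  rw [← toM_mmul, ← toM_mmul, ← toM_negM]
  intro hh
  have : peq (mmul a b) (mmul c d) = true := by
    simp only [peq, Bool.or_eq_true, beq_iff_eq]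
    rcases hh with hh | hh <;> [left; right] <;>
      (have h2 := congrArg ofM hh; change red _ = red _ at h2
       simpa only [red_mmul, red_negM] using h2)
  rw [h] at this
  exact Bool.false_ne_true this

end H55.U6C.Psp
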