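import Cfsg.Agent.H29.Psp43Spectrum

/-!
A Sylow 2-subgroup of the projective symplectic group of dimension four over three elements, as a
table (generated by a script), with square roots of its involutions and, for each element of order
four, two elements of the centraliser of its square moving the cyclic group it generates.
-/

set_option autoImplicit false
set_option maxRecDepth 100000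

namespace H55.U6C.Psp

open Cfsg.Agent.H29.Psp43 (Mir one₄)

/-- The 64 elements. -/
def telList : List Mir := [
  ((1, 0, 0, 0), (0, 1, 0, 0), (0, 0, 1, 0), (0, 0, 0, 1)),
  ((0, 0, 0, 1), (1, 0, 1, 2), (2, 2, 0, 2), (2, 0, 0, 0)),
  ((0, 0, 0, 1), (2, 0, 2, 1), (0, 2, 1, 1), (1, 0, 0, 2)),
  ((0, 0, 1, 1), (1, 2, 2, 0), (0, 2, 1, 1), (2, 1, 2, 0)),
  ((0, 0, 1, 1), (2, 1, 1, 0), (1, 1, 0, 1), (1, 2, 0, 2)),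
  ((0, 1, 0, 0), (1, 0, 0, 0), (0, 1, 0, 1), (2, 0, 1, 0)),
  ((0, 1, 0, 0), (2, 0, 0, 0), (1, 1, 0, 1), (1, 2, 2, 0)),
  ((0, 1, 0, 2), (1, 1, 2, 2), (2, 2, 0, 2), (2, 1, 2, 2)),
  ((0, 1, 0, 2), (2, 2, 1, 1), (0, 0, 2, 1), (1, 1, 1, 2)),
  ((0, 1, 1, 1), (1, 0, 2, 1), (2, 2, 0, 2), (2, 2, 1, 1)),
  ((0, 1, 1, 1), (2, 0, 1, 2), (0, 2, 2, 0), (1, 0, 1, 1)),
  ((0, 1, 1, 2), (1, 1, 1, 0), (0, 0, 2, 1), (2, 2, 0, 0)),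
  ((0, 1, 1, 2), (2, 2, 2, 0), (1, 1, 0, 1), (1, 0, 2, 1)),
  ((0, 1, 2, 0), (1, 2, 0, 2), (2, 2, 0, 2), (2, 0, 2, 1)),
  ((0, 1, 2, 0), (2, 1, 0, 1), (0, 1, 0, 1), (1, 2, 2, 2)),
  ((0, 1, 2, 1), (1, 2, 1, 1), (0, 2, 2, 0), (2, 1, 0, 2)),
  ((0, 1, 2, 1), (2, 1, 2, 2), (1, 1, 0, 1), (1, 1, 1, 0)),
  ((1, 0, 0, 0), (0, 2, 0, 0), (0, 1, 1, 0), (2, 0, 0, 2)),
  ((1, 0, 0, 1), (1, 2, 2, 2), (0, 2, 0, 2), (1, 0, 0, 0)),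
  ((1, 0, 0, 1), (2, 1, 1, 1), (1, 1, 2, 1), (1, 0, 0, 2)),
  ((1, 0, 0, 2), (1, 1, 2, 0), (2, 2, 2, 2), (2, 0, 0, 2)),
  ((1, 0, 0, 2), (2, 2, 1, 0), (0, 0, 1, 2), (0, 0, 0, 2)),
  ((1, 0, 1, 0), (1, 0, 1, 1), (0, 1, 1, 0), (1, 2, 1, 1)),
  ((1, 0, 1, 0), (2, 0, 2, 2), (1, 1, 2, 1), (1, 1, 1, 2)),
  ((1, 0, 1, 1), (1, 0, 1, 0), (2, 2, 2, 2), (2, 1, 0, 0)),
  ((1, 0, 1, 1), (2, 0, 2, 0), (0, 2, 0, 2), (0, 2, 2, 2)),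
  ((1, 0, 1, 2), (0, 0, 0, 1), (0, 0, 1, 2), (2, 2, 0, 1)),
  ((1, 0, 1, 2), (0, 0, 0, 2), (0, 0, 1, 0), (0, 1, 2, 0)),
  ((1, 0, 2, 0), (1, 2, 2, 1), (2, 2, 2, 2), (2, 2, 1, 0)),
  ((1, 0, 2, 0), (2, 1, 1, 2), (0, 1, 1, 0), (0, 1, 0, 0)),
  ((1, 0, 2, 1), (0, 1, 1, 1), (0, 2, 0, 2), (2, 1, 2, 1)),
  ((1, 0, 2, 1), (0, 2, 2, 2), (0, 0, 1, 0), (0, 2, 2, 1)),
  ((1, 0, 2, 2), (1, 1, 1, 2), (0, 0, 1, 2), (1, 1, 1, 0)),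
  ((1, 0, 2, 2), (2, 2, 2, 1), (1, 1, 2, 1), (1, 2, 0, 1)),
  ((1, 1, 0, 0), (1, 2, 0, 0), (2, 2, 2, 2), (2, 1, 2, 1)),
  ((1, 1, 0, 0), (2, 1, 0, 0), (0, 1, 2, 2), (0, 1, 1, 2)),
  ((1, 1, 0, 2), (1, 2, 1, 0), (0, 2, 1, 1), (1, 0, 1, 2)),
  ((1, 1, 0, 2), (2, 1, 2, 0), (1, 1, 2, 1), (1, 2, 2, 2)),
  ((1, 1, 1, 0), (0, 1, 1, 2), (0, 0, 1, 0), (0, 2, 1, 2)),
  ((1, 1, 1, 0), (0, 2, 2, 1), (0, 1, 2, 2), (2, 0, 1, 1)),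
  ((1, 1, 1, 2), (1, 0, 2, 2), (2, 2, 2, 2), (2, 0, 2, 0)),
  ((1, 1, 1, 2), (2, 0, 1, 1), (0, 2, 1, 1), (0, 2, 0, 1)),
  ((1, 1, 2, 0), (1, 0, 0, 2), (0, 1, 2, 2), (1, 2, 2, 0)),
  ((1, 1, 2, 0), (2, 0, 0, 1), (1, 1, 2, 1), (1, 0, 2, 0)),
  ((1, 1, 2, 2), (0, 1, 0, 2), (0, 2, 1, 1), (2, 1, 0, 0)),
  ((1, 1, 2, 2), (0, 2, 0, 1), (0, 0, 1, 0), (0, 1, 1, 1)),
  ((1, 2, 0, 0), (1, 1, 0, 0), (0, 0, 2, 1), (1, 1, 2, 2)),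
  ((1, 2, 0, 0), (2, 2, 0, 0), (1, 1, 2, 1), (1, 0, 1, 1)),
  ((1, 2, 0, 1), (1, 2, 1, 2), (2, 2, 2, 2), (2, 0, 1, 1)),
  ((1, 2, 0, 1), (2, 1, 2, 1), (0, 1, 0, 1), (0, 1, 2, 1)),
  ((1, 2, 0, 2), (0, 1, 2, 0), (0, 2, 2, 0), (2, 1, 1, 2)),
  ((1, 2, 0, 2), (0, 2, 1, 0), (0, 0, 1, 0), (0, 0, 2, 2)),
  ((1, 2, 1, 0), (1, 1, 0, 2), (2, 2, 2, 2), (2, 1, 1, 2)),
  ((1, 2, 1, 0), (2, 2, 0, 1), (0, 0, 2, 1), (0, 0, 1, 1)),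
  ((1, 2, 1, 1), (0, 1, 2, 1), (0, 0, 1, 0), (0, 1, 0, 2)),
  ((1, 2, 1, 1), (0, 2, 1, 2), (0, 1, 0, 1), (2, 0, 2, 0)),
  ((1, 2, 1, 2), (1, 2, 0, 1), (0, 2, 2, 0), (1, 0, 2, 1)),
  ((1, 2, 1, 2), (2, 1, 0, 2), (1, 1, 2, 1), (1, 1, 0, 0)),
  ((1, 2, 2, 0), (0, 0, 1, 1), (0, 0, 1, 0), (0, 2, 0, 0)),
  ((1, 2, 2, 0), (0, 0, 2, 2), (0, 0, 2, 1), (2, 2, 1, 0)),
  ((1, 2, 2, 1), (1, 0, 2, 0), (0, 1, 0, 1), (1, 2, 0, 2)),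
  ((1, 2, 2, 1), (2, 0, 1, 0), (1, 1, 2, 1), (1, 2, 1, 0)),
  ((1, 2, 2, 2), (1, 0, 0, 1), (2, 2, 2, 2), (2, 2, 0, 1)),
  ((1, 2, 2, 2), (2, 0, 0, 2), (0, 2, 2, 0), (0, 2, 1, 0))]

/-- The products, row by row. -/
def tmulList : List (List ℕ) := [
  [0, 1, 2, 3, 4, 5, 6, 7, 8, 9, 10, 11, 12, 13, 14, 15, 16, 17, 18, 19, 20, 21, 22, 23, 24, 25, 26, 27, 28, 29, 30, 31, 32, 33, 34, 35, 36, 37, 38, 39, 40, 41, 42, 43, 44, 45, 46, 47, 48, 49, 50, 51, 52, 53, 54, 55, 56, 57, 58, 59, 60, 61, 62, 63],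
  [1, 0, 17, 50, 51, 26, 27, 31, 30, 45, 44, 55, 54, 58, 59, 39, 38, 2, 21, 20, 19, 18, 35, 34, 47, 46, 5, 6, 37, 36, 8, 7, 49, 48, 23, 22, 29, 28, 16, 15, 57, 56, 63, 62, 10, 9, 25, 24, 33, 32, 3, 4, 61, 60, 12, 11, 41, 40, 13, 14, 53, 52, 43, 42],
  [2, 21, 20, 52, 53, 27, 26, 32, 33, 8, 7, 47, 46, 59, 58, 12, 11, 1, 0, 17, 18, 19, 16, 15, 55, 54, 43, 42, 14, 13, 45, 44, 57, 56, 25, 24, 28, 29, 35, 34, 49, 48, 62, 63, 40, 41, 23, 22, 30, 31, 4, 3, 60, 61, 39, 38, 9, 10, 36, 37, 51, 50, 5, 6],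
  [3, 53, 52, 20, 21, 58, 59, 46, 47, 11, 12, 33, 32, 26, 27, 7, 8, 4, 51, 50, 60, 61, 9, 10, 30, 31, 37, 36, 5, 6, 38, 39, 23, 22, 49, 48, 62, 63, 41, 40, 25, 24, 28, 29, 34, 35, 57, 56, 55, 54, 1, 2, 18, 19, 44, 45, 16, 15, 42, 43, 0, 17, 14, 13],
  [4, 51, 50, 17, 0, 59, 58, 54, 55, 38, 39, 30, 31, 27, 26, 44, 45, 3, 53, 52, 61, 60, 41, 40, 33, 32, 14, 13, 43, 42, 11, 12, 25, 24, 57, 56, 63, 62, 9, 10, 23, 22, 29, 28, 15, 16, 49, 48, 47, 46, 2, 1, 19, 18, 7, 8, 35, 34, 6, 5, 21, 20, 37, 36],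
  [5, 29, 28, 62, 63, 0, 17, 22, 23, 10, 9, 57, 56, 50, 51, 16, 15, 6, 58, 59, 42, 43, 7, 8, 44, 45, 61, 60, 2, 1, 31, 30, 33, 32, 35, 34, 52, 53, 49, 48, 41, 40, 20, 21, 24, 25, 47, 46, 39, 38, 13, 14, 36, 37, 55, 54, 12, 11, 18, 19, 27, 26, 3, 4],
  [6, 58, 59, 26, 27, 17, 0, 38, 39, 31, 30, 44, 45, 51, 50, 55, 54, 5, 29, 28, 43, 42, 49, 48, 57, 56, 3, 4, 19, 18, 10, 9, 41, 40, 47, 46, 53, 52, 7, 8, 33, 32, 21, 20, 11, 12, 35, 34, 23, 22, 14, 13, 37, 36, 16, 15, 25, 24, 1, 2, 63, 62, 61, 60],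
  [7, 54, 55, 30, 31, 44, 45, 0, 17, 58, 59, 50, 51, 38, 39, 26, 27, 8, 41, 40, 23, 22, 21, 20, 43, 42, 15, 16, 47, 46, 3, 4, 63, 62, 61, 60, 49, 48, 13, 14, 19, 18, 25, 24, 5, 6, 29, 28, 37, 36, 11, 12, 57, 56, 1, 2, 53, 52, 9, 10, 35, 34, 33, 32],
  [8, 41, 40, 34, 35, 45, 44, 36, 37, 3, 4, 43, 42, 39, 38, 1, 2, 7, 54, 55, 22, 23, 13, 14, 50, 51, 33, 32, 10, 9, 58, 59, 19, 18, 29, 28, 48, 49, 21, 20, 63, 62, 24, 25, 52, 53, 61, 60, 17, 0, 12, 11, 56, 57, 26, 27, 6, 5, 46, 47, 31, 30, 15, 16],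
  [9, 45, 44, 39, 38, 30, 31, 58, 59, 51, 50, 26, 27, 54, 55, 17, 0, 10, 25, 24, 47, 46, 29, 28, 61, 60, 8, 7, 57, 56, 14, 13, 21, 20, 37, 36, 41, 40, 1, 2, 43, 42, 35, 34, 3, 4, 53, 52, 19, 18, 15, 16, 33, 32, 6, 5, 63, 62, 12, 11, 49, 48, 23, 22],
  [10, 25, 24, 48, 49, 31, 30, 18, 19, 14, 13, 61, 60, 55, 54, 6, 5, 9, 45, 44, 46, 47, 1, 2, 26, 27, 23, 22, 11, 12, 51, 50, 43, 42, 53, 52, 40, 41, 29, 28, 21, 20, 34, 35, 62, 63, 37, 36, 59, 58, 16, 15, 32, 33, 17, 0, 4, 3, 56, 57, 38, 39, 8, 7],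
  [11, 35, 34, 40, 41, 38, 39, 42, 43, 2, 1, 37, 36, 44, 45, 4, 3, 12, 31, 30, 56, 57, 6, 5, 17, 0, 47, 46, 15, 16, 27, 26, 61, 60, 63, 62, 24, 25, 53, 52, 29, 28, 48, 49, 20, 21, 19, 18, 50, 51, 7, 8, 22, 23, 59, 58, 13, 14, 32, 33, 54, 55, 10, 9],
  [12, 31, 30, 55, 54, 39, 38, 51, 50, 27, 26, 17, 0, 45, 44, 59, 58, 11, 35, 34, 57, 56, 53, 52, 37, 36, 10, 9, 33, 32, 2, 1, 29, 28, 19, 18, 25, 24, 6, 5, 61, 60, 49, 48, 14, 13, 63, 62, 43, 42, 8, 7, 23, 22, 4, 3, 21, 20, 16, 15, 41, 40, 47, 46],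
  [13, 27, 26, 59, 58, 50, 51, 45, 44, 54, 55, 39, 38, 0, 17, 30, 31, 14, 63, 62, 37, 36, 25, 24, 23, 22, 2, 1, 61, 60, 15, 16, 35, 34, 33, 32, 21, 20, 12, 11, 47, 46, 53, 52, 8, 7, 41, 40, 57, 56, 5, 6, 43, 42, 9, 10, 49, 48, 4, 3, 29, 28, 19, 18],
  [14, 63, 62, 28, 29, 51, 50, 56, 57, 15, 16, 23, 22, 17, 0, 9, 10, 13, 27, 26, 36, 37, 12, 11, 39, 38, 19, 18, 3, 4, 54, 55, 47, 46, 41, 40, 20, 21, 25, 24, 35, 34, 52, 53, 48, 49, 33, 32, 44, 45, 6, 5, 42, 43, 30, 31, 7, 8, 60, 61, 58, 59, 2, 1],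
  [15, 49, 48, 24, 25, 54, 55, 60, 61, 5, 6, 19, 18, 30, 31, 13, 14, 16, 38, 39, 32, 33, 4, 3, 59, 58, 57, 56, 8, 7, 0, 17, 37, 36, 21, 20, 34, 35, 63, 62, 53, 52, 40, 41, 28, 29, 43, 42, 26, 27, 9, 10, 46, 47, 50, 51, 1, 2, 22, 23, 45, 44, 11, 12],
  [16, 38, 39, 44, 45, 55, 54, 27, 26, 0, 17, 59, 58, 31, 30, 50, 51, 15, 49, 48, 33, 32, 63, 62, 19, 18, 11, 12, 23, 22, 5, 6, 53, 52, 43, 42, 35, 34, 4, 3, 37, 36, 41, 40, 2, 1, 21, 20, 61, 60, 10, 9, 47, 46, 13, 14, 29, 28, 7, 8, 25, 24, 57, 56],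
  [17, 18, 19, 61, 60, 6, 5, 49, 48, 30, 31, 24, 25, 14, 13, 54, 55, 0, 1, 2, 21, 20, 38, 39, 11, 12, 62, 63, 59, 58, 9, 10, 40, 41, 46, 47, 37, 36, 22, 23, 32, 33, 43, 42, 57, 56, 34, 35, 8, 7, 51, 50, 53, 52, 15, 16, 45, 44, 29, 28, 4, 3, 26, 27],
  [18, 17, 0, 51, 50, 62, 63, 10, 9, 56, 57, 16, 15, 29, 28, 23, 22, 19, 20, 21, 2, 1, 47, 46, 35, 34, 6, 5, 36, 37, 48, 49, 7, 8, 39, 38, 58, 59, 55, 54, 44, 45, 27, 26, 31, 30, 12, 11, 41, 40, 61, 60, 3, 4, 25, 24, 33, 32, 14, 13, 52, 53, 42, 43],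
  [19, 20, 21, 53, 52, 63, 62, 40, 41, 48, 49, 35, 34, 28, 29, 25, 24, 18, 17, 0, 1, 2, 55, 54, 16, 15, 42, 43, 13, 14, 56, 57, 44, 45, 12, 11, 59, 58, 47, 46, 7, 8, 26, 27, 32, 33, 39, 38, 9, 10, 60, 61, 4, 3, 23, 22, 30, 31, 37, 36, 50, 51, 6, 5],
  [20, 19, 18, 60, 61, 42, 43, 57, 56, 33, 32, 22, 23, 37, 36, 46, 47, 21, 2, 1, 0, 17, 11, 12, 38, 39, 63, 62, 58, 59, 41, 40, 10, 9, 54, 55, 14, 13, 24, 25, 31, 30, 5, 6, 49, 48, 15, 16, 45, 44, 53, 52, 51, 50, 34, 35, 8, 7, 28, 29, 3, 4, 27, 26],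
  [21, 2, 1, 4, 3, 43, 42, 44, 45, 41, 40, 38, 39, 36, 37, 34, 35, 20, 19, 18, 17, 0, 24, 25, 22, 23, 27, 26, 29, 28, 33, 32, 31, 30, 15, 16, 13, 14, 11, 12, 10, 9, 6, 5, 7, 8, 54, 55, 56, 57, 52, 53, 50, 51, 46, 47, 48, 49, 59, 58, 61, 60, 63, 62],
  [22, 55, 54, 31, 30, 24, 25, 5, 6, 18, 19, 13, 14, 49, 48, 61, 60, 23, 40, 41, 8, 7, 43, 42, 21, 20, 16, 15, 46, 47, 62, 63, 4, 3, 26, 27, 38, 39, 50, 51, 59, 58, 45, 44, 0, 17, 1, 2, 53, 52, 57, 56, 11, 12, 29, 28, 37, 36, 10, 9, 34, 35, 32, 33],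
  [23, 40, 41, 35, 34, 25, 24, 52, 53, 62, 63, 21, 20, 48, 49, 29, 28, 22, 55, 54, 7, 8, 50, 51, 13, 14, 32, 33, 9, 10, 18, 19, 59, 58, 1, 2, 39, 38, 43, 42, 4, 3, 44, 45, 36, 37, 26, 27, 6, 5, 56, 57, 12, 11, 61, 60, 17, 0, 47, 46, 30, 31, 16, 15],
  [24, 47, 46, 32, 33, 22, 23, 43, 42, 19, 18, 36, 37, 57, 56, 60, 61, 25, 10, 9, 45, 44, 5, 6, 0, 17, 35, 34, 54, 55, 63, 62, 3, 4, 27, 26, 11, 12, 52, 53, 58, 59, 8, 7, 21, 20, 2, 1, 51, 50, 49, 48, 38, 39, 28, 29, 14, 13, 40, 41, 15, 16, 31, 30],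
  [25, 10, 9, 16, 15, 23, 22, 50, 51, 63, 62, 0, 17, 56, 57, 28, 29, 24, 47, 46, 44, 45, 52, 53, 36, 37, 31, 30, 41, 40, 19, 18, 58, 59, 2, 1, 12, 11, 5, 6, 3, 4, 7, 8, 13, 14, 27, 26, 42, 43, 48, 49, 39, 38, 60, 61, 20, 21, 55, 54, 33, 32, 35, 34],
  [26, 36, 37, 43, 42, 1, 2, 35, 34, 44, 45, 40, 41, 3, 4, 38, 39, 27, 13, 14, 63, 62, 31, 30, 10, 9, 52, 53, 17, 0, 7, 8, 48, 49, 22, 23, 61, 60, 32, 33, 56, 57, 19, 18, 47, 46, 24, 25, 15, 16, 58, 59, 29, 28, 11, 12, 54, 55, 21, 20, 6, 5, 50, 51],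
  [27, 13, 14, 5, 6, 2, 1, 16, 15, 7, 8, 10, 9, 4, 3, 11, 12, 26, 36, 37, 62, 63, 32, 33, 40, 41, 50, 51, 20, 21, 44, 45, 56, 57, 24, 25, 60, 61, 31, 30, 48, 49, 18, 19, 55, 54, 22, 23, 34, 35, 59, 58, 28, 29, 38, 39, 46, 47, 0, 17, 42, 43, 52, 53],
  [28, 43, 42, 36, 37, 60, 61, 33, 32, 23, 22, 46, 47, 19, 18, 56, 57, 29, 5, 6, 58, 59, 15, 16, 54, 55, 21, 20, 51, 50, 25, 24, 11, 12, 45, 44, 2, 1, 34, 35, 38, 39, 3, 4, 41, 40, 8, 7, 31, 30, 63, 62, 27, 26, 48, 49, 10, 9, 52, 53, 14, 13, 0, 17],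
  [29, 5, 6, 13, 14, 61, 60, 30, 31, 25, 24, 54, 55, 18, 19, 48, 49, 28, 43, 42, 59, 58, 34, 35, 46, 47, 0, 17, 53, 52, 23, 22, 38, 39, 8, 7, 1, 2, 15, 16, 11, 12, 4, 3, 9, 10, 45, 44, 32, 33, 62, 63, 26, 27, 56, 57, 40, 41, 50, 51, 37, 36, 21, 20],
  [30, 56, 57, 23, 22, 9, 10, 29, 28, 50, 51, 62, 63, 15, 16, 0, 17, 31, 12, 11, 35, 34, 58, 59, 3, 4, 48, 49, 44, 45, 13, 14, 20, 21, 36, 37, 33, 32, 18, 19, 42, 43, 47, 46, 61, 60, 52, 53, 2, 1, 54, 55, 41, 40, 5, 6, 27, 26, 25, 24, 7, 8, 39, 38],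
  [31, 12, 11, 8, 7, 10, 9, 1, 2, 13, 14, 3, 4, 16, 15, 5, 6, 30, 56, 57, 34, 35, 18, 19, 62, 63, 39, 38, 24, 25, 50, 51, 42, 43, 52, 53, 32, 33, 58, 59, 20, 21, 46, 47, 26, 27, 36, 37, 28, 29, 55, 54, 40, 41, 0, 17, 60, 61, 45, 44, 22, 23, 48, 49],
  [32, 39, 38, 45, 44, 40, 41, 2, 1, 36, 37, 4, 3, 35, 34, 43, 42, 33, 48, 49, 15, 16, 19, 18, 63, 62, 12, 11, 22, 23, 52, 53, 6, 5, 50, 51, 31, 30, 59, 58, 17, 0, 54, 55, 27, 26, 13, 14, 29, 28, 47, 46, 10, 9, 21, 20, 61, 60, 8, 7, 24, 25, 56, 57],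
  [33, 48, 49, 25, 24, 41, 40, 28, 29, 52, 53, 63, 62, 34, 35, 21, 20, 32, 39, 38, 16, 15, 59, 58, 4, 3, 56, 57, 7, 8, 36, 37, 17, 0, 13, 14, 30, 31, 19, 18, 6, 5, 55, 54, 60, 61, 50, 51, 1, 2, 46, 47, 9, 10, 43, 42, 26, 27, 23, 22, 44, 45, 12, 11],
  [34, 57, 56, 22, 23, 46, 47, 61, 60, 43, 42, 18, 19, 33, 32, 36, 37, 35, 11, 12, 31, 30, 3, 4, 58, 59, 49, 48, 45, 44, 21, 20, 14, 13, 0, 17, 15, 16, 62, 63, 51, 50, 10, 9, 29, 28, 5, 6, 27, 26, 41, 40, 54, 55, 52, 53, 2, 1, 24, 25, 8, 7, 38, 39],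
  [35, 11, 12, 7, 8, 47, 46, 26, 27, 21, 20, 58, 59, 32, 33, 52, 53, 34, 57, 56, 30, 31, 62, 63, 18, 19, 38, 39, 25, 24, 43, 42, 51, 50, 5, 6, 16, 15, 3, 4, 14, 13, 9, 10, 1, 2, 0, 17, 60, 61, 40, 41, 55, 54, 36, 37, 28, 29, 44, 45, 23, 22, 49, 48],
  [36, 26, 27, 58, 59, 52, 53, 8, 7, 46, 47, 12, 11, 21, 20, 33, 32, 37, 62, 63, 14, 13, 23, 22, 25, 24, 1, 2, 60, 61, 34, 35, 16, 15, 30, 31, 0, 17, 39, 38, 55, 54, 51, 50, 45, 44, 9, 10, 49, 48, 43, 42, 5, 6, 41, 40, 57, 56, 3, 4, 28, 29, 18, 19],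
  [37, 62, 63, 29, 28, 53, 52, 48, 49, 34, 35, 25, 24, 20, 21, 41, 40, 36, 26, 27, 13, 14, 39, 38, 12, 11, 18, 19, 4, 3, 46, 47, 55, 54, 9, 10, 17, 0, 23, 22, 16, 15, 50, 51, 56, 57, 30, 31, 7, 8, 42, 43, 6, 5, 33, 32, 44, 45, 61, 60, 59, 58, 1, 2],
  [38, 16, 15, 10, 9, 11, 12, 6, 5, 1, 2, 14, 13, 7, 8, 3, 4, 39, 32, 33, 48, 49, 42, 43, 20, 21, 55, 54, 34, 35, 26, 27, 60, 61, 62, 63, 22, 23, 51, 50, 28, 29, 56, 57, 17, 0, 18, 19, 52, 53, 44, 45, 24, 25, 58, 59, 36, 37, 31, 30, 46, 47, 40, 41],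
  [39, 32, 33, 47, 46, 12, 11, 53, 52, 26, 27, 20, 21, 8, 7, 58, 59, 38, 16, 15, 49, 48, 51, 50, 14, 13, 40, 41, 30, 31, 1, 2, 28, 29, 18, 19, 23, 22, 42, 43, 60, 61, 57, 56, 37, 36, 62, 63, 5, 6, 45, 44, 25, 24, 3, 4, 0, 17, 35, 34, 9, 10, 55, 54],
  [40, 23, 22, 56, 57, 32, 33, 19, 18, 37, 36, 60, 61, 47, 46, 42, 43, 41, 8, 7, 54, 55, 2, 1, 27, 26, 25, 24, 38, 39, 53, 52, 5, 6, 51, 50, 10, 9, 28, 29, 0, 17, 15, 16, 63, 62, 14, 13, 58, 59, 35, 34, 31, 30, 20, 21, 3, 4, 48, 49, 11, 12, 45, 44],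
  [41, 8, 7, 12, 11, 33, 32, 59, 58, 53, 52, 27, 26, 46, 47, 20, 21, 40, 23, 22, 55, 54, 28, 29, 60, 61, 45, 44, 49, 48, 37, 36, 0, 17, 14, 13, 9, 10, 2, 1, 5, 6, 16, 15, 4, 3, 51, 50, 18, 19, 34, 35, 30, 31, 42, 43, 62, 63, 39, 38, 57, 56, 25, 24],
  [42, 59, 58, 27, 26, 20, 21, 11, 12, 32, 33, 7, 8, 53, 52, 47, 46, 43, 28, 29, 5, 6, 57, 56, 49, 48, 4, 3, 18, 19, 40, 41, 9, 10, 55, 54, 51, 50, 44, 45, 30, 31, 0, 17, 38, 39, 16, 15, 25, 24, 37, 36, 14, 13, 35, 34, 23, 22, 2, 1, 62, 63, 60, 61],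
  [43, 28, 29, 63, 62, 21, 20, 24, 25, 40, 41, 49, 48, 52, 53, 35, 34, 42, 59, 58, 6, 5, 44, 45, 7, 8, 60, 61, 1, 2, 32, 33, 30, 31, 16, 15, 50, 51, 57, 56, 9, 10, 17, 0, 22, 23, 55, 54, 12, 11, 36, 37, 13, 14, 47, 46, 39, 38, 19, 18, 26, 27, 4, 3],
  [44, 46, 47, 33, 32, 7, 8, 21, 20, 59, 58, 52, 53, 11, 12, 27, 26, 45, 9, 10, 25, 24, 0, 17, 5, 6, 34, 35, 55, 54, 4, 3, 62, 63, 60, 61, 57, 56, 36, 37, 18, 19, 23, 22, 43, 42, 28, 29, 14, 13, 38, 39, 49, 48, 2, 1, 51, 50, 41, 40, 16, 15, 30, 31],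
  [45, 9, 10, 15, 16, 8, 7, 13, 14, 4, 3, 5, 6, 12, 11, 2, 1, 44, 46, 47, 24, 25, 36, 37, 52, 53, 30, 31, 40, 41, 59, 58, 18, 19, 28, 29, 56, 57, 0, 17, 62, 63, 22, 23, 50, 51, 60, 61, 20, 21, 39, 38, 48, 49, 27, 26, 42, 43, 54, 55, 32, 33, 34, 35],
  [46, 44, 45, 38, 39, 34, 35, 3, 4, 42, 43, 1, 2, 41, 40, 37, 36, 47, 24, 25, 10, 9, 61, 60, 29, 28, 7, 8, 56, 57, 20, 21, 13, 14, 17, 0, 54, 55, 26, 27, 50, 51, 31, 30, 58, 59, 6, 5, 63, 62, 33, 32, 15, 16, 53, 52, 19, 18, 11, 12, 48, 49, 22, 23],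
  [47, 24, 25, 49, 48, 35, 34, 62, 63, 20, 21, 29, 28, 40, 41, 53, 52, 46, 44, 45, 9, 10, 26, 27, 1, 2, 22, 23, 12, 11, 42, 43, 50, 51, 6, 5, 55, 54, 61, 60, 13, 14, 30, 31, 18, 19, 17, 0, 4, 3, 32, 33, 16, 15, 37, 36, 59, 58, 57, 56, 39, 38, 7, 8],
  [48, 33, 32, 46, 47, 56, 57, 37, 36, 61, 60, 42, 43, 23, 22, 18, 19, 49, 15, 16, 38, 39, 14, 13, 51, 50, 41, 40, 31, 30, 29, 28, 2, 1, 58, 59, 8, 7, 20, 21, 27, 26, 11, 12, 53, 52, 3, 4, 0, 17, 25, 24, 45, 44, 62, 63, 5, 6, 34, 35, 10, 9, 54, 55],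
  [49, 15, 16, 9, 10, 57, 56, 17, 0, 29, 28, 51, 50, 22, 23, 62, 63, 48, 33, 32, 39, 38, 20, 21, 42, 43, 54, 55, 35, 34, 61, 60, 27, 26, 3, 4, 7, 8, 14, 13, 2, 1, 12, 11, 6, 5, 58, 59, 36, 37, 24, 25, 44, 45, 18, 19, 52, 53, 30, 31, 47, 46, 41, 40],
  [50, 60, 61, 19, 18, 13, 14, 25, 24, 55, 54, 48, 49, 5, 6, 31, 30, 51, 4, 3, 53, 52, 45, 44, 8, 7, 28, 29, 26, 27, 16, 15, 34, 35, 32, 33, 43, 42, 56, 57, 46, 47, 37, 36, 23, 22, 40, 41, 11, 12, 0, 17, 21, 20, 10, 9, 38, 39, 63, 62, 1, 2, 59, 58],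
  [51, 4, 3, 2, 1, 14, 13, 12, 11, 16, 15, 8, 7, 6, 5, 10, 9, 50, 60, 61, 52, 53, 56, 57, 48, 49, 59, 58, 62, 63, 55, 54, 46, 47, 40, 41, 42, 43, 45, 44, 34, 35, 36, 37, 39, 38, 32, 33, 24, 25, 17, 0, 20, 21, 31, 30, 22, 23, 27, 26, 18, 19, 28, 29],
  [52, 61, 60, 18, 19, 36, 37, 23, 22, 47, 46, 56, 57, 43, 42, 32, 33, 53, 3, 4, 51, 50, 8, 7, 45, 44, 29, 28, 27, 26, 35, 34, 15, 16, 31, 30, 5, 6, 48, 49, 54, 55, 14, 13, 25, 24, 10, 9, 38, 39, 21, 20, 0, 17, 40, 41, 11, 12, 62, 63, 2, 1, 58, 59],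
  [53, 3, 4, 1, 2, 37, 36, 39, 38, 35, 34, 45, 44, 42, 43, 40, 41, 52, 61, 60, 50, 51, 48, 49, 56, 57, 58, 59, 63, 62, 47, 46, 54, 55, 10, 9, 6, 5, 8, 7, 15, 16, 13, 14, 12, 11, 31, 30, 22, 23, 20, 21, 17, 0, 32, 33, 24, 25, 26, 27, 19, 18, 29, 28],
  [54, 7, 8, 11, 12, 15, 16, 4, 3, 6, 5, 2, 1, 9, 10, 14, 13, 55, 22, 23, 40, 41, 60, 61, 28, 29, 44, 45, 48, 49, 17, 0, 36, 37, 20, 21, 46, 47, 27, 26, 52, 53, 32, 33, 59, 58, 42, 43, 62, 63, 30, 31, 34, 35, 51, 50, 18, 19, 38, 39, 56, 57, 24, 25],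
  [55, 22, 23, 57, 56, 16, 15, 63, 62, 17, 0, 28, 29, 10, 9, 51, 50, 54, 7, 8, 41, 40, 27, 26, 2, 1, 24, 25, 39, 38, 6, 5, 52, 53, 42, 43, 47, 46, 60, 61, 36, 37, 33, 32, 19, 18, 20, 21, 3, 4, 31, 30, 35, 34, 14, 13, 58, 59, 49, 48, 12, 11, 44, 45],
  [56, 30, 31, 54, 55, 48, 49, 14, 13, 60, 61, 6, 5, 25, 24, 19, 18, 57, 34, 35, 11, 12, 37, 36, 53, 52, 9, 10, 32, 33, 28, 29, 1, 2, 59, 58, 45, 44, 17, 0, 26, 27, 38, 39, 51, 50, 4, 3, 21, 20, 23, 22, 8, 7, 63, 62, 43, 42, 15, 16, 40, 41, 46, 47],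
  [57, 34, 35, 41, 40, 49, 48, 20, 21, 28, 29, 53, 52, 24, 25, 63, 62, 56, 30, 31, 12, 11, 17, 0, 6, 5, 46, 47, 16, 15, 60, 61, 26, 27, 4, 3, 44, 45, 37, 36, 1, 2, 39, 38, 42, 43, 59, 58, 13, 14, 22, 23, 7, 8, 19, 18, 50, 51, 33, 32, 55, 54, 9, 10],
  [58, 6, 5, 14, 13, 3, 4, 9, 10, 12, 11, 15, 16, 1, 2, 8, 7, 59, 42, 43, 28, 29, 46, 47, 34, 35, 17, 0, 52, 53, 39, 38, 22, 23, 48, 49, 18, 19, 54, 55, 24, 25, 60, 61, 30, 31, 56, 57, 40, 41, 26, 27, 62, 63, 45, 44, 32, 33, 51, 50, 36, 37, 20, 21],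
  [59, 42, 43, 37, 36, 4, 3, 41, 40, 39, 38, 34, 35, 2, 1, 45, 44, 58, 6, 5, 29, 28, 54, 55, 15, 16, 20, 21, 50, 51, 12, 11, 24, 25, 56, 57, 19, 18, 46, 47, 22, 23, 61, 60, 33, 32, 48, 49, 10, 9, 27, 26, 63, 62, 8, 7, 31, 30, 53, 52, 13, 14, 17, 0],
  [60, 50, 51, 0, 17, 28, 29, 15, 16, 22, 23, 9, 10, 63, 62, 57, 56, 61, 52, 53, 3, 4, 33, 32, 41, 40, 13, 14, 42, 43, 24, 25, 12, 11, 44, 45, 27, 26, 30, 31, 39, 38, 58, 59, 54, 55, 7, 8, 35, 34, 19, 18, 2, 1, 49, 48, 47, 46, 5, 6, 20, 21, 36, 37],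
  [61, 52, 53, 21, 20, 29, 28, 34, 35, 24, 25, 41, 40, 62, 63, 49, 48, 60, 50, 51, 4, 3, 30, 31, 9, 10, 36, 37, 6, 5, 22, 23, 39, 38, 7, 8, 26, 27, 33, 32, 12, 11, 59, 58, 46, 47, 44, 45, 16, 15, 18, 19, 1, 2, 57, 56, 55, 54, 43, 42, 17, 0, 13, 14],
  [62, 37, 36, 42, 43, 18, 19, 47, 46, 57, 56, 32, 33, 61, 60, 22, 23, 63, 14, 13, 27, 26, 10, 9, 31, 30, 53, 52, 0, 17, 49, 48, 8, 7, 38, 39, 3, 4, 40, 41, 45, 44, 2, 1, 35, 34, 11, 12, 54, 55, 29, 28, 58, 59, 24, 25, 15, 16, 20, 21, 5, 6, 51, 50],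
  [63, 14, 13, 6, 5, 19, 18, 55, 54, 49, 48, 31, 30, 60, 61, 24, 25, 62, 37, 36, 26, 27, 40, 41, 32, 33, 51, 50, 21, 20, 57, 56, 45, 44, 11, 12, 4, 3, 10, 9, 8, 7, 1, 2, 16, 15, 38, 39, 46, 47, 28, 29, 59, 58, 22, 23, 34, 35, 17, 0, 43, 42, 53, 52]]

/-- Square roots of the involutions. -/
def sqList : List Mir := [
  ((1, 0, 0, 0), (0, 1, 0, 0), (0, 0, 1, 0), (0, 0, 0, 1)),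
  ((0, 1, 1, 1), (2, 1, 1, 0), (2, 0, 1, 0), (2, 2, 1, 1)),
  ((1, 0, 0, 0), (0, 1, 0, 0), (0, 0, 1, 0), (0, 0, 0, 1)),
  ((1, 0, 0, 0), (0, 1, 0, 0), (0, 0, 1, 0), (0, 0, 0, 1)),
  ((0, 0, 0, 1), (1, 0, 2, 0), (1, 2, 2, 1), (0, 0, 1, 1)),
  ((0, 0, 1, 1), (2, 1, 1, 1), (1, 1, 1, 0), (2, 1, 2, 0)),
  ((0, 1, 1, 1), (1, 0, 2, 1), (2, 0, 1, 0), (0, 2, 0, 2)),
  ((0, 1, 1, 1), (0, 1, 0, 1), (2, 0, 1, 0), (1, 0, 2, 1)),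
  ((1, 0, 0, 0), (0, 1, 0, 0), (0, 0, 1, 0), (0, 0, 0, 1)),
  ((1, 0, 0, 0), (0, 1, 0, 0), (0, 0, 1, 0), (0, 0, 0, 1)),
  ((1, 0, 0, 0), (0, 1, 0, 0), (0, 0, 1, 0), (0, 0, 0, 1)),
  ((1, 0, 0, 0), (0, 1, 0, 0), (0, 0, 1, 0), (0, 0, 0, 1)),
  ((0, 0, 1, 2), (0, 0, 0, 1), (2, 0, 0, 2), (2, 2, 2, 0)),
  ((0, 0, 1, 2), (2, 2, 1, 2), (2, 0, 0, 1), (2, 2, 1, 1)),
  ((0, 0, 1, 1), (0, 0, 0, 1), (2, 0, 1, 1), (1, 2, 0, 2)),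
  ((1, 0, 0, 0), (0, 1, 0, 0), (0, 0, 1, 0), (0, 0, 0, 1)),
  ((1, 0, 0, 0), (0, 1, 0, 0), (0, 0, 1, 0), (0, 0, 0, 1)),
  ((0, 1, 2, 0), (0, 1, 0, 0), (1, 1, 0, 0), (2, 1, 2, 1)),
  ((1, 0, 0, 0), (0, 1, 0, 0), (0, 0, 1, 0), (0, 0, 0, 1)),
  ((0, 0, 0, 1), (0, 0, 2, 1), (2, 2, 2, 0), (1, 0, 0, 1)),
  ((0, 0, 0, 1), (0, 0, 2, 2), (1, 2, 1, 1), (1, 0, 0, 2)),
  ((0, 0, 1, 0), (0, 1, 2, 2), (2, 0, 0, 1), (0, 0, 0, 1)),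
  ((1, 0, 0, 0), (0, 1, 0, 0), (0, 0, 1, 0), (0, 0, 0, 1)),
  ((1, 0, 0, 0), (0, 1, 0, 0), (0, 0, 1, 0), (0, 0, 0, 1)),
  ((0, 0, 1, 0), (0, 1, 1, 1), (2, 0, 2, 2), (0, 2, 2, 0)),
  ((1, 0, 0, 0), (0, 1, 0, 0), (0, 0, 1, 0), (0, 0, 0, 1)),
  ((1, 0, 0, 0), (0, 1, 0, 0), (0, 0, 1, 0), (0, 0, 0, 1)),
  ((1, 0, 0, 0), (0, 1, 0, 0), (0, 0, 1, 0), (0, 0, 0, 1)),
  ((1, 0, 0, 0), (0, 1, 0, 0), (0, 0, 1, 0), (0, 0, 0, 1)),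
  ((1, 0, 0, 0), (0, 1, 0, 0), (0, 0, 1, 0), (0, 0, 0, 1)),
  ((1, 0, 0, 0), (0, 1, 0, 0), (0, 0, 1, 0), (0, 0, 0, 1)),
  ((1, 0, 0, 0), (0, 1, 0, 0), (0, 0, 1, 0), (0, 0, 0, 1)),
  ((1, 0, 0, 0), (0, 1, 0, 0), (0, 0, 1, 0), (0, 0, 0, 1)),
  ((0, 0, 1, 0), (0, 1, 2, 0), (2, 0, 1, 1), (0, 2, 1, 1)),
  ((0, 1, 0, 0), (1, 1, 0, 0), (0, 0, 2, 1), (2, 2, 1, 0)),
  ((1, 0, 0, 0), (0, 1, 0, 0), (0, 0, 1, 0), (0, 0, 0, 1)),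
  ((0, 0, 1, 0), (0, 0, 1, 2), (2, 2, 0, 1), (0, 1, 1, 1)),
  ((0, 1, 0, 2), (0, 1, 1, 2), (1, 0, 2, 1), (2, 0, 1, 0)),
  ((1, 0, 0, 0), (0, 1, 0, 0), (0, 0, 1, 0), (0, 0, 0, 1)),
  ((1, 0, 0, 0), (0, 1, 0, 0), (0, 0, 1, 0), (0, 0, 0, 1)),
  ((0, 0, 1, 0), (0, 2, 1, 0), (2, 2, 2, 1), (0, 2, 2, 2)),
  ((1, 0, 0, 0), (0, 1, 0, 0), (0, 0, 1, 0), (0, 0, 0, 1)),
  ((0, 0, 1, 1), (1, 2, 2, 2), (0, 2, 2, 1), (1, 2, 0, 2)),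
  ((0, 0, 1, 0), (0, 0, 2, 1), (2, 2, 1, 0), (0, 2, 1, 2)),
  ((1, 0, 0, 0), (0, 1, 0, 0), (0, 0, 1, 0), (0, 0, 0, 1)),
  ((1, 0, 0, 0), (0, 1, 0, 0), (0, 0, 1, 0), (0, 0, 0, 1)),
  ((1, 0, 0, 0), (0, 1, 0, 0), (0, 0, 1, 0), (0, 0, 0, 1)),
  ((0, 1, 0, 0), (1, 2, 0, 0), (0, 2, 1, 1), (2, 1, 1, 0)),
  ((0, 1, 0, 2), (0, 2, 1, 1), (2, 1, 1, 0), (2, 0, 1, 0)),
  ((1, 0, 0, 0), (0, 1, 0, 0), (0, 0, 1, 0), (0, 0, 0, 1)),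
  ((0, 0, 1, 0), (0, 2, 0, 2), (2, 1, 0, 1), (0, 2, 2, 1)),
  ((0, 1, 1, 1), (1, 0, 2, 1), (2, 2, 0, 2), (2, 2, 1, 1)),
  ((0, 0, 1, 0), (0, 2, 1, 1), (2, 1, 2, 0), (0, 0, 2, 2)),
  ((0, 1, 0, 0), (1, 2, 1, 0), (0, 0, 1, 1), (0, 0, 1, 0)),
  ((1, 0, 0, 0), (0, 1, 0, 0), (0, 0, 1, 0), (0, 0, 0, 1)),
  ((1, 0, 0, 0), (0, 1, 0, 0), (0, 0, 1, 0), (0, 0, 0, 1)),
  ((1, 0, 0, 0), (0, 1, 0, 0), (0, 0, 1, 0), (0, 0, 0, 1)),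
  ((1, 0, 0, 0), (0, 1, 0, 0), (0, 0, 1, 0), (0, 0, 0, 1)),
  ((1, 0, 0, 0), (0, 1, 0, 0), (0, 0, 1, 0), (0, 0, 0, 1)),
  ((1, 0, 0, 0), (0, 1, 0, 0), (0, 0, 1, 0), (0, 0, 0, 1)),
  ((1, 0, 0, 0), (0, 1, 0, 0), (0, 0, 1, 0), (0, 0, 0, 1)),
  ((0, 0, 1, 0), (0, 1, 2, 1), (2, 1, 1, 2), (0, 0, 1, 1)),
  ((1, 0, 0, 0), (0, 1, 0, 0), (0, 0, 1, 0), (0, 0, 0, 1)),
  ((1, 0, 0, 0), (0, 1, 0, 0), (0, 0, 1, 0), (0, 0, 0, 1))]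

/-- Movers of the cyclic groups of order four. -/
def cycList : List (Mir × Mir × Mir) := [
  (((1, 0, 0, 0), (0, 1, 0, 0), (0, 0, 1, 0), (0, 0, 0, 1)), ((1, 0, 0, 0), (0, 1, 0, 0), (0, 0, 1, 0), (0, 0, 0, 1)), ((1, 0, 0, 0), (0, 1, 0, 0), (0, 0, 1, 0), (0, 0, 0, 1))),
  (((1, 0, 0, 0), (0, 1, 0, 0), (0, 0, 1, 0), (0, 0, 0, 1)), ((1, 0, 0, 0), (0, 1, 0, 0), (0, 0, 1, 0), (0, 0, 0, 1)), ((1, 0, 0, 0), (0, 1, 0, 0), (0, 0, 1, 0), (0, 0, 0, 1))),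
  (((0, 0, 0, 1), (0, 0, 1, 1), (1, 2, 0, 0), (2, 0, 0, 0)), ((0, 0, 0, 1), (0, 0, 1, 1), (1, 2, 0, 0), (2, 0, 0, 0)), ((0, 0, 0, 1), (1, 0, 2, 0), (2, 2, 1, 1), (1, 0, 0, 2))),
  (((0, 0, 0, 1), (0, 0, 1, 1), (1, 2, 0, 0), (2, 0, 0, 0)), ((0, 0, 0, 1), (0, 0, 1, 1), (1, 2, 0, 0), (2, 0, 0, 0)), ((0, 0, 0, 1), (1, 0, 2, 0), (2, 2, 1, 1), (1, 0, 0, 2))),
  (((1, 0, 0, 0), (0, 1, 0, 0), (0, 0, 1, 0), (0, 0, 0, 1)), ((1, 0, 0, 0), (0, 1, 0, 0), (0, 0, 1, 0), (0, 0, 0, 1)), ((1, 0, 0, 0), (0, 1, 0, 0), (0, 0, 1, 0), (0, 0, 0, 1))),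
  (((1, 0, 0, 0), (0, 1, 0, 0), (0, 0, 1, 0), (0, 0, 0, 1)), ((1, 0, 0, 0), (0, 1, 0, 0), (0, 0, 1, 0), (0, 0, 0, 1)), ((1, 0, 0, 0), (0, 1, 0, 0), (0, 0, 1, 0), (0, 0, 0, 1))),
  (((1, 0, 0, 0), (0, 1, 0, 0), (0, 0, 1, 0), (0, 0, 0, 1)), ((1, 0, 0, 0), (0, 1, 0, 0), (0, 0, 1, 0), (0, 0, 0, 1)), ((1, 0, 0, 0), (0, 1, 0, 0), (0, 0, 1, 0), (0, 0, 0, 1))),
  (((1, 0, 0, 0), (0, 1, 0, 0), (0, 0, 1, 0), (0, 0, 0, 1)), ((1, 0, 0, 0), (0, 1, 0, 0), (0, 0, 1, 0), (0, 0, 0, 1)), ((1, 0, 0, 0), (0, 1, 0, 0), (0, 0, 1, 0), (0, 0, 0, 1))),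
  (((0, 1, 0, 0), (0, 1, 2, 0), (2, 0, 2, 1), (1, 1, 0, 0)), ((1, 0, 0, 2), (2, 0, 0, 0), (2, 1, 0, 0), (0, 1, 2, 2)), ((0, 1, 0, 0), (1, 0, 0, 0), (0, 1, 0, 1), (2, 0, 1, 0))),
  (((0, 0, 0, 1), (1, 0, 0, 1), (2, 2, 2, 2), (2, 0, 1, 1)), ((1, 2, 0, 0), (1, 2, 1, 1), (2, 2, 0, 2), (2, 0, 0, 0)), ((0, 0, 0, 1), (1, 0, 0, 2), (2, 2, 1, 2), (2, 0, 1, 0))),
  (((0, 0, 1, 0), (0, 1, 0, 1), (2, 0, 0, 0), (0, 1, 0, 2)), ((0, 0, 1, 0), (0, 1, 0, 1), (2, 0, 0, 0), (0, 1, 0, 2)), ((0, 0, 1, 0), (0, 1, 1, 0), (2, 0, 1, 2), (0, 0, 0, 1))),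
  (((0, 1, 0, 0), (0, 1, 2, 0), (2, 0, 2, 1), (1, 1, 0, 0)), ((1, 0, 0, 2), (2, 0, 0, 0), (2, 1, 0, 0), (0, 1, 2, 2)), ((0, 1, 0, 0), (1, 0, 0, 0), (0, 1, 0, 1), (2, 0, 1, 0))),
  (((1, 0, 0, 0), (0, 1, 0, 0), (0, 0, 1, 0), (0, 0, 0, 1)), ((1, 0, 0, 0), (0, 1, 0, 0), (0, 0, 1, 0), (0, 0, 0, 1)), ((1, 0, 0, 0), (0, 1, 0, 0), (0, 0, 1, 0), (0, 0, 0, 1))),
  (((1, 0, 0, 0), (0, 1, 0, 0), (0, 0, 1, 0), (0, 0, 0, 1)), ((1, 0, 0, 0), (0, 1, 0, 0), (0, 0, 1, 0), (0, 0, 0, 1)), ((1, 0, 0, 0), (0, 1, 0, 0), (0, 0, 1, 0), (0, 0, 0, 1))),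
  (((1, 0, 0, 0), (0, 1, 0, 0), (0, 0, 1, 0), (0, 0, 0, 1)), ((1, 0, 0, 0), (0, 1, 0, 0), (0, 0, 1, 0), (0, 0, 0, 1)), ((1, 0, 0, 0), (0, 1, 0, 0), (0, 0, 1, 0), (0, 0, 0, 1))),
  (((0, 0, 1, 0), (0, 1, 0, 1), (2, 0, 0, 0), (0, 1, 0, 2)), ((0, 0, 1, 0), (0, 1, 0, 1), (2, 0, 0, 0), (0, 1, 0, 2)), ((0, 0, 1, 0), (0, 1, 1, 0), (2, 0, 1, 2), (0, 0, 0, 1))),
  (((0, 0, 0, 1), (1, 0, 0, 1), (2, 2, 2, 2), (2, 0, 1, 1)), ((1, 2, 0, 0), (1, 2, 1, 1), (2, 2, 0, 2), (2, 0, 0, 0)), ((0, 0, 0, 1), (1, 0, 0, 2), (2, 2, 1, 2), (2, 0, 1, 0))),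
  (((1, 0, 0, 0), (0, 1, 0, 0), (0, 0, 1, 0), (0, 0, 0, 1)), ((1, 0, 0, 0), (0, 1, 0, 0), (0, 0, 1, 0), (0, 0, 0, 1)), ((1, 0, 0, 0), (0, 1, 0, 0), (0, 0, 1, 0), (0, 0, 0, 1))),
  (((0, 0, 0, 1), (0, 0, 1, 1), (1, 2, 0, 0), (2, 0, 0, 0)), ((0, 0, 0, 1), (0, 0, 1, 1), (1, 2, 0, 0), (2, 0, 0, 0)), ((0, 0, 0, 1), (1, 0, 2, 0), (2, 2, 1, 1), (1, 0, 0, 2))),
  (((1, 0, 0, 0), (0, 1, 0, 0), (0, 0, 1, 0), (0, 0, 0, 1)), ((1, 0, 0, 0), (0, 1, 0, 0), (0, 0, 1, 0), (0, 0, 0, 1)), ((1, 0, 0, 0), (0, 1, 0, 0), (0, 0, 1, 0), (0, 0, 0, 1))),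
  (((1, 0, 0, 0), (0, 1, 0, 0), (0, 0, 1, 0), (0, 0, 0, 1)), ((1, 0, 0, 0), (0, 1, 0, 0), (0, 0, 1, 0), (0, 0, 0, 1)), ((1, 0, 0, 0), (0, 1, 0, 0), (0, 0, 1, 0), (0, 0, 0, 1))),
  (((1, 0, 0, 0), (0, 1, 0, 0), (0, 0, 1, 0), (0, 0, 0, 1)), ((1, 0, 0, 0), (0, 1, 0, 0), (0, 0, 1, 0), (0, 0, 0, 1)), ((1, 0, 0, 0), (0, 1, 0, 0), (0, 0, 1, 0), (0, 0, 0, 1))),
  (((0, 0, 1, 0), (0, 0, 1, 2), (2, 2, 0, 1), (0, 1, 1, 1)), ((0, 1, 2, 2), (1, 1, 0, 1), (1, 0, 0, 0), (1, 2, 0, 0)), ((0, 0, 1, 0), (0, 0, 2, 1), (2, 2, 1, 0), (0, 2, 1, 2))),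
  (((0, 0, 0, 1), (1, 0, 0, 1), (2, 2, 2, 2), (2, 0, 1, 1)), ((1, 2, 0, 0), (1, 2, 1, 1), (2, 2, 0, 2), (2, 0, 0, 0)), ((0, 0, 0, 1), (1, 0, 0, 2), (2, 2, 1, 2), (2, 0, 1, 0))),
  (((1, 0, 0, 0), (0, 1, 0, 0), (0, 0, 1, 0), (0, 0, 0, 1)), ((1, 0, 0, 0), (0, 1, 0, 0), (0, 0, 1, 0), (0, 0, 0, 1)), ((1, 0, 0, 0), (0, 1, 0, 0), (0, 0, 1, 0), (0, 0, 0, 1))),
  (((0, 1, 0, 0), (0, 1, 2, 0), (2, 0, 2, 1), (1, 1, 0, 0)), ((1, 0, 0, 2), (2, 0, 0, 0), (2, 1, 0, 0), (0, 1, 2, 2)), ((0, 1, 0, 0), (1, 0, 0, 0), (0, 1, 0, 1), (2, 0, 1, 0))),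
  (((0, 0, 0, 1), (1, 0, 2, 0), (2, 2, 1, 0), (0, 0, 1, 2)), ((1, 1, 0, 1), (0, 2, 2, 0), (1, 0, 0, 1), (1, 0, 0, 0)), ((0, 0, 0, 1), (2, 0, 1, 0), (0, 2, 0, 0), (0, 0, 2, 0))),
  (((0, 0, 0, 1), (1, 0, 0, 0), (2, 2, 0, 2), (2, 0, 1, 2)), ((0, 1, 0, 0), (2, 2, 2, 0), (1, 1, 0, 1), (1, 0, 0, 0)), ((0, 0, 0, 1), (1, 0, 0, 1), (2, 2, 2, 2), (2, 0, 1, 1))),
  (((0, 0, 0, 1), (1, 0, 0, 1), (2, 2, 2, 2), (2, 0, 1, 1)), ((1, 2, 0, 0), (1, 2, 1, 1), (2, 2, 0, 2), (2, 0, 0, 0)), ((0, 0, 0, 1), (1, 0, 0, 2), (2, 2, 1, 2), (2, 0, 1, 0))),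
  (((0, 0, 0, 1), (1, 0, 2, 0), (2, 2, 1, 0), (0, 0, 1, 2)), ((1, 1, 0, 1), (0, 2, 2, 0), (1, 0, 0, 1), (1, 0, 0, 0)), ((0, 0, 0, 1), (2, 0, 1, 0), (0, 2, 0, 0), (0, 0, 2, 0))),
  (((0, 0, 1, 0), (0, 1, 0, 1), (2, 0, 0, 0), (0, 1, 0, 2)), ((0, 0, 1, 0), (0, 1, 0, 1), (2, 0, 0, 0), (0, 1, 0, 2)), ((0, 0, 1, 0), (0, 1, 1, 0), (2, 0, 1, 2), (0, 0, 0, 1))),
  (((0, 0, 0, 1), (1, 0, 0, 0), (2, 2, 0, 2), (2, 0, 1, 2)), ((0, 1, 0, 0), (2, 2, 2, 0), (1, 1, 0, 1), (1, 0, 0, 0)), ((0, 0, 0, 1), (1, 0, 0, 1), (2, 2, 2, 2), (2, 0, 1, 1))),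
  (((0, 1, 0, 0), (1, 0, 0, 0), (0, 0, 0, 1), (1, 0, 1, 0)), ((0, 1, 0, 0), (1, 0, 0, 0), (0, 2, 0, 1), (0, 0, 1, 0)), ((0, 1, 0, 0), (1, 0, 0, 0), (0, 2, 0, 1), (0, 0, 1, 0))),
  (((1, 0, 0, 0), (0, 1, 0, 0), (0, 0, 1, 0), (0, 0, 0, 1)), ((1, 0, 0, 0), (0, 1, 0, 0), (0, 0, 1, 0), (0, 0, 0, 1)), ((1, 0, 0, 0), (0, 1, 0, 0), (0, 0, 1, 0), (0, 0, 0, 1))),
  (((1, 0, 0, 0), (0, 1, 0, 0), (0, 0, 1, 0), (0, 0, 0, 1)), ((1, 0, 0, 0), (0, 1, 0, 0), (0, 0, 1, 0), (0, 0, 0, 1)), ((1, 0, 0, 0), (0, 1, 0, 0), (0, 0, 1, 0), (0, 0, 0, 1))),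
  (((0, 1, 0, 0), (1, 0, 0, 0), (0, 0, 0, 1), (1, 0, 1, 0)), ((0, 1, 0, 0), (1, 0, 0, 0), (0, 2, 0, 1), (0, 0, 1, 0)), ((0, 1, 0, 0), (1, 0, 0, 0), (0, 2, 0, 1), (0, 0, 1, 0))),
  (((1, 0, 0, 0), (0, 1, 0, 0), (0, 0, 1, 0), (0, 0, 0, 1)), ((1, 0, 0, 0), (0, 1, 0, 0), (0, 0, 1, 0), (0, 0, 0, 1)), ((1, 0, 0, 0), (0, 1, 0, 0), (0, 0, 1, 0), (0, 0, 0, 1))),
  (((1, 0, 0, 0), (0, 1, 0, 0), (0, 0, 1, 0), (0, 0, 0, 1)), ((1, 0, 0, 0), (0, 1, 0, 0), (0, 0, 1, 0), (0, 0, 0, 1)), ((1, 0, 0, 0), (0, 1, 0, 0), (0, 0, 1, 0), (0, 0, 0, 1))),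
  (((0, 0, 0, 1), (1, 0, 0, 0), (2, 2, 0, 2), (2, 0, 1, 2)), ((0, 1, 0, 0), (2, 2, 2, 0), (1, 1, 0, 1), (1, 0, 0, 0)), ((0, 0, 0, 1), (1, 0, 0, 1), (2, 2, 2, 2), (2, 0, 1, 1))),
  (((0, 0, 1, 0), (0, 0, 1, 2), (2, 2, 0, 1), (0, 1, 1, 1)), ((0, 1, 2, 2), (1, 1, 0, 1), (1, 0, 0, 0), (1, 2, 0, 0)), ((0, 0, 1, 0), (0, 0, 2, 1), (2, 2, 1, 0), (0, 2, 1, 2))),
  (((1, 0, 0, 0), (0, 1, 0, 0), (0, 0, 1, 0), (0, 0, 0, 1)), ((1, 0, 0, 0), (0, 1, 0, 0), (0, 0, 1, 0), (0, 0, 0, 1)), ((1, 0, 0, 0), (0, 1, 0, 0), (0, 0, 1, 0), (0, 0, 0, 1))),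
  (((0, 1, 0, 0), (1, 0, 0, 0), (0, 0, 0, 1), (1, 0, 1, 0)), ((0, 1, 0, 0), (1, 0, 0, 0), (0, 2, 0, 1), (0, 0, 1, 0)), ((0, 1, 0, 0), (1, 0, 0, 0), (0, 2, 0, 1), (0, 0, 1, 0))),
  (((1, 0, 0, 0), (0, 1, 0, 0), (0, 0, 1, 0), (0, 0, 0, 1)), ((1, 0, 0, 0), (0, 1, 0, 0), (0, 0, 1, 0), (0, 0, 0, 1)), ((1, 0, 0, 0), (0, 1, 0, 0), (0, 0, 1, 0), (0, 0, 0, 1))),
  (((1, 0, 0, 0), (0, 1, 0, 0), (0, 0, 1, 0), (0, 0, 0, 1)), ((1, 0, 0, 0), (0, 1, 0, 0), (0, 0, 1, 0), (0, 0, 0, 1)), ((1, 0, 0, 0), (0, 1, 0, 0), (0, 0, 1, 0), (0, 0, 0, 1))),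
  (((0, 0, 1, 0), (0, 0, 1, 2), (2, 2, 0, 1), (0, 1, 1, 1)), ((0, 1, 2, 2), (1, 1, 0, 1), (1, 0, 0, 0), (1, 2, 0, 0)), ((0, 0, 1, 0), (0, 0, 2, 1), (2, 2, 1, 0), (0, 2, 1, 2))),
  (((0, 0, 0, 1), (1, 0, 0, 0), (2, 2, 0, 2), (2, 0, 1, 2)), ((0, 1, 0, 0), (2, 2, 2, 0), (1, 1, 0, 1), (1, 0, 0, 0)), ((0, 0, 0, 1), (1, 0, 0, 1), (2, 2, 2, 2), (2, 0, 1, 1))),
  (((0, 1, 0, 0), (1, 0, 0, 0), (0, 0, 0, 1), (1, 0, 1, 0)), ((0, 1, 0, 0), (1, 0, 0, 0), (0, 2, 0, 1), (0, 0, 1, 0)), ((0, 1, 0, 0), (1, 0, 0, 0), (0, 2, 0, 1), (0, 0, 1, 0))),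
  (((1, 0, 0, 0), (0, 1, 0, 0), (0, 0, 1, 0), (0, 0, 0, 1)), ((1, 0, 0, 0), (0, 1, 0, 0), (0, 0, 1, 0), (0, 0, 0, 1)), ((1, 0, 0, 0), (0, 1, 0, 0), (0, 0, 1, 0), (0, 0, 0, 1))),
  (((1, 0, 0, 0), (0, 1, 0, 0), (0, 0, 1, 0), (0, 0, 0, 1)), ((1, 0, 0, 0), (0, 1, 0, 0), (0, 0, 1, 0), (0, 0, 0, 1)), ((1, 0, 0, 0), (0, 1, 0, 0), (0, 0, 1, 0), (0, 0, 0, 1))),
  (((0, 1, 0, 0), (0, 1, 2, 0), (2, 0, 2, 1), (1, 1, 0, 0)), ((1, 0, 0, 2), (2, 0, 0, 0), (2, 1, 0, 0), (0, 1, 2, 2)), ((0, 1, 0, 0), (1, 0, 0, 0), (0, 1, 0, 1), (2, 0, 1, 0))),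
  (((1, 0, 0, 0), (0, 1, 0, 0), (0, 0, 1, 0), (0, 0, 0, 1)), ((1, 0, 0, 0), (0, 1, 0, 0), (0, 0, 1, 0), (0, 0, 0, 1)), ((1, 0, 0, 0), (0, 1, 0, 0), (0, 0, 1, 0), (0, 0, 0, 1))),
  (((1, 0, 0, 0), (0, 1, 0, 0), (0, 0, 1, 0), (0, 0, 0, 1)), ((1, 0, 0, 0), (0, 1, 0, 0), (0, 0, 1, 0), (0, 0, 0, 1)), ((1, 0, 0, 0), (0, 1, 0, 0), (0, 0, 1, 0), (0, 0, 0, 1))),
  (((1, 0, 0, 0), (0, 1, 0, 0), (0, 0, 1, 0), (0, 0, 0, 1)), ((1, 0, 0, 0), (0, 1, 0, 0), (0, 0, 1, 0), (0, 0, 0, 1)), ((1, 0, 0, 0), (0, 1, 0, 0), (0, 0, 1, 0), (0, 0, 0, 1))),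
  (((1, 0, 0, 0), (0, 1, 0, 0), (0, 0, 1, 0), (0, 0, 0, 1)), ((1, 0, 0, 0), (0, 1, 0, 0), (0, 0, 1, 0), (0, 0, 0, 1)), ((1, 0, 0, 0), (0, 1, 0, 0), (0, 0, 1, 0), (0, 0, 0, 1))),
  (((0, 0, 0, 1), (1, 0, 0, 0), (2, 2, 0, 2), (2, 0, 1, 2)), ((0, 1, 0, 0), (2, 2, 2, 0), (1, 1, 0, 1), (1, 0, 0, 0)), ((0, 0, 0, 1), (1, 0, 0, 1), (2, 2, 2, 2), (2, 0, 1, 1))),
  (((0, 0, 1, 0), (0, 1, 0, 1), (2, 0, 0, 0), (0, 1, 0, 2)), ((0, 0, 1, 0), (0, 1, 0, 1), (2, 0, 0, 0), (0, 1, 0, 2)), ((0, 0, 1, 0), (0, 1, 1, 0), (2, 0, 1, 2), (0, 0, 0, 1))),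
  (((0, 0, 1, 0), (0, 0, 1, 2), (2, 2, 0, 1), (0, 1, 1, 1)), ((0, 1, 2, 2), (1, 1, 0, 1), (1, 0, 0, 0), (1, 2, 0, 0)), ((0, 0, 1, 0), (0, 0, 2, 1), (2, 2, 1, 0), (0, 2, 1, 2))),
  (((0, 0, 0, 1), (1, 0, 0, 1), (2, 2, 2, 2), (2, 0, 1, 1)), ((1, 2, 0, 0), (1, 2, 1, 1), (2, 2, 0, 2), (2, 0, 0, 0)), ((0, 0, 0, 1), (1, 0, 0, 2), (2, 2, 1, 2), (2, 0, 1, 0))),
  (((0, 0, 0, 1), (1, 0, 0, 0), (2, 2, 0, 2), (2, 0, 1, 2)), ((0, 1, 0, 0), (2, 2, 2, 0), (1, 1, 0, 1), (1, 0, 0, 0)), ((0, 0, 0, 1), (1, 0, 0, 1), (2, 2, 2, 2), (2, 0, 1, 1))),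
  (((0, 0, 0, 1), (1, 0, 2, 0), (2, 2, 1, 0), (0, 0, 1, 2)), ((1, 1, 0, 1), (0, 2, 2, 0), (1, 0, 0, 1), (1, 0, 0, 0)), ((0, 0, 0, 1), (2, 0, 1, 0), (0, 2, 0, 0), (0, 0, 2, 0))),
  (((0, 0, 0, 1), (0, 0, 1, 1), (1, 2, 0, 0), (2, 0, 0, 0)), ((0, 0, 0, 1), (0, 0, 1, 1), (1, 2, 0, 0), (2, 0, 0, 0)), ((0, 0, 0, 1), (1, 0, 2, 0), (2, 2, 1, 1), (1, 0, 0, 2))),
  (((1, 0, 0, 0), (0, 1, 0, 0), (0, 0, 1, 0), (0, 0, 0, 1)), ((1, 0, 0, 0), (0, 1, 0, 0), (0, 0, 1, 0), (0, 0, 0, 1)), ((1, 0, 0, 0), (0, 1, 0, 0), (0, 0, 1, 0), (0, 0, 0, 1))),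
  (((0, 0, 0, 1), (1, 0, 0, 1), (2, 2, 2, 2), (2, 0, 1, 1)), ((1, 2, 0, 0), (1, 2, 1, 1), (2, 2, 0, 2), (2, 0, 0, 0)), ((0, 0, 0, 1), (1, 0, 0, 2), (2, 2, 1, 2), (2, 0, 1, 0))),
  (((0, 0, 0, 1), (1, 0, 2, 0), (2, 2, 1, 0), (0, 0, 1, 2)), ((1, 1, 0, 1), (0, 2, 2, 0), (1, 0, 0, 1), (1, 0, 0, 0)), ((0, 0, 0, 1), (2, 0, 1, 0), (0, 2, 0, 0), (0, 0, 2, 0)))]

end H55.U6C.Psp
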