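import Cfsg.Agent.H55.U6C.Five

/-!
An involution of the quotient has commutator of dimension two on the core.
-/

set_option autoImplicit false

namespace H55.U6C

open H38.U6C

variable {G : Type*} [Group G] {F : Type*} [Field F] [Fintype F] {z : G} {J U : Subgroup G}
  {π : ↥(Subgroup.centralizer ({z} : Set G)) →* Cfsg.PSp 2 F}

namespace Core

/-- Products respect equality up to the centre. -/
theorem eqz_mul (c : Core z J) {x y a b' : G} (h1 : Eqz z x a) (h2 : Eqz z y b') (hb : Commute b' z) :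
    Eqz z (x * y) (a * b') :=
  c.eqz_trans (c.eqz_mul_left h2 _) (c.eqz_mul_right hb h1)

theorem eqz_swap (c : Core z J) {a b : G} (ha : a ∈ J) (hb : b ∈ J) : Eqz z (a * b) (b * a) :=
  (c.comm_mem a ha b hb)

theorem sq_eqz (c : Core z J) {a : G} (ha : a ∈ J) : Eqz z (a * a) 1 :=
  (c.sq_mem a ha).imp id fun e => e.trans (one_mul z).symm

/-- The commutator with `g`, twice, is the commutator with the square. -/
theorem eqz_twice (c : Core z J) {g k : G} (hg : Commute g z) (hk : k ∈ J) :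
    Eqz z (g * (g * k * g⁻¹ * k⁻¹) * g⁻¹ * (g * k * g⁻¹ * k⁻¹)⁻¹)
      (g * g * k * (g * g)⁻¹ * k⁻¹) := by
  set p := g * g * k * (g * g)⁻¹ with hp
  set q := g * k * g⁻¹ with hq
  have hqJ : q ∈ J := c.conj_mem g hg k hk
  have hpJ : p ∈ J := c.conj_mem _ (hg.mul_left hg) k hk
  have e : g * (g * k * g⁻¹ * k⁻¹) * g⁻¹ * (g * k * g⁻¹ * k⁻¹)⁻¹ = p * (q⁻¹ * (k * q⁻¹)) := by
    rw [hp, hq]; group
  rw [e, show g * g * k * (g * g)⁻¹ * k⁻¹ = p * k⁻¹ by rw [hp]]
  refine c.eqz_mul_left ?_ p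
  refine c.eqz_trans (c.eqz_mul_left (c.eqz_swap hk (inv_mem hqJ)) q⁻¹) ?_
  rw [← mul_assoc]
  refine c.eqz_trans (c.eqz_mul (c.sq_eqz (inv_mem hqJ)) (Or.inl rfl) (c.comm_z hk)) ?_
  rw [one_mul]
  rcases c.sq_mem k hk with e' | e'
  · exact Or.inl (inv_eq_of_mul_eq_one_right e').symm
  · refine Or.inr ?_
    have : k⁻¹ * z = k⁻¹ * (k * k) := by rw [e']
    rw [this, inv_mul_cancel_left]

/-- The commutator of an involution is inverted by it. -/
theorem invol_twice (_c : Core z J) {t k : G} (ht : t * t = 1) :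
    t * (t * k * t⁻¹ * k⁻¹) * t⁻¹ = (t * k * t⁻¹ * k⁻¹)⁻¹ := by
  have hti : t⁻¹ = t := inv_eq_of_mul_eq_one_right ht
  calc t * (t * k * t⁻¹ * k⁻¹) * t⁻¹ = (t * t) * k * t⁻¹ * k⁻¹ * t⁻¹ := by group
    _ = k * t⁻¹ * k⁻¹ * t⁻¹ := by rw [ht, one_mul]
    _ = k * t * k⁻¹ * t⁻¹ := by rw [hti]
    _ = (t * k * t⁻¹ * k⁻¹)⁻¹ := by group

end Core

namespace Fx

variable (b : Base z J π) (f2 : Fixed2 z J U)
include b f2

/-- The fixed part and the commutator part of an involution outside the core. -/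
theorem exists_rank [Finite G] {t : G} (htz : Commute t z) (ht : t * t = 1) (htJ : t ∉ J) :
    ∃ M W : Subgroup G, (∀ x, x ∈ M ↔ x ∈ J ∧ Eqz z (t * x * t⁻¹) x) ∧
      (∀ x, x ∈ W ↔ x ∈ J ∧ ∃ k ∈ J, Eqz z x (t * k * t⁻¹ * k⁻¹)) ∧
      Nat.card M = 128 ∧ Nat.card W = 8 ∧ W ≤ M ∧ U ≤ M ∧ W ≤ ell J U ∧
      (∀ w ∈ W, ∀ m ∈ M, Commute w m) ∧
      (∀ j ∈ J, (∀ w ∈ W, Commute j w) → j ∈ M) := by
  have c := B.core b
  obtain ⟨M, W, hM, hW, hcard⟩ := c.exists_split htz le_rfl b.z_mem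
    (fun a ha => c.conj_mem t htz a ha)
  rw [b.card_J] at hcard
  have hMJ : M ≤ J := fun x hx => ((hM x).1 hx).1
  have hWJ : W ≤ J := fun x hx => ((hW x).1 hx).1
  have hUM : U ≤ M := fun u hu => (hM u).2 ⟨f2.le hu, U_conj b f2 htz hu⟩
  have hzM : z ∈ M := hUM f2.z_mem
  have hzW : z ∈ W := (hW z).2 ⟨b.z_mem, 1, one_mem _, Or.inr (by group)⟩
  have hcomm : ∀ w ∈ W, ∀ m ∈ M, Commute w m := by
    intro w hw m hm
    obtain ⟨hwJ, k, hk, he⟩ := (hW w).1 hw
    refine (((c.commute_eqz ((c.comm_z (hMJ hm))) he).2 ?_).symm)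
    have htk : t * k * t⁻¹ ∈ J := c.conj_mem t htz k hk
    have h1 : Core.chi m (t * k * t⁻¹) = Core.chi m k := by
      have hm' : Eqz z (t * m * t⁻¹) m := ((hM m).1 hm).2
      have key : Commute m (t * k * t⁻¹) ↔ Commute m k := by
        have hti : t⁻¹ = t := inv_eq_of_mul_eq_one_right ht
        have e : t * (t * k * t⁻¹) * t⁻¹ = k := by
          calc t * (t * k * t⁻¹) * t⁻¹ = (t * t) * k * (t * t)⁻¹ := by group
            _ = k := by rw [ht]; group
        constructor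
        · intro h
          have h' := h.map (MulAut.conj t).toMonoidHom
          simp only [MulEquiv.coe_toMonoidHom, MulAut.conj_apply] at h'
          rw [e] at h'
          exact ((c.commute_eqz (c.comm_z hk) hm').1 h'.symm).symm
        · intro h
          have h' : Commute (t * m * t⁻¹) k :=
            ((c.commute_eqz (c.comm_z hk) hm').2 h.symm).symm
          have h'' := h'.map (MulAut.conj t).toMonoidHom
          simp only [MulEquiv.coe_toMonoidHom, MulAut.conj_apply] at h''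
          rwa [show t * (t * m * t⁻¹) * t⁻¹ = m by
            calc t * (t * m * t⁻¹) * t⁻¹ = (t * t) * m * (t * t)⁻¹ := by group
              _ = m := by rw [ht]; group] at h''
      by_cases h : Commute m k
      · rw [Core.chi_of_comm h, Core.chi_of_comm (key.2 h)]
      · rw [Core.chi_of_not h, Core.chi_of_not (mt key.1 h)]
    by_contra hno
    have := c.chi_mul (hMJ hm) htk (inv_mem hk)
    rw [Core.chi_of_not hno, h1, ← c.chi_mul (hMJ hm) hk (inv_mem hk), mul_inv_cancel,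
      Core.chi_of_comm (Commute.one_right m)] at this
    norm_num at this
  have hWM : W ≤ M := by
    intro w hw
    obtain ⟨hwJ, k, hk, he⟩ := (hW w).1 hw
    refine (hM w).2 ⟨hwJ, ?_⟩
    set d := t * k * t⁻¹ * k⁻¹ with hd
    have hdJ : d ∈ J := mul_mem (c.conj_mem t htz k hk) (inv_mem hk)
    refine c.eqz_trans (c.eqz_conj htz he) (c.eqz_trans ?_ (c.eqz_symm he))
    rw [hd, c.invol_twice ht, ← hd]
    rcases c.sq_mem d hdJ with e | e
    · exact Or.inl (inv_eq_of_mul_eq_one_right e)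
    · refine Or.inr ?_
      rw [← e, show d * (d * d) = d * d * d by group, e, ← (c.comm_z hdJ).eq]
      refine inv_eq_of_mul_eq_one_right ?_
      rw [← mul_assoc, e, c.sq]
  have hWL : W ≤ ell J U := fun w hw => ⟨hWJ hw, Subgroup.mem_centralizer_iff.2 fun u hu =>
    (hcomm w hw u (hUM hu)).symm.eq⟩
  -- the lifting of a square root
  haveI : Fact (Nat.Prime 2) := ⟨Nat.prime_two⟩
  obtain ⟨x, hx⟩ := Psp.exists_sq b.card_F (B.card_X b) (x := pr π t)
    (by rw [← pr_mul htz htz, ht, pr_one])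
  obtain ⟨g, hg, hgx⟩ := B.pr_surj b x
  have hsame : ∀ k ∈ J, Eqz z (g * g * k * (g * g)⁻¹) (t * k * t⁻¹) := by
    intro k hk
    have hjJ : t⁻¹ * (g * g) ∈ J := by
      refine (B.pr_eq_one b (htz.inv_left.mul_left (hg.mul_left hg))).1 ?_
      rw [pr_mul htz.inv_left (hg.mul_left hg), pr_inv htz, pr_mul hg hg, hgx, hx, inv_mul_cancel]
    rw [show g * g * k * (g * g)⁻¹ = t * ((t⁻¹ * (g * g)) * k * (t⁻¹ * (g * g))⁻¹) * t⁻¹ by group]
    exact c.eqz_conj htz (c.conj_eqz hjJ hk)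
  -- the chain
  have hLJ : ell J U ≤ J := inf_le_left
  obtain ⟨F0, I1, hF0, hI1, c1⟩ := c.exists_split hg hLJ (z_mem_ell b f2)
    (fun a ha => ell_conj_mem b f2 hg ha)
  rw [card_ell b f2] at c1
  have hI1L : I1 ≤ ell J U := fun y hy => ((hI1 y).1 hy).1
  have step : ∀ {A I : Subgroup G}, A ≤ ell J U → (∀ a ∈ A, g * a * g⁻¹ ∈ A) →
      (∀ y, y ∈ I ↔ y ∈ A ∧ ∃ k ∈ A, Eqz z y (g * k * g⁻¹ * k⁻¹)) → ∀ y ∈ I, g * y * g⁻¹ ∈ I := by
    intro A I hA hgA hI y hy
    obtain ⟨hyA, k, hk, he⟩ := (hI y).1 hy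
    refine (hI _).2 ⟨hgA y hyA, g * k * g⁻¹, hgA k hk, ?_⟩
    have he' := c.eqz_conj hg he
    rwa [show g * (g * k * g⁻¹ * k⁻¹) * g⁻¹ = g * (g * k * g⁻¹) * g⁻¹ * (g * k * g⁻¹)⁻¹ by group]
      at he'
  have hg1 := step le_rfl (fun a ha => ell_conj_mem b f2 hg ha) hI1
  have hzI1 : z ∈ I1 := (hI1 z).2 ⟨z_mem_ell b f2, 1, one_mem _, Or.inr (by group)⟩
  obtain ⟨F1, I2, hF1, hI2, c2⟩ := c.exists_split hg (hI1L.trans hLJ) hzI1 hg1
  have hI2L : I2 ≤ ell J U := fun y hy => hI1L ((hI2 y).1 hy).1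
  have hg2 := step hI1L hg1 hI2
  have hzI2 : z ∈ I2 := (hI2 z).2 ⟨hzI1, 1, one_mem _, Or.inr (by group)⟩
  obtain ⟨F2, I3, hF2, hI3, c3⟩ := c.exists_split hg (hI2L.trans hLJ) hzI2 hg2
  have hI3L : I3 ≤ ell J U := fun y hy => hI2L ((hI3 y).1 hy).1
  -- a double commutator
  have hdouble : ∀ {p q r : G}, r ∈ J → Eqz z p (g * q * g⁻¹ * q⁻¹) →
      Eqz z q (g * r * g⁻¹ * r⁻¹) → Eqz z p (t * r * t⁻¹ * r⁻¹) := by
    intro p q r hr h1 h2
    set d := g * r * g⁻¹ * r⁻¹ with hd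
    have hdz : Commute d z := c.comm_z (mul_mem (c.conj_mem g hg r hr) (inv_mem hr))
    have h3 : Eqz z (g * q * g⁻¹ * q⁻¹) (g * d * g⁻¹ * d⁻¹) := by
      rcases h2 with h2 | h2 <;> rw [h2]
      · exact Or.inl rfl
      · left
        rw [show g * (d * z) * g⁻¹ * (d * z)⁻¹ = g * d * (z * g⁻¹) * z⁻¹ * d⁻¹ by group,
          ← hg.inv_left.eq]
        group
    exact c.eqz_trans h1 (c.eqz_trans h3 (c.eqz_trans (c.eqz_twice hg hr)
      (c.eqz_mul_right (c.comm_z (inv_mem hr)) (hsame r hr))))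
  have hfix3 : ∀ y ∈ I3, Eqz z (g * y * g⁻¹) y := by
    intro y hy
    obtain ⟨hy2, y2, hy22, he⟩ := (hI3 y).1 hy
    obtain ⟨hy21, y1, hy11, he2⟩ := (hI2 y2).1 hy22
    obtain ⟨hy1L, y0, hy0, he1⟩ := (hI1 y1).1 hy11
    -- `[g, y] ≈ [t, [t, y0]] ≈ 1`
    have h4 : Eqz z (g * y * g⁻¹ * y⁻¹) (t * y2 * t⁻¹ * y2⁻¹) :=
      hdouble (hLJ (hI2L hy22)) (Or.inl rfl) he
    have h5 : Eqz z y2 (t * y0 * t⁻¹ * y0⁻¹) := hdouble (hLJ hy0) he2 he1
    have hyW : y2 ∈ W := (hW y2).2 ⟨hLJ (hI2L hy22), y0, hLJ hy0, h5⟩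
    have h6 : Eqz z (t * y2 * t⁻¹ * y2⁻¹) 1 := by
      have h := c.eqz_mul_right (c.comm_z (inv_mem (hLJ (hI2L hy22)))) ((hM y2).1 (hWM hyW)).2
      rwa [mul_inv_cancel] at h
    have := c.eqz_mul_right (c.comm_z (hLJ (hI3L hy))) (c.eqz_trans h4 h6)
    rwa [inv_mul_cancel_right, one_mul] at this
  have f01 : Nat.card F1 ≤ Nat.card F0 := Subgroup.card_le_of_le fun y hy =>
    (hF0 y).2 ⟨hI1L ((hF1 y).1 hy).1, ((hF1 y).1 hy).2⟩
  have f12 : Nat.card F2 ≤ Nat.card F1 := Subgroup.card_le_of_le fun y hy =>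
    (hF1 y).2 ⟨((hI2 y).1 ((hF2 y).1 hy).1).1, ((hF2 y).1 hy).2⟩
  have f23 : Nat.card I3 ≤ Nat.card F2 := Subgroup.card_le_of_le fun y hy =>
    (hF2 y).2 ⟨((hI3 y).1 hy).1, hfix3 y hy⟩
  have hI2le : Nat.card I2 ≤ 8 := by
    by_contra hlt
    obtain ⟨k, -, hk⟩ := (Nat.dvd_prime_pow Nat.prime_two).1
      (show Nat.card I2 ∣ 2 ^ 9 from b.card_J ▸ Subgroup.card_dvd_of_le (hI2L.trans hLJ))
    have h16 : 16 ≤ Nat.card I2 := by
      have hk4 : 3 < k := by
        by_contra h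
        have : Nat.card I2 ≤ 2 ^ 3 := hk ▸ Nat.pow_le_pow_right (by norm_num) (by omega)
        omega
      calc 16 = 2 ^ 4 := rfl
        _ ≤ 2 ^ k := Nat.pow_le_pow_right (by norm_num) hk4
        _ = Nat.card I2 := hk.symm
    have h6 : 6 ≤ Nat.card F2 := by nlinarith
    have : 48 ≤ Nat.card I1 := by nlinarith
    nlinarith
  have hW2 : Nat.card W ≤ Nat.card I2 := by
    refine Subgroup.card_le_of_le fun w hw => ?_
    obtain ⟨hwJ, k, hk, he⟩ := (hW w).1 hw
    obtain ⟨u, hu, l, hl, rfl⟩ := decomp b f2 hk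
    have hl1 : g * l * g⁻¹ * l⁻¹ ∈ I1 :=
      (hI1 _).2 ⟨mul_mem (ell_conj_mem b f2 hg hl) (inv_mem hl), l, hl, Or.inl rfl⟩
    have hl2 : g * (g * l * g⁻¹ * l⁻¹) * g⁻¹ * (g * l * g⁻¹ * l⁻¹)⁻¹ ∈ I2 :=
      (hI2 _).2 ⟨mul_mem (hg1 _ hl1) (inv_mem hl1), _, hl1, Or.inl rfl⟩
    refine c.eqz_mem hzI2 ?_ hl2
    refine c.eqz_trans he (c.eqz_trans ?_ (c.eqz_symm (c.eqz_trans (c.eqz_twice hg (hLJ hl))
      (c.eqz_mul_right (c.comm_z (inv_mem (hLJ hl))) (hsame l (hLJ hl))))))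
    rw [show t * (u * l) * t⁻¹ * (u * l)⁻¹ = t * u * t⁻¹ * ((t * l * t⁻¹ * l⁻¹) * u⁻¹) by group]
    set d := t * l * t⁻¹ * l⁻¹ with hd
    have hdJ : d ∈ J := mul_mem (c.conj_mem t htz l (hLJ hl)) (inv_mem (hLJ hl))
    refine c.eqz_trans (c.eqz_mul_right (c.comm_z (mul_mem hdJ (inv_mem (f2.le hu))))
      (U_conj b f2 htz hu)) ?_
    refine c.eqz_trans (c.eqz_mul_left (c.eqz_swap hdJ (inv_mem (f2.le hu))) u) ?_
    rw [mul_inv_cancel_left]
    exact Or.inl rfl
  have hW8 : Nat.card W ≤ 8 := hW2.trans hI2le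
  obtain ⟨i, -, hi⟩ := (Nat.dvd_prime_pow Nat.prime_two).1
    (show Nat.card W ∣ 2 ^ 9 from b.card_J ▸ Subgroup.card_dvd_of_le hWJ)
  -- not two
  have hW2' : 2 < Nat.card W := by
    by_contra hle
    refine htJ (c.mem_of_trivial htz fun j hj => ?_)
    have hM9 : 2 ^ 9 ≤ Nat.card M := by nlinarith
    exact ((hM j).1 ((Subgroup.eq_of_le_of_card_ge hMJ (b.card_J ▸ hM9)).ge hj)).2
  -- the centraliser of `W`
  have hWM' : ∀ j ∈ J, (∀ w ∈ W, Commute j w) → j ∈ M := by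
    intro j hj hjw
    have hle : M ≤ J ⊓ Subgroup.centralizer (W : Set G) := fun m hm =>
      ⟨hMJ hm, Subgroup.mem_centralizer_iff.2 fun w hw => (hcomm w hw m hm).eq⟩
    have hc := c.card_mul_card hWJ hzW
    refine (Subgroup.eq_of_le_of_card_ge hle ?_).ge
      ⟨hj, Subgroup.mem_centralizer_iff.2 fun w hw => (hjw w hw).symm.eq⟩
    nlinarith
  -- not four
  have hW4 : Nat.card W ≠ 4 := by
    intro h4
    obtain ⟨w, hw, hwne⟩ : ∃ w ∈ W, ¬ (w = 1 ∨ w = z) := by
      by_contra hno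
      push Not at hno
      classical
      have hsub : (W : Set G) ⊆ (({1, z} : Finset G) : Set G) := fun x hx => by
        rcases hno x hx with e | e <;> simp [e]
      have := Set.ncard_le_ncard hsub (Finset.finite_toSet _)
      rw [Set.ncard_coe_finset, ← Nat.card_coe_set_eq] at this
      have h2 : ({1, z} : Finset G).card ≤ 2 := Finset.card_le_two
      change Nat.card W ≤ _ at this
      omega
    obtain ⟨f, hfz, hfw, hf5⟩ := exists_five b f2 (hWL hw) hwne
    have hWset : ∀ y ∈ W, y = 1 ∨ y = z ∨ y = w ∨ y = w * z := by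
      classical
      obtain ⟨h1, h2⟩ := not_or.1 hwne
      have hcardS : ({1, z, w, w * z} : Finset G).card = 4 := by
        have e1 : (1 : G) ≠ z := fun e => c.ne_one e.symm
        have e2 : w * z ≠ 1 := fun e => h2 (by rw [← mul_one w, ← c.sq, ← mul_assoc, e, one_mul])
        have e3 : w * z ≠ z := fun e => h1 (mul_right_cancel (e.trans (one_mul z).symm))
        have e4 : w ≠ w * z := fun e => c.ne_one (mul_left_cancel ((mul_one w).trans e)).symm
        rw [Finset.card_insert_of_notMem (by simp [e1, Ne.symm h1, e2.symm]),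
          Finset.card_insert_of_notMem (by simp [Ne.symm h2, e3.symm]), Finset.card_pair e4]
      have hsub : (({1, z, w, w * z} : Finset G) : Set G) ⊆ W := by
        intro y hy
        simp only [Finset.coe_insert, Finset.coe_singleton, Set.mem_insert_iff,
          Set.mem_singleton_iff] at hy
        rcases hy with rfl | rfl | rfl | rfl
        exacts [one_mem _, hzW, hw, mul_mem hw hzW]
      have he := Set.eq_of_subset_of_ncard_le hsub (by
        rw [Set.ncard_coe_finset, hcardS, ← Nat.card_coe_set_eq]; exact h4.le) (Set.toFinite _)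
      intro y hy
      have : y ∈ (({1, z, w, w * z} : Finset G) : Set G) := he ▸ hy
      simpa using this
    have hcrit : ∀ j ∈ J, (Commute j w → Eqz z (t * j * t⁻¹) j) ∧
        (¬ Commute j w → Eqz z (t * j * t⁻¹) (w * j)) := by
      intro j hj
      refine ⟨fun h => ((hM j).1 (hWM' j hj fun y hy => ?_)).2, fun h => ?_⟩
      · rcases hWset y hy with rfl | rfl | rfl | rfl
        exacts [Commute.one_right j, c.comm_z hj, h, h.mul_right (c.comm_z hj)]
      · have hm : t * j * t⁻¹ * j⁻¹ ∈ W :=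
          (hW _).2 ⟨mul_mem (c.conj_mem t htz j hj) (inv_mem hj), j, hj, Or.inl rfl⟩
        have hnotM : j ∉ M := fun hjM => h (hcomm w hw j hjM).symm
        rcases hWset _ hm with e | e | e | e
        · exact absurd ((hM j).2 ⟨hj, Or.inl (mul_inv_eq_one.1 e)⟩) hnotM
        · rw [mul_inv_eq_iff_eq_mul] at e
          exact absurd ((hM j).2 ⟨hj, Or.inr (by rw [e, (c.comm_z hj).eq])⟩) hnotM
        · exact Or.inl (mul_inv_eq_iff_eq_mul.1 e)
        · exact Or.inr (by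
            rw [mul_inv_eq_iff_eq_mul.1 e, mul_assoc, ← (c.comm_z hj).eq, ← mul_assoc])
    set t' := f * t * f⁻¹ with ht'
    have ht'z : Commute t' z := (hfz.mul_left htz).mul_left hfz.inv_left
    have hpr : pr π t' = pr π t := by
      have hmem : t⁻¹ * t' ∈ J := by
        refine c.mem_of_trivial (htz.inv_left.mul_left ht'z) fun j hj => ?_
        have hfj : f⁻¹ * j * f ∈ J := by
          have := c.conj_mem f⁻¹ hfz.inv_left j hj
          rwa [inv_inv] at this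
        have hiff : Commute (f⁻¹ * j * f) w ↔ Commute j w := by
          constructor
          · intro h
            have := h.map (MulAut.conj f).toMonoidHom
            simp only [MulEquiv.coe_toMonoidHom, MulAut.conj_apply] at this
            rwa [mul_inv_eq_iff_eq_mul.2 hfw.eq, show f * (f⁻¹ * j * f) * f⁻¹ = j by group] at this
          · intro h
            have := h.map (MulAut.conj f⁻¹).toMonoidHom
            simp only [MulEquiv.coe_toMonoidHom, MulAut.conj_apply, inv_inv] at this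
            rwa [show f⁻¹ * w * f = w by rw [mul_assoc, ← hfw.eq, inv_mul_cancel_left]] at this
        have h' : Eqz z (t' * j * t'⁻¹) (t * j * t⁻¹) := by
          rw [show t' * j * t'⁻¹ = f * (t * (f⁻¹ * j * f) * t⁻¹) * f⁻¹ by rw [ht']; group]
          by_cases hc : Commute j w
          · refine c.eqz_trans (c.eqz_conj hfz ((hcrit _ hfj).1 (hiff.2 hc))) ?_
            rw [show f * (f⁻¹ * j * f) * f⁻¹ = j by group]
            exact c.eqz_symm ((hcrit j hj).1 hc)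
          · refine c.eqz_trans (c.eqz_conj hfz ((hcrit _ hfj).2 (mt hiff.1 hc))) ?_
            rw [show f * (w * (f⁻¹ * j * f)) * f⁻¹ = f * w * f⁻¹ * j by group,
              mul_inv_eq_iff_eq_mul.2 hfw.eq]
            exact c.eqz_symm ((hcrit j hj).2 hc)
        have := c.eqz_conj htz.inv_left h'
        rwa [inv_inv, show t⁻¹ * (t * j * t⁻¹) * t = j by group,
          show t⁻¹ * (t' * j * t'⁻¹) * t = t⁻¹ * t' * j * (t⁻¹ * t')⁻¹ by group] at this
      have h1 := (B.pr_eq_one b (htz.inv_left.mul_left ht'z)).2 hmem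
      rw [pr_mul htz.inv_left ht'z, pr_inv htz, inv_mul_eq_one] at h1
      exact h1.symm
    haveI : Finite (Cfsg.PSp 2 F) := Nat.finite_of_card_ne_zero (by rw [B.card_X b]; norm_num)
    haveI : Fact (Nat.Prime 5) := ⟨by norm_num⟩
    refine B.no_ten b (x := pr π t) (y := pr π f) ?_ ?_ ?_
    · refine orderOf_eq_prime ?_ fun e => htJ ((B.pr_eq_one b htz).1 e)
      rw [pow_two, ← pr_mul htz htz, ht, pr_one]
    · refine orderOf_eq_prime ?_ fun e => ?_
      · rw [← pr_pow hfz, ← hf5, pow_orderOf_eq_one, pr_one]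
      · have := J.orderOf_dvd_natCard ((B.pr_eq_one b hfz).1 e)
        rw [hf5, b.card_J] at this
        norm_num at this
    · rw [ht', pr_conj hfz htz, mul_inv_eq_iff_eq_mul] at hpr
      exact hpr.symm
  have hW8' : Nat.card W = 8 := by
    rw [hi] at hW8 hW2' hW4 ⊢
    have : i ≤ 3 := (Nat.pow_le_pow_iff_right (show 1 < 2 by norm_num)).1 (by simpa using hW8)
    interval_cases i <;> first | rfl | (norm_num at hW2'; done) | (norm_num at hW4; done)
  refine ⟨M, W, hM, hW, ?_, hW8', hWM, hUM, hWL, hcomm, hWM'⟩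
  rw [hW8'] at hcard
  omega

end Fx

end H55.U6C
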