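import Cfsg.Agent.H55.U6C.Tools
import Cfsg.Agent.H55.U6C.Psp
import Cfsg.Agent.H29.Psp43Spectrum
import Cfsg.Agent.H99.LargeExtra
import Cfsg.Agent.S0270

/-!
Consequences of the hypotheses on the centraliser: the projection, orders, conjugates of the core.
-/

set_option autoImplicit false

namespace H55.U6C

open H38.U6C

variable {G : Type*} [Group G] {F : Type*} [Field F] [Fintype F] {z : G} {J : Subgroup G}
  {π : ↥(Subgroup.centralizer ({z} : Set G)) →* Cfsg.PSp 2 F}

/-- The projection, extended by one outside the centraliser. -/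
noncomputable def pr (π : ↥(Subgroup.centralizer ({z} : Set G)) →* Cfsg.PSp 2 F) (g : G) :
    Cfsg.PSp 2 F := by
  classical
  exact if h : Commute g z then π ⟨g, mem_cent.2 h⟩ else 1

theorem pr_eq {g : G} (h : Commute g z) : pr π g = π ⟨g, mem_cent.2 h⟩ := by
  rw [pr]
  exact dif_pos h

theorem pr_mul {g h : G} (hg : Commute g z) (hh : Commute h z) :
    pr π (g * h) = pr π g * pr π h := by
  rw [pr_eq hg, pr_eq hh, pr_eq (hg.mul_left hh), ← map_mul]
  rfl

theorem pr_inv {g : G} (hg : Commute g z) : pr π g⁻¹ = (pr π g)⁻¹ := by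
  rw [pr_eq hg, pr_eq hg.inv_left, ← map_inv]
  rfl

theorem pr_one : pr π (1 : G) = 1 := by
  rw [pr_eq (Commute.one_left z)]
  exact map_one π

theorem pr_conj {g h : G} (hg : Commute g z) (hh : Commute h z) :
    pr π (g * h * g⁻¹) = pr π g * pr π h * (pr π g)⁻¹ := by
  rw [pr_mul (hg.mul_left hh) hg.inv_left, pr_mul hg hh, pr_inv hg]

theorem pr_pow {g : G} (hg : Commute g z) (n : ℕ) : pr π (g ^ n) = pr π g ^ n := by
  induction n with
  | zero => rw [pow_zero, pow_zero, pr_one]
  | succ n ih => rw [pow_succ, pow_succ, pr_mul (hg.pow_left n) hg, ih]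

namespace B

variable (b : Base z J π)
include b

theorem core : Core z J := core_of_base b

theorem pr_eq_one {g : G} (hg : Commute g z) : pr π g = 1 ↔ g ∈ J := by
  rw [pr_eq hg]
  exact b.π_ker _

theorem pr_surj (x : Cfsg.PSp 2 F) : ∃ g, Commute g z ∧ pr π g = x := by
  obtain ⟨⟨g, hg⟩, rfl⟩ := b.π_surj x
  exact ⟨g, mem_cent.1 hg, pr_eq (mem_cent.1 hg)⟩

theorem card_ker : Nat.card π.ker = 2 ^ 9 := by
  rw [← b.card_J]
  refine Nat.card_congr
    { toFun := fun g => ⟨(g.1 : G), (b.π_ker g.1).1 g.2⟩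
      invFun := fun j => ⟨⟨j, b.le_cent j.2⟩, (b.π_ker _).2 j.2⟩
      left_inv := fun _ => rfl
      right_inv := fun _ => rfl }

theorem card_X [Finite G] : Nat.card (Cfsg.PSp 2 F) = 25920 := by
  have h := π.ker.card_mul_index
  rw [Subgroup.index_ker, MonoidHom.range_eq_top.2 b.π_surj, Subgroup.card_top, card_ker b,
    b.card_cent] at h
  omega

theorem simple : IsSimpleGroup (Cfsg.PSp 2 F) :=
  Cfsg.Agent.S0270.result 2 le_rfl fun _ => b.card_F.ge

/-- The image of a subgroup of the centraliser. -/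
theorem card_image [Finite G] {A : Subgroup G} (hA : ∀ a ∈ A, Commute a z) :
    ∃ R : Subgroup (Cfsg.PSp 2 F), (∀ x, x ∈ R ↔ ∃ a ∈ A, pr π a = x) ∧
      Nat.card A = Nat.card (A ⊓ J : Subgroup G) * Nat.card R := by
  let f : A →* Cfsg.PSp 2 F :=
    { toFun := fun a => pr π a
      map_one' := pr_one
      map_mul' := fun a a' => pr_mul (hA a a.2) (hA a' a'.2) }
  refine ⟨f.range, fun x => ⟨fun ⟨a, h⟩ => ⟨a, a.2, h⟩, fun ⟨a, ha, h⟩ => ⟨⟨a, ha⟩, h⟩⟩, ?_⟩
  rw [← f.ker.card_mul_index, Subgroup.index_ker]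
  congr 1
  exact Nat.card_congr
    { toFun := fun a => ⟨(a.1 : G), a.1.2, (pr_eq_one b (hA _ a.1.2)).1 a.2⟩
      invFun := fun a => ⟨⟨a, a.2.1⟩, (pr_eq_one b (hA _ a.2.1)).2 a.2.2⟩
      left_inv := fun _ => rfl
      right_inv := fun _ => rfl }

theorem orderOf_z : orderOf z = 2 := orderOf_eq_prime (by rw [pow_two, b.sq]) b.ne_one

theorem isPGroup_J : IsPGroup 2 J := IsPGroup.of_card (n := 9) b.card_J

/-- The core is the 2-core of the centraliser. -/
theorem pCore_eq [Finite G] :
    (Cfsg.pCore 2 ↥(Subgroup.centralizer ({z} : Set G))).map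
      (Subgroup.centralizer ({z} : Set G)).subtype = J := by
  haveI := simple b
  haveI : Fact (Nat.Prime 2) := ⟨Nat.prime_two⟩
  haveI : (J.subgroupOf (Subgroup.centralizer ({z} : Set G))).Normal :=
    ⟨fun n hn g => b.conj_mem g g.2 n hn⟩
  have h1 : J.subgroupOf (Subgroup.centralizer ({z} : Set G)) ≤
      Cfsg.pCore 2 (Subgroup.centralizer ({z} : Set G)) :=
    H1.le_pCore ((isPGroup_J b).comap_of_injective
      (Subgroup.centralizer ({z} : Set G)).subtype (Subgroup.subtype_injective _))
  have h2 : Cfsg.pCore 2 (Subgroup.centralizer ({z} : Set G)) ≤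
      J.subgroupOf (Subgroup.centralizer ({z} : Set G)) := by
    have hp : IsPGroup 2 ((Cfsg.pCore 2 (Subgroup.centralizer ({z} : Set G))).map π) := (H1.isPGroup_pCore 2 _).map π
    haveI : ((Cfsg.pCore 2 (Subgroup.centralizer ({z} : Set G))).map π).Normal := (H1.pCore_normal' 2 _).map π b.π_surj
    rcases Subgroup.Normal.eq_bot_or_eq_top (inferInstance : ((Cfsg.pCore 2 (Subgroup.centralizer ({z} : Set G))).map π).Normal)
      with h | h
    · intro g hg
      exact (b.π_ker g).1 (by
        have : π g ∈ (Cfsg.pCore 2 (Subgroup.centralizer ({z} : Set G))).map π := ⟨g, hg, rfl⟩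
        rw [h] at this
        exact this)
    · exfalso
      obtain ⟨k, hk⟩ := IsPGroup.iff_card.1 hp
      rw [h, Subgroup.card_top, card_X b] at hk
      have : (3 : ℕ) ∣ 2 ^ k := hk ▸ (by norm_num)
      exact absurd ((Nat.prime_three.dvd_of_dvd_pow this)) (by norm_num)
  rw [le_antisymm h2 h1, Subgroup.subgroupOf_map_subtype, inf_eq_left.2 b.le_cent]

/-- The large extraspecial structure. -/
theorem large [Finite G] : ∃ Q : G → Subgroup G, H99.LargeExtra Q z ∧ Q z = J := by
  refine ⟨fun x => (Cfsg.pCore 2 ↥(Subgroup.centralizer ({x} : Set G))).map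
    (Subgroup.centralizer ({x} : Set G)).subtype, ⟨fun x => rfl, orderOf_z b, ?_, ?_⟩, pCore_eq b⟩
  · show Cfsg.IsExtraspecial 2 _
    rw [pCore_eq b]
    have c := core b
    haveI : Fact (Nat.Prime 2) := ⟨Nat.prime_two⟩
    have hzc : (⟨z, b.z_mem⟩ : J) ∈ Subgroup.center J :=
      Subgroup.mem_center_iff.2 fun a => Subtype.ext (c.comm_z a.2).eq
    have hcen : ∀ a : J, a ∈ Subgroup.center J ↔ (a : G) = 1 ∨ (a : G) = z := by
      intro a
      refine ⟨fun h => b.center a a.2 fun x hx =>
        (congrArg Subtype.val (Subgroup.mem_center_iff.1 h ⟨x, hx⟩)).symm, ?_⟩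
      rintro (h | h)
      · rw [show a = 1 from Subtype.ext h]; exact one_mem _
      · rw [show a = ⟨z, b.z_mem⟩ from Subtype.ext h]; exact hzc
    have hcard : Nat.card (Subgroup.center J) = 2 := by
      rw [Nat.card_eq_two_iff' (1 : Subgroup.center J)]
      refine ⟨⟨_, hzc⟩, fun h => b.ne_one (congrArg (fun x : Subgroup.center J => ((x : J) : G)) h), ?_⟩
      intro y hy
      rcases (hcen y).1 y.2 with h | h
      · exact absurd (Subtype.ext (Subtype.ext h)) hy
      · exact Subtype.ext (Subtype.ext h)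
    obtain ⟨x, hx, y, hy, hxy⟩ : ∃ x ∈ J, ∃ y ∈ J, x * y = y * x * z := by
      by_contra hno
      push Not at hno
      have := c.card_le_of_abelian le_rfl fun x hx y hy =>
        (c.comm_mem x hx y hy).resolve_right (hno x hx y hy)
      rw [b.card_J] at this
      omega
    have hder : commutator J = Subgroup.center J := by
      refine le_antisymm ?_ ?_
      · rw [commutator_def, Subgroup.commutator_le]
        intro p _ q _
        rw [hcen, commutatorElement_def]
        simp only [Subgroup.coe_mul, InvMemClass.coe_inv]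
        rcases c.comm_mem _ p.2 _ q.2 with h | h
        · left; rw [h]; group
        · right
          rw [h, mul_assoc ((q : G) * p) z, (c.comm_z (inv_mem p.2)).symm.eq,
            show (q : G) * p * ((p : G)⁻¹ * z) * (q : G)⁻¹ = q * z * (q : G)⁻¹ by group,
            mul_inv_eq_iff_eq_mul.2 (c.comm_z q.2).eq]
      · intro a ha
        rcases (hcen a).1 ha with h | h
        · rw [show a = 1 from Subtype.ext h]; exact one_mem _
        · have := Subgroup.commutator_mem_commutator (Subgroup.mem_top (⟨x, hx⟩ : J))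
            (Subgroup.mem_top (⟨y, hy⟩ : J))
          rw [← commutator_def] at this
          convert this using 1
          refine Subtype.ext ?_
          rw [h, commutatorElement_def]
          simp only [Subgroup.coe_mul, InvMemClass.coe_inv]
          rw [hxy, mul_assoc (y * x) z, (c.comm_z (inv_mem hx)).symm.eq,
            show y * x * (x⁻¹ * z) * y⁻¹ = y * z * y⁻¹ by group,
            mul_inv_eq_iff_eq_mul.2 (c.comm_z hy).eq]
    refine ⟨⟨isPGroup_J b, ?_, hder⟩, hcard⟩
    refine le_antisymm ?_ (hder ▸ H6.commutator_le_frattini (p := 2) (isPGroup_J b))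
    refine H6.frattini_le_of_quotient (p := 2) _ hder.le fun g => ?_
    rw [hcen, pow_two, Subgroup.coe_mul]
    exact c.sq_mem _ g.2
  · show Subgroup.centralizer _ ≤ _
    rw [pCore_eq b]
    intro g hg
    exact b.self_cent g (mem_cent.2 (Subgroup.mem_centralizer_iff.1 hg z b.z_mem).symm)
      fun j hj => (Subgroup.mem_centralizer_iff.1 hg j hj).symm

/-- A central element of order three in a Sylow 3-subgroup of the centraliser. -/
theorem exists_three [Finite G] : ∃ P : Subgroup G, Nat.card P = 81 ∧ ∀ p ∈ P, Commute p z := by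
  haveI : Fact (Nat.Prime 3) := ⟨Nat.prime_three⟩
  set C := Subgroup.centralizer ({z} : Set G)
  obtain ⟨S, hS⟩ := Sylow.exists_subgroup_card_pow_prime (G := C) (p := 3) (n := 4) (by
    rw [b.card_cent]; norm_num)
  refine ⟨S.map C.subtype, ?_, ?_⟩
  · rw [Subgroup.card_map_of_injective C.subtype_injective, hS]; norm_num
  · rintro _ ⟨p, -, rfl⟩
    exact mem_cent.1 p.2

theorem three_inf [Finite G] {P : Subgroup G} (hP : Nat.card P = 81) {p : G} (hp : p ∈ P)
    (hpJ : p ∈ J) : p = 1 := by
  have h1 : orderOf p ∣ 81 := hP ▸ P.orderOf_dvd_natCard hp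
  have h2 : orderOf p ∣ 2 ^ 9 := b.card_J ▸ J.orderOf_dvd_natCard hpJ
  exact orderOf_eq_one_iff.1 (Nat.eq_one_of_dvd_coprimes (by norm_num) h1 h2)

/-- No element of order ten in the quotient. -/
theorem no_ten [Finite G] {x y : Cfsg.PSp 2 F} (hx : orderOf x = 2) (hy : orderOf y = 5)
    (hxy : Commute x y) : False := by
  have h := hxy.orderOf_mul_eq_mul_orderOf_of_coprime (by rw [hx, hy]; norm_num)
  rw [hx, hy] at h
  have hmem : orderOf (x * y) ∈ Set.range (orderOf : Cfsg.PSp 2 F → ℕ) := ⟨_, rfl⟩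
  rw [Cfsg.Agent.H29.Psp43.range_orderOf_psp b.card_F, h] at hmem
  simp only [Cfsg.Agent.H29.Psp43.spec, Set.mem_setOf_eq] at hmem
  norm_num at hmem

end B

end H55.U6C
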