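import Cfsg.Agent.H55.U6C.FixU

/-!
The six-dimensional section `C_J(U)` modulo the centre.
-/

set_option autoImplicit false

namespace H55.U6C

open H38.U6C

theorem autDiv_gcd : ∀ d : Fin 6, Nat.gcd 81 (Core.autDiv d) * Nat.gcd 81 (Core.autDiv (6 - d.val)) < 81
    ∨ d.val = 0 := by
  decide

theorem exists_pow_three {G : Type*} [Group G] {a : G} {k : ℕ} (h : orderOf a = 3 ^ (k + 1)) :
    orderOf (a ^ 3 ^ k) = 3 := by
  rw [orderOf_pow' a (by positivity), h, pow_succ, Nat.gcd_eq_right (Dvd.intro 3 rfl),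
    Nat.mul_div_cancel_left _ (by positivity)]

variable {G : Type*} [Group G] {F : Type*} [Field F] [Fintype F] {z : G} {J U : Subgroup G}
  {π : ↥(Subgroup.centralizer ({z} : Set G)) →* Cfsg.PSp 2 F}

namespace Fx

variable (b : Base z J π) (f2 : Fixed2 z J U)
include b f2

/-- A central element of a Sylow 3-subgroup fixes nothing in `L` modulo the centre. -/
theorem fpf [Finite G] {P : Subgroup G} (hP : Nat.card P = 81) (hPz : ∀ p ∈ P, Commute p z) {a : G}
    (ha : a ∈ P) (hac : ∀ p ∈ P, Commute p a) (ha1 : a ≠ 1) {v : G} (hv : v ∈ ell J U)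
    (hfix : Eqz z (a * v * a⁻¹) v) : v = 1 ∨ v = z := by
  have c := B.core b
  have hLJ : ell J U ≤ J := inf_le_left
  have haz := hPz a ha
  have h81 : ∀ p ∈ P, p ^ 81 = 1 := fun p hp => by
    have := P.orderOf_dvd_natCard hp
    rw [hP] at this
    exact orderOf_dvd_iff_pow_eq_one.1 this
  obtain ⟨Fa, Ia, hFa, hIa, hcard⟩ := c.exists_split haz hLJ (z_mem_ell b f2)
    (fun x hx => ell_conj_mem b f2 haz hx)
  rw [card_ell b f2] at hcard
  by_contra hne
  have hFJ : Fa ≤ J := fun x hx => hLJ ((hFa x).1 hx).1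
  have hIJ : Ia ≤ J := fun x hx => hLJ ((hIa x).1 hx).1
  have hzF : z ∈ Fa := (hFa z).2 ⟨z_mem_ell b f2, Or.inl (mul_inv_eq_iff_eq_mul.2 haz.eq)⟩
  have hzI : z ∈ Ia := (hIa z).2 ⟨z_mem_ell b f2, 1, one_mem _, Or.inr (by group)⟩
  let Z2 : Subgroup G := Subgroup.zpowers z
  have hZ2 : Nat.card Z2 = 2 := by rw [Nat.card_zpowers, B.orderOf_z b]
  have hZmem : ∀ x ∈ Z2, x = 1 ∨ x = z := by
    rintro _ ⟨k, rfl⟩
    show z ^ k = 1 ∨ z ^ k = z
    rcases Int.even_or_odd k with ⟨m, rfl⟩ | ⟨m, rfl⟩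
    · left; rw [← two_mul, zpow_mul, zpow_two, c.sq, one_zpow]
    · right; rw [zpow_add_one, zpow_mul, zpow_two, c.sq, one_zpow, one_mul]
  -- the intersection
  have hinf : ∀ x ∈ Fa, x ∈ Ia → x = 1 ∨ x = z := by
    intro x hxF hxI
    obtain ⟨hx, k, hk, he⟩ := (hIa x).1 hxI
    have hx' : Eqz z (a * k * a⁻¹) (k * x) := by
      have h1 : Eqz z (x * k) (k * x) :=
        c.eqz_trans (Or.inl (by group : x * k = x * k * x⁻¹ * x))
          (c.eqz_mul_right (c.comm_z (hLJ hx)) (c.conj_eqz (hLJ hx) (hLJ hk)))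
      refine c.eqz_trans (c.eqz_symm ?_) h1
      have := c.eqz_mul_right (c.comm_z (hLJ hk)) he
      rwa [inv_mul_cancel_right] at this
    exact c.odd_trivial haz (by decide) (h81 a ha) (hLJ hx) hx' ((hFa x).1 hxF).2
  -- the sizes
  haveI : Fact (Nat.Prime 2) := ⟨Nat.prime_two⟩
  obtain ⟨i, -, hi⟩ := (Nat.dvd_prime_pow Nat.prime_two).1
    (show Nat.card Fa ∣ 2 ^ 9 from b.card_J ▸ Subgroup.card_dvd_of_le hFJ)
  obtain ⟨i', -, hi'⟩ := (Nat.dvd_prime_pow Nat.prime_two).1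
    (show Nat.card Ia ∣ 2 ^ 9 from b.card_J ▸ Subgroup.card_dvd_of_le hIJ)
  have hvF : v ∈ Fa := (hFa v).2 ⟨hv, hfix⟩
  have hF4 : 2 < Nat.card Fa := by
    rw [← hZ2]
    refine lt_of_le_of_ne (Subgroup.card_le_of_le (Subgroup.zpowers_le.2 hzF)) fun e => ?_
    exact hne (hZmem v ((Subgroup.eq_of_le_of_card_ge (Subgroup.zpowers_le.2 hzF) e.ge).ge hvF))
  have hI4 : 2 < Nat.card Ia := by
    rw [← hZ2]
    refine lt_of_le_of_ne (Subgroup.card_le_of_le (Subgroup.zpowers_le.2 hzI)) fun e => ?_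
    have hIZ := Subgroup.eq_of_le_of_card_ge (Subgroup.zpowers_le.2 hzI) e.ge
    refine ha1 (B.three_inf b hP ha (mem_of_trivial_ell b f2 haz fun x hx => ?_))
    have hm : a * x * a⁻¹ * x⁻¹ ∈ Ia := (hIa _).2 ⟨mul_mem (ell_conj_mem b f2 haz hx) (inv_mem hx),
      x, hx, Or.inl rfl⟩
    rcases hZmem _ (hIZ.ge hm) with e' | e'
    · exact Or.inl (mul_inv_eq_one.1 e')
    · refine Or.inr ?_
      rw [mul_inv_eq_iff_eq_mul] at e'
      rw [e', (c.comm_z (hLJ hx)).eq]
  have hsum : i + i' = 8 := by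
    have : 2 ^ (i + i') = 2 ^ 8 := by rw [pow_add, ← hi, ← hi', hcard]; norm_num
    exact Nat.pow_right_injective le_rfl this
  have hi1 : 2 ≤ i := by
    by_contra h
    have : Nat.card Fa ≤ 2 ^ 1 := hi ▸ Nat.pow_le_pow_right (by norm_num) (by omega)
    omega
  have hi1' : 2 ≤ i' := by
    by_contra h
    have : Nat.card Ia ≤ 2 ^ 1 := hi' ▸ Nat.pow_le_pow_right (by norm_num) (by omega)
    omega
  -- the kernels
  have sqmem : ∀ x ∈ J, x * x ∈ Z2 := fun x hx => by
    rcases c.sq_mem x hx with e | e <;> rw [e]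
    · exact one_mem _
    · exact Subgroup.mem_zpowers z
  have hPF : ∀ p ∈ P, ∀ x ∈ Fa, p * x * p⁻¹ ∈ Fa := by
    intro p hp x hx
    refine (hFa _).2 ⟨ell_conj_mem b f2 (hPz p hp) ((hFa x).1 hx).1, ?_⟩
    have he := c.eqz_conj (hPz p hp) ((hFa x).1 hx).2
    rwa [show p * (a * x * a⁻¹) * p⁻¹ = (p * a) * x * (p * a)⁻¹ by group, (hac p hp).eq,
      show a * p * x * (a * p)⁻¹ = a * (p * x * p⁻¹) * a⁻¹ by group] at he
  have hPI : ∀ p ∈ P, ∀ x ∈ Ia, p * x * p⁻¹ ∈ Ia := by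
    intro p hp x hx
    obtain ⟨hxL, k, hk, he⟩ := (hIa x).1 hx
    refine (hIa _).2 ⟨ell_conj_mem b f2 (hPz p hp) hxL, p * k * p⁻¹,
      ell_conj_mem b f2 (hPz p hp) hk, ?_⟩
    have he' := c.eqz_conj (hPz p hp) he
    rwa [show p * (a * k * a⁻¹ * k⁻¹) * p⁻¹ = p * a * k * (p * a)⁻¹ * (p * k * p⁻¹)⁻¹ by group,
      (hac p hp).eq, show a * p * k * (a * p)⁻¹ = a * (p * k * p⁻¹) * a⁻¹ by group] at he'
  have hPZ : ∀ p ∈ P, ∀ x ∈ Z2, p * x * p⁻¹ ∈ Z2 := by
    intro p hp x hx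
    rcases hZmem x hx with rfl | rfl
    · rw [mul_one, mul_inv_cancel]; exact one_mem _
    · rw [(hPz p hp).eq, mul_inv_cancel_right]; exact hx
  obtain ⟨K, hKP, hK, hd1⟩ := c.exists_kernel (P := P) hFJ (Subgroup.zpowers_le.2 hzF)
    (Subgroup.mem_zpowers z) (fun x hx => sqmem x (hFJ hx)) (d := i - 1)
    (by rw [hi, hZ2, ← pow_succ', show i - 1 + 1 = i by omega]) hPF hPZ
  obtain ⟨K', hK'P, hK', hd2⟩ := c.exists_kernel (P := K) hIJ (Subgroup.zpowers_le.2 hzI)
    (Subgroup.mem_zpowers z) (fun x hx => sqmem x (hIJ hx)) (d := i' - 1)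
    (by rw [hi', hZ2, ← pow_succ', show i' - 1 + 1 = i' by omega])
    (fun p hp => hPI p (hKP hp)) (fun p hp => hPZ p (hKP hp))
  -- `L` is the product
  have hprod : ∀ x ∈ ell J U, ∃ f ∈ Fa, ∃ w ∈ Ia, Eqz z x (f * w) := by
    classical
    intro x hx
    have hFL : Fa ≤ ell J U := fun y hy => ((hFa y).1 hy).1
    have hIL : Ia ≤ ell J U := fun y hy => ((hIa y).1 hy).1
    let g : Fa × Ia → ell J U := fun p => ⟨p.1 * p.2, mul_mem (hFL p.1.2) (hIL p.2.2)⟩
    haveI : Fintype Fa := Fintype.ofFinite _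
    haveI : Fintype Ia := Fintype.ofFinite _
    haveI : Fintype (ell J U) := Fintype.ofFinite _
    have hfib : ∀ y : ell J U, (Finset.univ.filter fun p => g p = y).card ≤ 2 := by
      intro y
      rcases Finset.eq_empty_or_nonempty (Finset.univ.filter fun p => g p = y) with he | ⟨p0, hp0⟩
      · rw [he]; simp
      rw [Finset.mem_filter] at hp0
      refine le_trans (Finset.card_le_card_of_injOn (t := (Finset.univ : Finset Bool))
        (fun p : Fa × Ia => decide ((p.1 : G) = p0.1)) (fun _ _ => Finset.mem_univ _) ?_) (by simp)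
      intro p hp q hq hpq
      rw [Finset.mem_coe, Finset.mem_filter] at hp hq
      have key : ∀ p : Fa × Ia, g p = y → (p.1 : G) = p0.1 ∨ (p.1 : G) = p0.1 * z := by
        intro p hp'
        have e : (p.1 : G) * p.2 = p0.1 * p0.2 := congrArg Subtype.val (hp'.trans hp0.2.symm)
        have e2 : (p0.1 : G)⁻¹ * p.1 = p0.2 * (p.2 : G)⁻¹ := by
          rw [eq_mul_inv_iff_mul_eq, mul_assoc, e, inv_mul_cancel_left]
        rcases hinf _ (mul_mem (inv_mem p0.1.2) p.1.2) (e2 ▸ mul_mem p0.2.2 (inv_mem p.2.2))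
          with h | h
        · exact Or.inl (inv_mul_eq_one.1 h).symm
        · exact Or.inr (inv_mul_eq_iff_eq_mul.1 h)
      have h1 : (p.1 : G) = q.1 := by
        simp only [decide_eq_decide] at hpq
        rcases key p hp.2 with a1 | a1 <;> rcases key q hq.2 with a2 | a2
        · rw [a1, a2]
        · exact absurd (hpq.1 a1) (by rw [a2]; simpa using c.ne_one)
        · exact absurd (hpq.2 a2) (by rw [a1]; simpa using c.ne_one)
        · rw [a1, a2]
      have h2 : (p.1 : G) * p.2 = q.1 * q.2 := congrArg Subtype.val (hp.2.trans hq.2.symm)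
      rw [h1] at h2
      exact Prod.ext (Subtype.ext h1) (Subtype.ext (mul_left_cancel h2))
    have hle := Finset.card_le_mul_card_image Finset.univ 2 (fun y _ => hfib y) (f := g)
    have hsur : Finset.univ.image g = Finset.univ := by
      refine Finset.eq_univ_of_card _ ?_
      refine le_antisymm (Finset.card_le_univ _) ?_
      rw [Finset.card_univ, Fintype.card_prod, ← Nat.card_eq_fintype_card, ← Nat.card_eq_fintype_card,
        hcard] at hle
      rw [← Nat.card_eq_fintype_card, card_ell b f2]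
      omega
    obtain ⟨p, -, hp⟩ := Finset.mem_image.1 (hsur ▸ Finset.mem_univ (⟨x, hx⟩ : ell J U))
    exact ⟨p.1, p.1.2, p.2, p.2.2, Or.inl (congrArg Subtype.val hp).symm⟩
  have hK1 : ∀ k ∈ K', k = 1 := by
    intro k hk
    have hkz := hPz k (hKP (hK'P hk))
    have fixer : ∀ y : G, y⁻¹ * (k * y * k⁻¹) ∈ Z2 → Eqz z (k * y * k⁻¹) y := by
      intro y hy
      rcases hZmem _ hy with e | e
      · exact Or.inl (inv_mul_eq_one.1 e).symm
      · exact Or.inr (inv_mul_eq_iff_eq_mul.1 e)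
    refine B.three_inf b hP (hKP (hK'P hk)) (mem_of_trivial_ell b f2 hkz fun x hx => ?_)
    obtain ⟨f, hf, w, hw, he⟩ := hprod x hx
    refine c.eqz_trans (c.eqz_conj hkz he) (c.eqz_trans ?_ (c.eqz_symm he))
    rw [show k * (f * w) * k⁻¹ = k * f * k⁻¹ * (k * w * k⁻¹) by group]
    exact c.eqz_trans (c.eqz_mul_left (fixer w (hK' k hk w hw)) _)
      (c.eqz_mul_right (c.comm_z (hIJ hw)) (fixer f (hK k (hK'P hk) f hf)))
  have hK'1 : Nat.card K' = 1 := by
    rw [(Subgroup.eq_bot_iff_forall K').2 hK1, Subgroup.card_bot]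
  rw [hK'1, one_mul] at hd2
  rw [hP] at hd1
  have h3 : 81 ∣ Core.autDiv (i' - 1) * Core.autDiv (i - 1) :=
    hd1.trans (mul_dvd_mul_right hd2 _)
  have h81g : 81 ∣ Nat.gcd 81 (Core.autDiv (i' - 1)) * Nat.gcd 81 (Core.autDiv (i - 1)) :=
    (Nat.dvd_gcd dvd_rfl h3).trans (Nat.gcd_mul_right_dvd_mul_gcd 81 _ _)
  have hb := (autDiv_gcd ⟨i - 1, by omega⟩).resolve_right (by simp; omega)
  simp only at hb
  rw [show 6 - (i - 1) = i' - 1 by omega, mul_comm] at hb
  exact absurd (Nat.le_of_dvd (Nat.mul_pos (Nat.gcd_pos_of_pos_left _ (by norm_num))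
    (Nat.gcd_pos_of_pos_left _ (by norm_num))) h81g) (by omega)

/-- A vector of `L` is fixed by no 3-subgroup of order 27. -/
theorem not_twentyseven [Finite G] {v : G} (hv : v ∈ ell J U) (hne : ¬ (v = 1 ∨ v = z)) :
    ¬ 27 ∣ Nat.card (Subgroup.centralizer ({z} : Set G) ⊓ Subgroup.centralizer ({v} : Set G) :
      Subgroup G) := by
  intro h27
  haveI : Fact (Nat.Prime 3) := ⟨Nat.prime_three⟩
  set H := Subgroup.centralizer ({z} : Set G) ⊓ Subgroup.centralizer ({v} : Set G) with hH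
  set C := Subgroup.centralizer ({z} : Set G) with hC
  obtain ⟨Q0, hQ0⟩ := Sylow.exists_subgroup_card_pow_prime (G := H) (p := 3) (n := 3)
    (show 3 ^ 3 ∣ _ from h27)
  set Q : Subgroup G := Q0.map H.subtype with hQ
  have hQc : Nat.card Q = 27 := by
    rw [hQ, Subgroup.card_map_of_injective H.subtype_injective]; norm_num at hQ0; exact hQ0
  have hQH : Q ≤ H := Subgroup.map_subtype_le _
  have hQC : Q ≤ C := hQH.trans inf_le_left
  have hQp : IsPGroup 3 (Q.subgroupOf C) :=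
    (IsPGroup.of_card (n := 3) (by rw [hQc]; norm_num : Nat.card Q = 3 ^ 3)).comap_of_injective
      C.subtype C.subtype_injective
  obtain ⟨S, hS⟩ := hQp.exists_le_sylow
  set P : Subgroup G := (S : Subgroup C).map C.subtype with hPdef
  have hP : Nat.card P = 81 := by
    rw [hPdef, Subgroup.card_map_of_injective C.subtype_injective, S.card_eq_multiplicity,
      hC, b.card_cent, show (2 ^ 9 * 25920 : ℕ) = 3 ^ 4 * 163840 from rfl,
      Nat.factorization_mul (by norm_num) (by norm_num), Nat.Prime.factorization_pow Nat.prime_three]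
    simp [Nat.factorization_eq_zero_of_not_dvd (show ¬ 3 ∣ 163840 by norm_num)]
  have hPC : P ≤ C := Subgroup.map_subtype_le _
  have hQP : Q ≤ P := fun q hq => ⟨⟨q, hQC hq⟩, hS hq, rfl⟩
  have hPp : IsPGroup 3 P := IsPGroup.of_card (n := 4) (by rw [hP]; norm_num)
  -- normal of index three
  haveI hn : (Q.subgroupOf P).Normal := by
    refine Subgroup.normal_of_index_eq_minFac_card ?_
    have h := (Q.subgroupOf P).card_mul_index
    rw [Nat.card_congr (Subgroup.subgroupOfEquivOfLe hQP).toEquiv, hQc, hP] at h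
    rw [hP]
    have : (81 : ℕ).minFac = 3 := by norm_num
    omega
  -- a central element in it
  obtain ⟨a, haQ, ha1, hac⟩ : ∃ a ∈ Q, a ≠ 1 ∧ ∀ p ∈ P, Commute p a := by
    letI : MulAction (ConjAct P) (Q.subgroupOf P) := inferInstance
    have hP' : IsPGroup 3 (ConjAct P) := hPp.of_equiv ConjAct.toConjAct
    have hcard3 : 3 ∣ Nat.card (Q.subgroupOf P) := by
      rw [Nat.card_congr (Subgroup.subgroupOfEquivOfLe hQP).toEquiv, hQc]; norm_num
    obtain ⟨x, hx, hx1⟩ := hP'.exists_fixed_point_of_prime_dvd_card_of_fixed_point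
      (α := Q.subgroupOf P) hcard3 (a := 1) (fun g => smul_one g)
    refine ⟨((x : P) : G), x.2, fun e => hx1 (Subtype.ext (Subtype.ext e.symm)), fun p hp => ?_⟩
    have h1 := congrArg (fun y : Q.subgroupOf P => ((y : P) : G)) (hx (ConjAct.toConjAct ⟨p, hp⟩))
    exact mul_inv_eq_iff_eq_mul.1 h1
  refine hne (fpf b f2 hP (fun p hp => mem_cent.1 (hPC hp)) (hQP haQ) hac ha1 hv (Or.inl ?_))
  rw [mul_inv_eq_iff_eq_mul]
  exact (Subgroup.mem_centralizer_singleton_iff.1 (hQH haQ).2)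

end Fx

end H55.U6C
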