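import Cfsg.Agent.H55.U6C.Extra
import Cfsg.Agent.H31.FourComm

/-!
Tools for the action of `C(z)` on its core: the projection to the quotient, elements of odd order,
the splitting by an element, and the bound for kernels on small sections.
-/

set_option autoImplicit false

namespace H55.U6C

variable {G : Type*} [Group G]

/-- Conjugation as powers. -/
theorem conj_pow_eq (g x : G) (n : ℕ) : (g * x * g⁻¹) ^ n = g * x ^ n * g⁻¹ := conj_pow

namespace Core

variable {z : G} {J : Subgroup G}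

theorem commute_pow_z (_c : Core z J) {g : G} (hg : Commute g z) (n : ℕ) : Commute (g ^ n) z :=
  hg.pow_left n

theorem z_pow_odd (c : Core z J) {n : ℕ} (hn : Odd n) : z ^ n = z := by
  obtain ⟨m, rfl⟩ := hn
  rw [pow_succ, pow_mul, pow_two, c.sq, one_pow, one_mul]

/-- An element of odd order fixing `x` modulo the centre fixes it. -/
theorem odd_fix (c : Core z J) {g x : G} {n : ℕ} (hg : Commute g z) (hn : Odd n) (hgn : g ^ n = 1)
    (h : Eqz z (g * x * g⁻¹) x) : g * x * g⁻¹ = x := by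
  rcases h with h | h
  · exact h
  have key : ∀ k : ℕ, g ^ k * x * (g ^ k)⁻¹ = x * z ^ k := by
    intro k
    induction k with
    | zero => simp
    | succ k ih =>
      rw [pow_succ', show g * g ^ k * x * (g * g ^ k)⁻¹ = g * (g ^ k * x * (g ^ k)⁻¹) * g⁻¹ by group,
        ih, show g * (x * z ^ k) * g⁻¹ = g * x * g⁻¹ * (g * z ^ k * g⁻¹) by group, h,
        mul_inv_eq_iff_eq_mul.2 (hg.pow_right k).eq, pow_succ', mul_assoc]
  have := key n
  rw [hgn, one_mul, inv_one, mul_one, c.z_pow_odd hn] at this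
  exact absurd (mul_left_cancel (this.symm.trans (mul_one x).symm)) c.ne_one

/-- An element of odd order moving `x` by a fixed element fixes it. -/
theorem odd_trivial (c : Core z J) {g x u : G} {n : ℕ} (hg : Commute g z) (hn : Odd n)
    (hgn : g ^ n = 1) (hu : u ∈ J) (h : Eqz z (g * x * g⁻¹) (x * u))
    (hfix : Eqz z (g * u * g⁻¹) u) : u = 1 ∨ u = z := by
  have key : ∀ k : ℕ, Eqz z (g ^ k * x * (g ^ k)⁻¹) (x * u ^ k) := by
    intro k
    induction k with
    | zero => simp [Eqz]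
    | succ k ih =>
      rw [show g ^ (k + 1) * x * (g ^ (k + 1))⁻¹ = g * (g ^ k * x * (g ^ k)⁻¹) * g⁻¹ by
        rw [pow_succ']; group]
      refine c.eqz_trans (c.eqz_conj hg ih) ?_
      have hfix' : g * u * g⁻¹ = u := c.odd_fix hg hn hgn hfix
      rw [show g * (x * u ^ k) * g⁻¹ = g * x * g⁻¹ * (g * u ^ k * g⁻¹) by group,
        ← conj_pow_eq, hfix', pow_succ', ← mul_assoc x u]
      exact c.eqz_mul_right (c.comm_z (pow_mem hu k)) h
  have h1 := key n
  rw [hgn, one_mul, inv_one, mul_one] at h1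
  obtain ⟨m, rfl⟩ := hn
  have h2 : Eqz z (u ^ (2 * m + 1)) u := by
    have hm : u ^ (2 * m) = 1 ∨ u ^ (2 * m) = z := by
      rcases c.sq_mem u hu with e | e <;> rw [pow_mul, pow_two, e]
      · exact Or.inl (one_pow _)
      · rcases Nat.even_or_odd m with hm | hm
        · obtain ⟨k, rfl⟩ := hm
          exact Or.inl (by rw [← two_mul, pow_mul, pow_two, c.sq, one_pow])
        · exact Or.inr (c.z_pow_odd hm)
    rw [pow_succ]
    rcases hm with e | e <;> rw [e]
    · exact Or.inl (one_mul u)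
    · exact Or.inr (c.comm_z hu).symm.eq
  have h3 : Eqz z (x * u) x :=
    c.eqz_symm (c.eqz_trans h1 (c.eqz_mul_left h2 x))
  rcases h3 with h3 | h3
  · exact Or.inl (mul_left_cancel (h3.trans (mul_one x).symm))
  · exact Or.inr (mul_left_cancel h3)

/-- The fixed part and the commutator part of a subgroup under one element. -/
theorem exists_split [Finite G] (c : Core z J) {g : G} (hg : Commute g z) {A : Subgroup G}
    (hA : A ≤ J) (hz : z ∈ A) (hgA : ∀ a ∈ A, g * a * g⁻¹ ∈ A) :
    ∃ Fx Ix : Subgroup G, (∀ x, x ∈ Fx ↔ x ∈ A ∧ Eqz z (g * x * g⁻¹) x) ∧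
      (∀ x, x ∈ Ix ↔ x ∈ A ∧ ∃ k ∈ A, Eqz z x (g * k * g⁻¹ * k⁻¹)) ∧
      Nat.card Fx * Nat.card Ix = 2 * Nat.card A := by
  set N := (Subgroup.zpowers z).subgroupOf A with hN
  have hmem : ∀ a : A, a ∈ N ↔ (a : G) = 1 ∨ (a : G) = z := by
    intro a
    rw [hN, Subgroup.mem_subgroupOf]
    constructor
    · rintro ⟨k, hk⟩
      have hk : z ^ k = (a : G) := hk
      rcases Int.even_or_odd k with ⟨m, rfl⟩ | ⟨m, rfl⟩
      · left; rw [← hk, ← two_mul, zpow_mul, zpow_two, c.sq, one_zpow]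
      · right; rw [← hk, zpow_add_one, zpow_mul, zpow_two, c.sq, one_zpow, one_mul]
    · rintro (h | h) <;> rw [h]
      · exact one_mem _
      · exact Subgroup.mem_zpowers z
  haveI : N.Normal := ⟨fun n hn x => by
    rw [hmem] at hn ⊢
    simp only [Subgroup.coe_mul, InvMemClass.coe_inv]
    rcases hn with h | h <;> rw [h]
    · exact Or.inl (by rw [mul_one, mul_inv_cancel])
    · exact Or.inr (mul_inv_eq_iff_eq_mul.2 (c.comm_z (hA x.2)).eq)⟩
  have hmk : ∀ a b : A, (QuotientGroup.mk a : A ⧸ N) = QuotientGroup.mk b ↔ Eqz z (b : G) a := by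
    intro a b
    rw [QuotientGroup.eq, hmem]
    simp only [Subgroup.coe_mul, InvMemClass.coe_inv, Eqz, inv_mul_eq_iff_eq_mul, mul_one]
  letI : CommGroup (A ⧸ N) :=
    { (inferInstance : Group (A ⧸ N)) with
      mul_comm := fun p q => by
        obtain ⟨a, rfl⟩ := QuotientGroup.mk_surjective p
        obtain ⟨b, rfl⟩ := QuotientGroup.mk_surjective q
        rw [← QuotientGroup.mk_mul, ← QuotientGroup.mk_mul, hmk]
        simp only [Subgroup.coe_mul]
        rcases c.comm_mem _ (hA b.2) _ (hA a.2) with h | h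
        · exact Or.inl h
        · exact Or.inr h }
  let cj : A →* A :=
    { toFun := fun a => ⟨g * a * g⁻¹, hgA a a.2⟩
      map_one' := Subtype.ext (by simp)
      map_mul' := fun a b => Subtype.ext (by
        show g * ((a : G) * b) * g⁻¹ = g * a * g⁻¹ * (g * b * g⁻¹); group) }
  let d : A →* A ⧸ N :=
    { toFun := fun a => (QuotientGroup.mk (cj a) : A ⧸ N) * (QuotientGroup.mk a)⁻¹
      map_one' := by simp
      map_mul' := fun a b => by
        rw [map_mul, QuotientGroup.mk_mul, QuotientGroup.mk_mul, mul_inv, mul_mul_mul_comm] }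
  let mk : A →* A ⧸ N := QuotientGroup.mk' N
  let Fx := d.ker.map A.subtype
  let Ix := (d.range.comap mk).map A.subtype
  refine ⟨Fx, Ix, ?_, ?_, ?_⟩
  · intro x
    constructor
    · rintro ⟨a, ha, rfl⟩
      have ha : (QuotientGroup.mk (cj a) : A ⧸ N) * (QuotientGroup.mk a)⁻¹ = 1 := ha
      rw [mul_inv_eq_one, eq_comm, hmk] at ha
      exact ⟨a.2, ha⟩
    · rintro ⟨hx, h⟩
      refine ⟨⟨x, hx⟩, ?_, rfl⟩
      show (QuotientGroup.mk (cj ⟨x, hx⟩) : A ⧸ N) * (QuotientGroup.mk ⟨x, hx⟩)⁻¹ = 1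
      rw [mul_inv_eq_one, eq_comm, hmk]
      exact h
  · intro x
    constructor
    · rintro ⟨a, ⟨k, hk⟩, rfl⟩
      have hk : (QuotientGroup.mk (cj k) : A ⧸ N) * (QuotientGroup.mk k)⁻¹ = QuotientGroup.mk a := hk
      rw [← QuotientGroup.mk_inv, ← QuotientGroup.mk_mul, hmk] at hk
      exact ⟨a.2, k, k.2, hk⟩
    · rintro ⟨hx, k, hk, h⟩
      refine ⟨⟨x, hx⟩, ⟨⟨k, hk⟩, ?_⟩, rfl⟩
      show (QuotientGroup.mk (cj ⟨k, hk⟩) : A ⧸ N) * (QuotientGroup.mk ⟨k, hk⟩)⁻¹ =
        QuotientGroup.mk ⟨x, hx⟩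
      rw [← QuotientGroup.mk_inv, ← QuotientGroup.mk_mul, hmk]
      exact h
  · have hc1 : Nat.card Fx = Nat.card d.ker :=
      Subgroup.card_map_of_injective A.subtype_injective
    have hc2 : Nat.card Ix = Nat.card (d.range.comap mk) :=
      Subgroup.card_map_of_injective A.subtype_injective
    have hi : (d.range.comap mk).index = d.range.index :=
      Subgroup.index_comap_of_surjective _ (QuotientGroup.mk'_surjective N)
    have e1 := (d.range.comap mk).card_mul_index
    have e2 := d.range.card_mul_index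
    have e3 : Nat.card d.ker * Nat.card d.range = Nat.card A := by
      rw [← Subgroup.index_ker d]; exact d.ker.card_mul_index
    have e4 := Subgroup.card_eq_card_quotient_mul_card_subgroup N
    have e5 : Nat.card N = 2 := by
      rw [Nat.card_congr (Subgroup.subgroupOfEquivOfLe (Subgroup.zpowers_le.2 hz)).toEquiv,
        Nat.card_zpowers, orderOf_eq_prime (by rw [pow_two, c.sq]) c.ne_one]
    rw [hi, ← hc2] at e1
    rw [e5, ← e2] at e4
    have hpos : 0 < d.range.index := Nat.pos_of_ne_zero Subgroup.index_ne_zero_of_finite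
    rw [hc1]
    have h5 : Nat.card Ix = 2 * Nat.card d.range := by nlinarith
    rw [h5, ← e3]; ring

/-- The automorphisms of an elementary group of order `2 ^ d`, as a bound. -/
def autDiv (d : ℕ) : ℕ := ∏ i ∈ Finset.range d, (2 ^ d - 2 ^ i)

/-- The kernel of the action of `P` on an elementary section. -/
theorem exists_kernel [Finite G] (c : Core z J) {A N P : Subgroup G} (hA : A ≤ J) (hNA : N ≤ A)
    (hz : z ∈ N) (hsq : ∀ a ∈ A, a * a ∈ N) {d : ℕ} (hd : Nat.card A = Nat.card N * 2 ^ d)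
    (hPA : ∀ p ∈ P, ∀ a ∈ A, p * a * p⁻¹ ∈ A) (hPN : ∀ p ∈ P, ∀ a ∈ N, p * a * p⁻¹ ∈ N) :
    ∃ K : Subgroup G, K ≤ P ∧ (∀ k ∈ K, ∀ a ∈ A, a⁻¹ * (k * a * k⁻¹) ∈ N) ∧
      Nat.card P ∣ Nat.card K * autDiv d := by
  set N' := N.subgroupOf A with hN'
  haveI : N'.Normal := ⟨fun n hn x => by
    rw [hN', Subgroup.mem_subgroupOf] at hn ⊢
    exact c.eqz_mem hz (c.conj_eqz (hA x.2) (hA (hNA hn))) hn⟩
  letI : CommGroup (A ⧸ N') :=
    { (inferInstance : Group (A ⧸ N')) with
      mul_comm := fun p q => by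
        obtain ⟨a, rfl⟩ := QuotientGroup.mk_surjective p
        obtain ⟨b, rfl⟩ := QuotientGroup.mk_surjective q
        rw [← QuotientGroup.mk_mul, ← QuotientGroup.mk_mul, QuotientGroup.eq, hN',
          Subgroup.mem_subgroupOf]
        simp only [Subgroup.coe_mul, InvMemClass.coe_inv]
        rcases c.comm_mem _ (hA a.2) _ (hA b.2) with h | h
        · rw [h, inv_mul_cancel]; exact one_mem _
        · rw [h, show ((b : G) * a * z)⁻¹ * (b * a) = z⁻¹ by group]; exact inv_mem hz }
  have hexp : ∀ q : A ⧸ N', q * q = 1 := by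
    intro q
    obtain ⟨a, rfl⟩ := QuotientGroup.mk_surjective q
    rw [← QuotientGroup.mk_mul, QuotientGroup.eq_one_iff, hN', Subgroup.mem_subgroupOf]
    exact hsq a a.2
  have hcard : Nat.card (A ⧸ N') = 2 ^ d := by
    have h1 := Subgroup.card_eq_card_quotient_mul_card_subgroup N'
    rw [hd, Nat.card_congr (Subgroup.subgroupOfEquivOfLe hNA).toEquiv, mul_comm (Nat.card N)] at h1
    exact (Nat.eq_of_mul_eq_mul_right Nat.card_pos h1).symm
  let cj : P → A →* A := fun p =>
    { toFun := fun a => ⟨p * a * (p : G)⁻¹, hPA p p.2 a a.2⟩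
      map_one' := Subtype.ext (by simp)
      map_mul' := fun a b => Subtype.ext (by
        show (p : G) * ((a : G) * b) * (p : G)⁻¹ = p * a * (p : G)⁻¹ * (p * b * (p : G)⁻¹); group) }
  have hle : ∀ p : P, N' ≤ N'.comap (cj p) := fun p a ha => by
    rw [Subgroup.mem_comap, hN', Subgroup.mem_subgroupOf]
    exact hPN p p.2 _ ha
  let ρf : P → A ⧸ N' →* A ⧸ N' := fun p => QuotientGroup.map N' N' (cj p) (hle p)
  have hρmul : ∀ p q : P, ∀ x, ρf (p * q) x = ρf p (ρf q x) := by
    intro p q x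
    obtain ⟨a, rfl⟩ := QuotientGroup.mk_surjective x
    show (QuotientGroup.mk (cj (p * q) a) : A ⧸ N') = QuotientGroup.mk (cj p (cj q a))
    congr 1
    apply Subtype.ext
    show ((p : G) * q) * a * ((p : G) * q)⁻¹ = p * (q * a * (q : G)⁻¹) * (p : G)⁻¹
    group
  have hρone : ∀ x, ρf 1 x = x := by
    intro x
    obtain ⟨a, rfl⟩ := QuotientGroup.mk_surjective x
    show (QuotientGroup.mk (cj 1 a) : A ⧸ N') = QuotientGroup.mk a
    congr 1
    exact Subtype.ext (by show (1 : G) * a * (1 : G)⁻¹ = a; simp)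
  let ρ : P →* MulAut (A ⧸ N') :=
    { toFun := fun p =>
        { toFun := ρf p
          invFun := ρf p⁻¹
          left_inv := fun x => by rw [← hρmul, inv_mul_cancel, hρone]
          right_inv := fun x => by rw [← hρmul, mul_inv_cancel, hρone]
          map_mul' := map_mul _ }
      map_one' := MulEquiv.ext hρone
      map_mul' := fun p q => MulEquiv.ext (hρmul p q) }
  refine ⟨ρ.ker.map P.subtype, Subgroup.map_subtype_le _, ?_, ?_⟩
  · rintro _ ⟨p, hp, rfl⟩ a ha
    have h := MulEquiv.congr_fun (MonoidHom.mem_ker.1 hp) (QuotientGroup.mk ⟨a, ha⟩)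
    have h' : (QuotientGroup.mk (cj p ⟨a, ha⟩) : A ⧸ N') = QuotientGroup.mk ⟨a, ha⟩ := h
    rw [eq_comm, QuotientGroup.eq, hN', Subgroup.mem_subgroupOf] at h'
    exact h'
  · rw [Subgroup.card_map_of_injective P.subtype_injective,
      ← ρ.ker.card_mul_index, Subgroup.index_ker ρ]
    refine mul_dvd_mul_left _ ((Subgroup.card_subgroup_dvd_card ρ.range).trans ?_)
    haveI : Fact (Nat.Prime 2) := ⟨Nat.prime_two⟩
    refine (Cfsg.Agent.H29.card_automorphisms_dvd hcard (r := d) ?_).trans ?_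
    · rw [H31.FourComm.frattini_eq_bot hexp, Subgroup.index_bot, hcard]
    · rw [Nat.sub_self, mul_zero, pow_zero, one_mul]
      exact dvd_rfl

end Core

end H55.U6C
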